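import Mathlib.Data.List.Range

/-!
# Words reaching the suborbit points
-/

set_option autoImplicit false

namespace Cfsg.Agent.Co3Rank

/-- The base point. -/
def baseA : List Int := [2,0,0,0,0,0,0,0,0,0,0,2,2,2,2,2,0,0,2,0,0,2,0,0]

/-- Words to the images giving the further representatives. -/
def linkA : List (List Nat) := [[0,1]]

/-- Words. -/
def wordsA0 : List (List Nat) := [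
  [0,5,5,0],
  [0,6,2],
  [0,8,7,0],
  [0,3,4,0],
  [0,7,3,0],
  [0,3,4,1],
  [0,6,6],
  [0,7,5,0],
  [0,1,4,1],
  [0,7,4],
  [0,0,4],
  [0,5,1],
  [0,5,8],
  [0,5,4],
  [0,7,7,3],
  [0,1,0,5],
  [0,8,8,0],
  [0,4,0,0],
  [0,5,6],
  [0,0,0,3],
  [0,0,7,4],
  [0,3,0,0],
  [0,4],
  [0,1,2],
  [0,6,1],
  [0,0,3],
  [0,7,0],
  [0,2,4],
  [0,8,1,1],
  [0,7,7],
  [0,3,8],
  [0,5,3],
  [0,6,2,1],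
  [0,8,5,1],
  [0,6,8],
  [0,2,5,0],
  [0,1,6,6],
  [0,0,5,1],
  [0,6,6,0],
  [0,5],
  [0,8,3],
  [0,0,8,2],
  [0,4,8,1],
  [0,0,1,2],
  [0,7,8,2],
  [0,6,3,0],
  [0,8,4],
  [0,2,6],
  [0,1,6,0],
  [0,8,6,2],
  [0,4,4],
  [0,0,4,7],
  [0,0,5,3],
  [0,4,7,1],
  [0,1,1,1],
  [0,1,6,2],
  [0,6,8,1],
  [0,4,4,0],
  [0,2,6,1],
  [0,7,5,1],
  [0,1,1],
  [0,7,1,0],
  [0,3,5],
  [0,5,5,4],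
  [0,7,6,0],
  [0,1,0,3,0],
  [0,7,3,3],
  [0,7,5],
  [0,0,5,4],
  [0,4,2,1],
  [0,6,7,0],
  [0,4,1],
  [0,6,7,2],
  [0,6,5,4],
  [0,4,0],
  [0,6,5],
  [0,7,1,2],
  [0,1,2,1],
  [0,6,1,1],
  [0,7,6,6,0],
  [0,6,3],
  [0,6,3,3],
  [0,5,4,1],
  [0,6,5,0],
  [0,2,2],
  [0,8,6],
  [0,0,3,3],
  [0,4,0,3],
  [0,3,2,1],
  [0,8,0,0],
  [0,7,0,1],
  [0,1,5,0],
  [0,5,4,0],
  [0,4,2,4],
  [0,8,3,0],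
  [0],
  [0,1,0],
  [0,5,0],
  [0,6],
  [0,0,7]]

/-- Words. -/
def wordsA1 : List (List Nat) := [
  [0,0,5],
  [0,6,1,0],
  [0,8],
  [0,6,4],
  [0,4,5,8],
  [0,5,7],
  [0,3,6,4],
  [0,1,0,1],
  [0,5,5,3],
  [0,8,2,2],
  [0,2,7],
  [0,0,0],
  [0,3,4,0,0],
  [0,3,5,4],
  [0,2,7,3],
  [0,2,3],
  [0,2,6,0],
  [0,7,0,0],
  [0,4,8],
  [0,1],
  [0,5,1,0],
  [0,0,1,0],
  [0,7,6],
  [0,6,4,0],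
  [0,6,0],
  [0,6,7],
  [0,4,3],
  [0,8,2],
  [0,1,8],
  [0,7,3],
  [0,7,6,1],
  [0,2,6,5],
  [0,3],
  [0,8,5],
  [0,4,7,4],
  [0,5,2],
  [0,3,7,1],
  [0,1,8,1],
  [0,5,3,3],
  [0,0,3,0],
  [0,2],
  [0,7],
  [0,3,3],
  [0,3,5,2],
  [0,2,1],
  [0,0,0,0],
  [0,5,2,1],
  [0,0],
  [0,3,7,0],
  [0,8,0],
  [0,4,7],
  [0,0,5,0],
  [0,2,6,2],
  [0,0,5,4,0],
  [0,8,4,0],
  [0,5,8,1],
  [0,7,2],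
  [0,5,5],
  [0,1,0,0],
  [0,5,8,0],
  [0,6,4,1],
  [0,6,6,3],
  [0,2,2,1],
  [0,3,0],
  [0,1,6],
  [0,1,1,0],
  [0,8,1],
  [0,3,6],
  [0,7,4,0],
  [0,4,6,2],
  [0,2,7,1],
  [0,7,1],
  [0,1,7,0],
  [0,1,0,3],
  [0,0,1],
  [0,5,2,2],
  [1,7,3,0],
  [1,6,7],
  [1,0,6,1],
  [1,2,6,6],
  [1,1,4],
  [1,6,5],
  [1,5,6],
  [1,4,6,0],
  [1,8,7,0],
  [1,5,1,1],
  [1,8,3],
  [1,3,5],
  [1,5,3,0],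
  [1,1,2,1],
  [1,7,5],
  [1,0,3],
  [1,5,1,0],
  [1,6,6,3],
  [1,3,6,0],
  [1,4,4,1],
  [1,0,8,3],
  [1,4,6,1],
  [1,2,5,0],
  [1,6,0,1]]

/-- Words. -/
def wordsA2 : List (List Nat) := [
  [1,7,8],
  [1,3,3,3],
  [1,1,0],
  [1,4,2,2],
  [1,2,7,6],
  [1,4,5,0],
  [1,2,2],
  [1,5,7,6],
  [1,0,4,2],
  [1,1,0,1],
  [1,2,4,0],
  [1,7,1,5],
  [1,7,3,2],
  [1,3,2],
  [1,8,2,3],
  [1,4],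
  [1,8,0,4],
  [1,4,7,1],
  [1,4,0,0],
  [1,7,7,2],
  [1,5,0,4],
  [1,2,3,3],
  [1],
  [1,2,3,0],
  [1,6,6],
  [1,6,4],
  [1,3,4],
  [1,5,3,6],
  [1,4,6,6],
  [1,2,7],
  [1,7,2,1],
  [1,7,8,3],
  [1,5,0,1],
  [1,3],
  [1,5,3,3],
  [1,8,1,5],
  [1,8,2,1,0],
  [1,2],
  [1,4,4,0],
  [1,1,2],
  [1,7,6],
  [1,5,7],
  [1,3,7],
  [1,1,0,4],
  [1,8,5,7],
  [1,3,6,1],
  [1,0,0,6],
  [1,6,0,0],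
  [1,6,1],
  [1,7,0],
  [1,4,8,2],
  [1,7,2],
  [1,4,0],
  [1,0,0,4],
  [1,8,2],
  [1,3,8,3],
  [1,8,0,3],
  [1,0,0,8],
  [1,4,2,1],
  [1,7,8,3,0],
  [1,4,1,0],
  [1,3,2,3],
  [1,2,1,0],
  [1,8,7,5],
  [1,5,5],
  [1,1,5],
  [1,4,1,2],
  [1,7,7,8],
  [1,4,2],
  [1,1,6,0],
  [1,3,6],
  [1,1,1],
  [1,8,5],
  [1,3,3],
  [1,7,4,0],
  [1,2,3],
  [1,6,1,6],
  [1,8,7,1],
  [1,0,6],
  [1,8,7],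
  [1,0,0,0],
  [1,7,6,1],
  [1,5],
  [1,0,5,1],
  [1,3,4,0],
  [1,6,0],
  [1,0,5],
  [1,2,7,4,0],
  [1,8,3,0],
  [1,6],
  [1,1,4,0],
  [1,8,6],
  [1,8,4],
  [1,1,7],
  [1,0],
  [1,5,0],
  [1,3,0],
  [1,6,3],
  [1,4,1,4],
  [1,2,7,1]]

/-- Words. -/
def wordsA3 : List (List Nat) := [
  [1,2,1,2],
  [1,4,1],
  [1,0,8],
  [1,4,7],
  [1,0,4],
  [1,8,1],
  [1,4,1,1],
  [1,0,5,0],
  [1,8,6,0],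
  [1,5,4,2],
  [1,4,6],
  [1,7,4,8],
  [1,1,6],
  [1,7,7],
  [1,1,0,0],
  [1,1,8],
  [1,0,1,0],
  [1,6,7,0],
  [1,5,0,0],
  [1,4,8],
  [1,6,5,0],
  [1,3,7,0],
  [1,3,7,2],
  [1,0,3,0],
  [1,2,1],
  [1,2,5,1],
  [1,8,2,1],
  [1,2,8,1],
  [1,4,6,3],
  [1,1],
  [1,4,8,3],
  [1,2,8],
  [1,6,4,1],
  [1,2,5],
  [1,1,1,2],
  [1,0,0],
  [1,7,0,0],
  [1,7],
  [1,5,1],
  [1,5,7,0],
  [1,7,0,1],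
  [1,0,1],
  [1,7,1],
  [1,2,2,1],
  [1,8,8],
  [1,8],
  [1,6,8,5],
  [1,2,4,7],
  [1,1,5,1],
  [1,4,5],
  [1,3,3,0],
  [1,3,8]]

/-- All words, each preceded by the number of its representative, sorted by the points reached. -/
def wordsA : List (List Nat) :=
  List.flatten [wordsA0,wordsA1,wordsA2,wordsA3]

end Cfsg.Agent.Co3Rank
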