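import Mathlib.Data.List.Range

/-!
# Words reaching the suborbit points
-/

set_option autoImplicit false

namespace Cfsg.Agent.Co3Rank

/-- The base point. -/
def baseC : List Int := [0,0,0,0,0,0,0,0,0,0,2,2,2,2,2,0,0,2,0,0,2,0,2,0]

/-- Words to the images giving the further representatives. -/
def linkC : List (List Nat) := [[],[4,2,6]]

/-- Words. -/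
def wordsC0 : List (List Nat) := [
  [0,1,8,0],
  [0,8,8,1],
  [0,5,1,7],
  [0,0,4,3],
  [0,7,5],
  [0,3,2,6],
  [0,6,2,3],
  [0,2,5],
  [0,7,8,1],
  [0,6,6,6],
  [0,7,5,0],
  [0,2,1,0,0],
  [0,6,8],
  [0,7,6,5,0],
  [0,8,0,0],
  [0,2,8,0],
  [0,7,3,4],
  [0,6,7,3],
  [0,7,6,0],
  [0,6,2,1],
  [0,5,4,4],
  [0,2,1,2],
  [0,5,3],
  [0,8,6,6],
  [0,7,0,1],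
  [0,5,7,3],
  [0,0,4,7],
  [0,4,5],
  [0,2,8,1],
  [0,6,2],
  [0,2,3,3],
  [0,0,4],
  [0,8,6,8],
  [0,6,7,6],
  [0,5,3,0],
  [0,3,2,7],
  [0,5],
  [0,8,5,1],
  [0,8,1,7],
  [0,8,1,2],
  [0,4,0,4,0],
  [0,0,1],
  [0,5,6,4],
  [0,8,1],
  [0,3,3,0],
  [0,0,5],
  [0,0,5,2],
  [0,1,0,0],
  [0,2,6],
  [0,4,5,4],
  [0,8,5,2],
  [0,3,0,0,0],
  [0,8,2,5],
  [0,2,6,3],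
  [0,0,6,0],
  [0,2,5,4],
  [0,0,5,1],
  [0,5,0,1],
  [0,5,5,1],
  [0,4,1,1],
  [0,0,7,6],
  [0,0,6,2],
  [0,2,1,0],
  [0,8,8,0],
  [0,8],
  [0,4,1],
  [0,0,8,6,0],
  [0,3,3],
  [0,4,5,0],
  [0,4,4,3],
  [0,4,5,1],
  [0,8,8,0,0],
  [0,3,2,3,0],
  [0,7,7],
  [0,6,3,0],
  [0,4,7,6,0],
  [0,4,0,4],
  [0,5,6,6],
  [0,8,0,4],
  [0,5,5,4],
  [0,8,5,3],
  [0,3,8,4],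
  [0,6,6,1],
  [0,0,1,1,0],
  [0,8,6,0],
  [0,4,7,2],
  [0,8,7,5],
  [0,3,4,3],
  [0,7,7,6,0],
  [0,5,1],
  [0,5,8,1],
  [0,8,0],
  [0,7,4,5],
  [0,4,7,0],
  [0,0,0],
  [0,1,1,1],
  [0,1,4,2],
  [0,5,6,1],
  [0,1,5,1,0],
  [0,8,8,5,1]]

/-- Words. -/
def wordsC1 : List (List Nat) := [
  [0,1],
  [0,6,7,7],
  [0,0,8,0],
  [0,2,8,0,0],
  [0,2,4,5],
  [0,7,0,5],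
  [0,7,0,5,0],
  [0,0],
  [0,1,2],
  [0,2,6,1],
  [0,1,7],
  [0,2,2,4],
  [0,2,4,1,0],
  [0,0,1,2],
  [0,7,5,3],
  [0,4,7,1],
  [0,0,0,0],
  [0,8,4],
  [0,7,0,4],
  [0,6,4,5],
  [0,6,1,0],
  [0,1,8,2],
  [0,4,8],
  [0,7,8,2],
  [0,6,7,2],
  [0,7,7,0],
  [0,8,5],
  [0,4,4,4],
  [0,6,1],
  [0,4,2,6],
  [0,2,2,1],
  [0,4,0,3],
  [0,1,6,1],
  [0,2,4],
  [0,8,0,3,0],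
  [0,7,1,2],
  [0,5,0],
  [0,3,2,1],
  [0,0,8,5],
  [0,2,5,0,0],
  [0,5,4,2],
  [0,0,4,1],
  [0,4,5,3],
  [0,4,2],
  [0,2,4,3],
  [0,7,3,5],
  [0,8,2],
  [0,6,5,2],
  [0,2,6,7],
  [0,8,8,7],
  [0,5,0,3],
  [0,3,4,2],
  [0,8,5,4],
  [0,6,3],
  [0,1,7,3],
  [0,5,4],
  [0,3,2],
  [0,6,8,2],
  [0,4,1,0],
  [0,6,2,6],
  [0,8,1,0],
  [0,6],
  [0,8,0,7,0],
  [0,3,0,0],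
  [0,5,5,0],
  [0,1,1,2],
  [0,7,7,0,0],
  [0,1,0,1],
  [0,3],
  [0,0,8,4],
  [0,4,2,5],
  [0,4,3,2],
  [0,4,8,0],
  [0,1,2,4,0],
  [0,7,0],
  [0,5,3,3],
  [0,6,1,8],
  [0,4,4],
  [0,2,4,0],
  [0,4,8,1],
  [0,1,6,0],
  [0,2,6,5],
  [0,1,1],
  [0,7,1,0],
  [0,3,8,0],
  [0,7,5,7],
  [0,6,8,0],
  [0,2,7,4],
  [0,1,0],
  [0,4,4,0],
  [0,8,1,1],
  [0,0,7,7],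
  [0,7,0,0],
  [0,5,4,0,3],
  [0,0,5,5,1],
  [0,4,3,0],
  [0,5,7],
  [0,7,2,3],
  [0,0,6,1],
  [0,2,6,6]]

/-- Words. -/
def wordsC2 : List (List Nat) := [
  [0,2,3,5],
  [0,7,2],
  [0,1,6,2],
  [0,4,5,8],
  [0,2,2,3,0],
  [0,5,6],
  [0,8,5,7],
  [0,2,6,4],
  [0,3,7],
  [0,5,6,0],
  [0,2,5,3],
  [0,5,5,6],
  [0,0,1,0],
  [0,3,3,3],
  [0,5,7,0],
  [0,2,2,6],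
  [0,2,7,7],
  [0,7,4],
  [0,4,3,5],
  [0,3,4],
  [0,7,6],
  [0,5,2,6],
  [0,1,1,0],
  [0,0,0,4,0],
  [0,8,6,1,0],
  [0,8,2,3],
  [0,0,1,1],
  [0,8,0,0,0],
  [0,7,6,4],
  [0,2,1],
  [0,4,8,0,0],
  [0,1,2,1],
  [0,1,4,3],
  [0,4],
  [0,6,0],
  [0,5,2],
  [0,7,7,1],
  [0,5,2,1],
  [0,7,4,4],
  [0,3,6,3],
  [0,3,3,7],
  [0,0,3,2],
  [0,1,7,1],
  [0,1,8],
  [0,8,4,1],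
  [0,2,3,2],
  [0,0,5,0],
  [0,3,4,1],
  [0,3,5,2],
  [0,2,7,0],
  [0,1,7,5,0],
  [0,6,8,5],
  [0,6,6,3],
  [0,5,0,0],
  [0,5,8],
  [0,5,2,3,0],
  [0,7,3,0],
  [0,1,6,6],
  [0,5,7,6],
  [0,5,8,7],
  [0,7,3],
  [0,2,7,2],
  [0,7,2,1],
  [0,4,7],
  [0,5,1,0],
  [0,3,6,2],
  [0,5,7,7],
  [0,6,6,0],
  [0,4,3],
  [0,6,6],
  [0,3,5],
  [0],
  [0,0,0,3,0],
  [0,7,7,5],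
  [0,6,1,1],
  [0,1,5,8],
  [0,6,7],
  [0,7,8],
  [0,8,8,5],
  [0,0,4,2],
  [0,1,0,4,0],
  [0,6,7,3,0],
  [0,2,8,2],
  [0,6,4,8],
  [0,3,6,0],
  [0,8,5,0,1],
  [0,3,4,5],
  [0,0,8,2],
  [0,2,3],
  [0,7,2,6],
  [0,6,4,0],
  [0,6,4,7],
  [0,2,7,6],
  [0,0,5,6],
  [0,2,5,8],
  [0,8,4,4],
  [0,4,6,0],
  [0,0,4,0],
  [0,6,4],
  [0,1,5,4]]

/-- Words. -/
def wordsC3 : List (List Nat) := [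
  [0,7,6,6],
  [0,6,5,0],
  [0,8,7,0],
  [0,0,7,1],
  [0,6,4,2],
  [0,4,3,4],
  [0,8,3,0],
  [0,0,3,0],
  [0,0,3],
  [0,4,0],
  [0,3,0,1],
  [0,3,0],
  [0,7,1],
  [0,2,3,0],
  [0,7],
  [0,5,0,4],
  [0,0,3,7],
  [0,1,8,3,0],
  [0,7,4,7],
  [0,3,8,1],
  [0,8,7],
  [0,7,8,0],
  [0,8,7,1],
  [0,2],
  [0,0,7,0],
  [0,4,7,3],
  [0,3,6],
  [0,2,7],
  [0,6,5],
  [0,1,7,8],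
  [1,0,0,3,0],
  [1,7,6,1,2],
  [1,6,6,0],
  [1,7,5,0,1],
  [1,8,5],
  [1,1,6,7],
  [1,2,2,4,0],
  [1,8,1,2,1],
  [1,7,3,3],
  [1,1,6,3,3],
  [1,6,5,8,0],
  [1,0,1,6,2],
  [1,3,5,1,1],
  [1,6,1,1,2],
  [1,4,4,2],
  [1,7,1,7],
  [1,2,8,6,1],
  [1,6,4,2,2],
  [1,6,8,3,4],
  [1,6,1,7,4],
  [1,3,5,5,8],
  [1,5,7,8,1],
  [1,1,2,7,0,0],
  [1,4,0],
  [1,7,6,5,2],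
  [1,6,7,8,1],
  [1,0,4,3,4],
  [1,7,1,6,4],
  [1,8,8,7,2],
  [1,4,0,8,4],
  [1,4,4,7,0],
  [1,0,8,5],
  [1,4,0,4,1],
  [1,5,8,1,5],
  [1,6,8,6,4],
  [1,7,7,1,2],
  [1,7,7,4],
  [1,4,5,2,5],
  [1,3,8,2],
  [1,8,2,4,0],
  [1,2,2,1,0,0],
  [1,6,2,4],
  [1,7,5,6,5],
  [1,1,6,3,0],
  [1,1,4,3,7],
  [1,8,0,4,2],
  [1,4,3,5,0],
  [1,5,7,5,0],
  [1,3,7,5,4],
  [1,2,8,8,2],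
  [1,7,1,2],
  [1,5,8,3,4],
  [1,1,2,7,0],
  [1,4,1,1,4],
  [1,2,8,0],
  [1,1,8,8],
  [1,7,8],
  [1,3,8,7,0],
  [1,5,1,2],
  [1,5,2,8],
  [1,5,1,0,1],
  [1,8,7,4,3],
  [1,2,7,8],
  [1,5,8,2,3],
  [1,5,4],
  [1,7,5,2,3],
  [1,6,6,0,6],
  [1,5,8,8,5],
  [1,2,7,3,3],
  [1,6,4,7]]

/-- Words. -/
def wordsC4 : List (List Nat) := [
  [1,5,8,2,2],
  [1,2,4,0],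
  [1,0,7,3,3],
  [1,7,0,4,0],
  [1,1,7,3,0],
  [1,5,0,7,1],
  [1,1,1,4],
  [1,6,7,1,0],
  [1,2,7,5,1],
  [1,8,7,2],
  [1,3,8,6,1],
  [1,7,1,8,0],
  [1,8,8,0,0],
  [1,2,8,6,2],
  [1,7,5,1],
  [1,2,8,3],
  [1,3,4,8],
  [1,1,7,5,7],
  [1,7,7,6,1],
  [1,1,4,1],
  [1,7,7,8],
  [1,4,2,4,2],
  [1,1,2,1],
  [1,4,4,8],
  [1,0,6,2],
  [1,4,4,1,7],
  [1,4,2,5,3],
  [1,2,3,7,0],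
  [1,4,7,6,6],
  [1,4,2,1,0],
  [1,3,8,8],
  [1,0,0,1,1,0],
  [1,3,0,5,1],
  [1,1,1,8,1],
  [1,0,7,3,0],
  [1,0,8,0,0],
  [1,4,5,3],
  [1,3,4,5,3],
  [1,8,3],
  [1,3,7,0],
  [1,2,8,2,7],
  [1,0,7,5,1],
  [1,0,7,2],
  [1,0,7,3],
  [1,7,2,6,2],
  [1,8,7,5,1],
  [1,3,8,3],
  [1,7,7,4,6],
  [1,6,5,1,5],
  [1,8,7,6,0],
  [1,0,4,0,0,0],
  [1,0,7,6,0],
  [1,4,5,0],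
  [1,7,2,5,4],
  [1,4,1,0],
  [1,7,2,5,6],
  [1,7,0,7],
  [1,1,0,3,2],
  [1,3,7,7,7],
  [1,0,5],
  [1,4,8,4,1],
  [1,0,8,2,4],
  [1,7,5],
  [1,5,0,5],
  [1,3,3,4,3,0],
  [1,2,4,7,5],
  [1,7,8,1,1],
  [1,8,8,7],
  [1,0,3,8,0],
  [1,4,0,0],
  [1,7,0,8],
  [1,7,0,6,1],
  [1,0,0,1,6],
  [1,2,4,7,7],
  [1,4,4,3],
  [1,2,3,4,1],
  [1,3,2,5,6,0],
  [1,2,2,4,4],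
  [1,7,1,0,6],
  [1,8,1,6,7],
  [1,8,8,5],
  [1,2,5,4,1],
  [1,6,4,8,0],
  [1,6,7,1],
  [1,8,0,0,7],
  [1,8,5,6],
  [1,0,5,6],
  [1,0,5,1,4],
  [1,6,8,5,5],
  [1,0,3],
  [1,0,0,6,2],
  [1,7,2,4,1],
  [1,1,7,0,1,0],
  [1,0,1,2,1],
  [1,8,0,3,0],
  [1,1,2,1,2],
  [1,1,4,3,2],
  [1,8,7,8,4],
  [1,7,7,8,7],
  [1,2,2,2]]

/-- Words. -/
def wordsC5 : List (List Nat) := [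
  [1,3,6,8,0,1],
  [1,8,7,3],
  [1,7,2,3,5],
  [1,1,2,7,4],
  [1,5,3,2,2],
  [1,5,3,6],
  [1,3,3,8,7],
  [1,8,1,4,1],
  [1,2,6,4],
  [1,8,4,2,1,0],
  [1,3,2,7,0],
  [1,8,1,1,4],
  [1,2,2,3,2],
  [1,5,1,7,6,0],
  [1,8,7,7,6,1],
  [1,7,1,4,3],
  [1,1,0,5,1],
  [1,8,0,1,1,0],
  [1,3,8,5,1],
  [1,3,2,7,4],
  [1,2,7,0,3,0],
  [1,3,3,3],
  [1,5,2,1,2],
  [1,0,8,2,6],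
  [1,5,4,3,2],
  [1,8,4,4,5],
  [1,7,1,6,0],
  [1,5,3,3,4],
  [1,8,7,7,7],
  [1,1,1,5,0],
  [1,6,1,2,1],
  [1,0,1,4,1],
  [1,3,2,1,2],
  [1,0,6,6,0],
  [1,5,0,6,0],
  [1,1,2,2,1],
  [1,1,8,5,1],
  [1,8,4,7,1],
  [1,6,6,0,3],
  [1,2,2,7],
  [1,0,4,1,0,0],
  [1,3,5,8,5],
  [1,6,4,2],
  [1,3,8,8,6],
  [1,0,4,7,1],
  [1,8,8,3,8],
  [1,8,5,4],
  [1,1,7,8,7],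
  [1,6,1,1],
  [1,7,5,1,0],
  [1,2,1,1,6,0],
  [1,8,7,3,3],
  [1,6,8,2,8],
  [1,3,8,6,3],
  [1,4,6,7,1],
  [1,8,6,2],
  [1,0,5,4,2],
  [1,4,4,6,1],
  [1,6,8,1,4],
  [1,7,1,0,4],
  [1,8,0,6,2],
  [1,3,6,8,0],
  [1,5,7,7,1],
  [1,6,5],
  [1,3,0,1,5],
  [1,7,7,7,4],
  [1,8,8,0,3],
  [1,0,0,4,2],
  [1,4,2,5,0],
  [1,4,6,3,0],
  [1,6,1,8],
  [1,6,1,1,7],
  [1,1,7,1,0,0],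
  [1,0,6,8,0],
  [1,7,8,0,3],
  [1,3,6,2],
  [1,8,4,7],
  [1,7,0,4],
  [1,0,7],
  [1,2,5,6],
  [1,3,7,6,4],
  [1,4,7,6,0],
  [1,2,8,7,5],
  [1,4,8,7],
  [1,5,7,6],
  [1,3,6,3,0],
  [1,7,3,3,6],
  [1,6,4,2,3],
  [1,1,5,1,5],
  [1,1,2,6,1],
  [1,7,1,7,1],
  [1,1,2,1,7],
  [1,1,0,1,1],
  [1,2,4,4],
  [1,1,2,4,3,0],
  [1,1,7,7],
  [1,8,8,6,4],
  [1,2,5,1,4],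
  [1,2,3,6,1],
  [1,8,1,7,4]]

/-- Words. -/
def wordsC6 : List (List Nat) := [
  [1,5,4,1],
  [1,7,1,0,8],
  [1,8,4,2],
  [1,4,8,0,6],
  [1,2,6,3,8],
  [1,7,4,6],
  [1,3,5,0,3],
  [1,3,4,1],
  [1,7,0,7,5],
  [1,6,1,2],
  [1,6,5,4,2],
  [1,0,8,4,0],
  [1,0,7,5,3],
  [1,6,1,6,1],
  [1,2,7,2],
  [1,2,7,2,5],
  [1,8,5,1,0],
  [1,0,3,2],
  [1,2,5,0,1],
  [1,0,3,5,1],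
  [1,6,6,4,1],
  [1,3,2,8,1],
  [1,6,8,0,1],
  [1,0,4,4],
  [1,1,8,7,3],
  [1,5,4,6,3,0],
  [1,8,6,8,7],
  [1,7,3,0,6],
  [1,7,8,8,0],
  [1,3,6,6,0],
  [1,6,0,1,1],
  [1,1,2,2],
  [1,7,6,5,1],
  [1,4,1,6,2],
  [1,3,3,0,3],
  [1,0,6,5,2],
  [1,3,8,0,1],
  [1,1,6,4],
  [1,0,3,2,2],
  [1,6,5,2,4],
  [1,7,3,4,4],
  [1,4,4,7,1,0],
  [1,0,6,5],
  [1,1,2,4,4],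
  [1,1,7,1,5],
  [1,4,0,3,0],
  [1,6,2,8],
  [1,2,3,5],
  [1,0,6,0,0],
  [1,4,5,6],
  [1,2,6,8,7],
  [1,7,4,6,5],
  [1,8,0,7],
  [1,6,5,8,4],
  [1,0,8,3],
  [1,3,6,3],
  [1,8,3,4,1],
  [1,2,7,7],
  [1,2,8,3,6],
  [1,7,6,7,3],
  [1,0,4,0],
  [1,4,0,6],
  [1,7,2,7,1],
  [1,0,4,6,2,1],
  [1,1,2,6,5],
  [1,2,4,3],
  [1,3,5,8,0],
  [1,1,8,0,0],
  [1,0,3,7,0],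
  [1,4,4,0,1],
  [1,4,1,2,3],
  [1,4,0,7,3,0],
  [1,4,5,4],
  [1,0,7,0],
  [1,8,7,2,2],
  [1,6,6],
  [1,6,3,2,3],
  [1,4,3,8,0],
  [1,4,0,3,3],
  [1,5,1,8,6,0],
  [1,8,5,0,7,0],
  [1,6,0,0,8],
  [1,7,8,1,5],
  [1,1,6,4,1],
  [1,2,6,3,0],
  [1,6,6,5,0],
  [1,3,2,7,3],
  [1,4,6,8,7],
  [1,6,3,2,1],
  [1,4,5,1,0],
  [1,4,6,1,8],
  [1,3,7,2,3],
  [1,0,8,7,0],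
  [1,3,6,4,0],
  [1,0,4,5,3],
  [1,6,7,2,7],
  [1,2,1,5],
  [1,1,1,5],
  [1,6,6,8,4],
  [1,3,7,1,6]]

/-- Words. -/
def wordsC7 : List (List Nat) := [
  [1,6,6,0,8],
  [1,4,2,4,0],
  [1,4,7,8,0],
  [1,5,8,7,0],
  [1,0,7,5,0],
  [1,8,1,4],
  [1,5,7,1,1],
  [1,4,7,7],
  [1,0,0,3],
  [1,6,6,2,1,0],
  [1,8,0,5,2],
  [1,6,0,6,3],
  [1,0,4,5,5],
  [1,4,6,2],
  [1,5,8,2],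
  [1,6,5,1,1],
  [1,4,7,2],
  [1,5,8,7],
  [1,6,5,3,5],
  [1,8,2,7],
  [1,2,4,8],
  [1,0,3,6,5],
  [1,2,8,4],
  [1,1,6,5,7],
  [1,7,0,1,2],
  [1,5,6,7,4],
  [1,5,0,5,0],
  [1,5,8,2,6],
  [1,1,6,7,4],
  [1,6,2,2,5],
  [1,0,5,1,1],
  [1,0,3,8],
  [1,8,4,8,2],
  [1,3,0,6,5],
  [1,1,2,8],
  [1,2,3,5,3],
  [1,8,7,8,3],
  [1,0,1,0,5],
  [1,8,8,4,2],
  [1,6,8,6],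
  [1,2,4,1,4],
  [1,5,2,7,2],
  [1,1,6,7,1,0],
  [1,8,6,3],
  [1,7,7,2],
  [1,6,4,2,5],
  [1,3,0,5],
  [1,4,0,4,5],
  [1,1,7,5,2],
  [1,3,7,5],
  [1,3,5,6],
  [1,2,2,8,5],
  [1,1,5,3,3],
  [1,7,6,8],
  [1,0,4,5,0],
  [1,6,3,6],
  [1,1,0,7,0],
  [1,7,7,4,4],
  [1,3,7,8,6,0],
  [1,4,2,3,0],
  [1,5,5,4,0],
  [1,3,6,7],
  [1,7,2,7,0],
  [1,5,6,7,1,0],
  [1,1,6,0,7],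
  [1,2,3,2],
  [1,4,1,5,6],
  [1,7,2,8,3],
  [1,3,3,3,2],
  [1,8,0,6],
  [1,8,6,6,1],
  [1,1,6],
  [1,7,8,0,0],
  [1,6,8,2,3],
  [1,2,4,2,5],
  [1,4,5,0,1],
  [1,7,1,5],
  [1,8,5,6,8],
  [1,5,0,4,8],
  [1,4,3,8],
  [1,5,5,3],
  [1,0,4,1,0],
  [1,7,4,4],
  [1,4,6,1,1],
  [1,4,0,5],
  [1,3,4,8,6],
  [1,0,6,7],
  [1,6,3,2,4],
  [1,8,8,6,0],
  [1,0,6,8,4,0],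
  [1,8,2,2,4],
  [1,4,3,6,1],
  [1,7,2,1,4,0],
  [1,4,5,3,4],
  [1,4,1,1],
  [1,5,3,3],
  [1,3,7,0,4],
  [1,6,7,4,2],
  [1,7,1,0,0],
  [1,7,3,3,0]]

/-- Words. -/
def wordsC8 : List (List Nat) := [
  [1,4,6,0,5],
  [1,4,2,2,1],
  [1,8,0,4],
  [1,7,3,3,3],
  [1,0,5,6,0],
  [1,2,3,0,7],
  [1,5,6,3,2],
  [1,0,0,7,3],
  [1,4,0,8],
  [1,4,7,6,3],
  [1,7,4,8,1],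
  [1,5,3,0],
  [1,6,7,0,0],
  [1,8,6,4],
  [1,5,7],
  [1,7,4,0,3],
  [1,2,8,0,3],
  [1,3,3,0,0],
  [1,7,8,1,0],
  [1,2,3,4,0],
  [1,4,8,3,0],
  [1,2,8,4,4],
  [1,2,1,7,1],
  [1,8,3,0,0],
  [1,6,7,5,5],
  [1,2,6,4,3],
  [1,2,8,0,1],
  [1,2,7,8,5],
  [1,8,2,5],
  [1,7,3,5,1],
  [1,1,8,8,0],
  [1,4,2,2,5],
  [1,0,3,2,3],
  [1,2,3,5,1],
  [1,5,2,5],
  [1,5,1,8,2],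
  [1,6,0,3,8,0],
  [1,4,1,5],
  [1,4,4,4,4],
  [1,8,5,3,3],
  [1,5,5,8,3],
  [1,6,4],
  [1,1,5,8,1,0],
  [1,7,6,0,4],
  [1,2,7,7,0],
  [1,2,3],
  [1,3,2,1,1,0],
  [1,8,6,8],
  [1,0,3,8,2],
  [1,3,0,8],
  [1,6,5,1,0],
  [1,3,6,6,4,0],
  [1,7,8,4,3],
  [1,2,5,1],
  [1,6,6,8,8],
  [1,0,7,6,1],
  [1,5,4,6,2],
  [1,0,1,7,1],
  [1,0,3,4,0],
  [1,2,4,8,2],
  [1,3,2,5,4],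
  [1,5,8,6,1],
  [1,7,0,3,0],
  [1,0,8,4,4],
  [1,6,2,7],
  [1,1,8,5],
  [1,5,6,8,1],
  [1,0,7,7,0],
  [1,2,8,8,1],
  [1,7,0,4,1],
  [1,3,6,6,8],
  [1,8,6,1],
  [1,4,1,5,4],
  [1,1,7,7,1],
  [1,7,7,3],
  [1,5,1,6,4],
  [1,5,1,2,4],
  [1,8,0,4,1],
  [1,7,8,3,5],
  [1,4,2,6,4],
  [1,8,8,8,4],
  [1,3,4,5,0],
  [1,8,8,3,5],
  [1,4,2,3,4],
  [1,2,8,1,0],
  [1,5,2,1,8,0],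
  [1,3,0,7,3],
  [1,3,3,3,8],
  [1,1,8,0,4],
  [1,5,4,0],
  [1,5,2,8,0],
  [1,6,4,8],
  [1,4,8,7,4],
  [1,6,0,8,0],
  [1,0,0,6,1],
  [1,7,4,1,1],
  [1,2,7,2,2],
  [1,4,8,0],
  [1,5,5,7,6],
  [1,3,3,4,0]]

/-- Words. -/
def wordsC9 : List (List Nat) := [
  [1,8,1,0,7],
  [1,0,0,0],
  [1,2,6,3,3],
  [1,4,3,8,3],
  [1,2,4,8,1],
  [1,6,7,6,1],
  [1,1,6,6],
  [1,0,3,8,3],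
  [1,1,1,2,4],
  [1,4,4,4,7],
  [1,5,3,7,5],
  [1,4,1,0,6],
  [1,4,6,1,5],
  [1,0,5,5,0],
  [1,4,0,4,0],
  [1,3,3,7],
  [1,0,3,3,2],
  [1,8,1],
  [1,3,7,6,1],
  [1,5,2,7,8],
  [1,6,8,2,2],
  [1,1,2,6,0],
  [1,5,2,5,1],
  [1,6,3,4,1],
  [1,8,6,1,2],
  [1,3,3,0,5],
  [1,5,5,0,1],
  [1,6,2,3,0],
  [1,7,2,2,1],
  [1,2,1,8,0],
  [1,1,2,4],
  [1,3,4,0,3,0],
  [1,2,2],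
  [1,5,5,6,5],
  [1,8,2,6,2],
  [1,5,7,3,6],
  [1,4,8,6,1],
  [1,5,1,2,6],
  [1,6,1,0,6],
  [1,5,6,7,3],
  [1,2,3,6],
  [1,8,0,3,3],
  [1,5,1,1,1],
  [1,6,7,5,2],
  [1,4,3,8,1],
  [1,2,5,2,3],
  [1,4,7,7,1],
  [1,4,2,4,6],
  [1,8,3,6,2],
  [1,8,2,7,2],
  [1,6,3,3,4],
  [1,4,6,2,6],
  [1,0,6,5,7],
  [1,4,5,0,0],
  [1,8,3,2,1,0],
  [1,2,5,1,5],
  [1,0,6,4,3],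
  [1,7,1,6,3],
  [1,4,5,0,3],
  [1,8,7,7],
  [1,5,8,3,2],
  [1,7,8,4,1],
  [1,2,3,3],
  [1,2,8,7,0,0],
  [1,4,6,5,2],
  [1,1,5,5],
  [1,6,5,0],
  [1,4,3,2,2],
  [1,3,7,1,4],
  [1,3,2,1],
  [1,7,0,4,3],
  [1,6,8,1],
  [1,8,0,8,6],
  [1,5,6,2,1],
  [1,2,3,0],
  [1,6,0,3,0,0],
  [1,7,6,7,1],
  [1,4,2,5,1],
  [1,8,3,5,6],
  [1,6,0,7],
  [1,5,0,4],
  [1,3,2,3,2],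
  [1,5,1,7,1],
  [1,2,6,6,1],
  [1,6,1,0,1],
  [1,7,6,8,0],
  [1,4,1,6,3],
  [1,5,2,6,8,0],
  [1,5,8],
  [1,5,1,7],
  [1,8,6,5,1],
  [1,6,1,4],
  [1,3,0,0,0],
  [1,3,6,0,1,1],
  [1,4,7,0,0],
  [1,8,1,5,7],
  [1,8,0,7,4],
  [1,5,1,5,7],
  [1,7,7,1],
  [1,8,8,8,0]]

/-- Words. -/
def wordsC10 : List (List Nat) := [
  [1,4,5,8,1,0],
  [1,3,8,1],
  [1,2,4,6],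
  [1,0,7,4,5],
  [1,4,7,4,6,0],
  [1,4,7,2,5],
  [1,6,0,8,4,0],
  [1,7,5,1,1],
  [1,4,0,3],
  [1,4,2,6,0],
  [1,5,0,7,0,0],
  [1,5,4,3],
  [1,0,4,5,1],
  [1,8,1,6],
  [1,8,2,3],
  [1,1,4,1,2],
  [1,5,0,0,7],
  [1,3,2,4,2,1],
  [1,3,5,2,3],
  [1,0,5,0,5],
  [1,1,7,0,1],
  [1,5,7,4,6,1],
  [1,0,0,5],
  [1,4,6,7],
  [1,3,3,7,2],
  [1,8,5,3,0],
  [1,0,5,0,0,0],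
  [1,0,0,1],
  [1,7,4,5,0],
  [1,8,8,6,3],
  [1,8,8,0,4],
  [1,4],
  [1,2,6,4,0],
  [1,8,4,0,1],
  [1,8,6,7,0],
  [1,2,7,2,3],
  [1,0,5,5],
  [1,2,1,0,0],
  [1,1,5,8,1,1],
  [1,0,1,6,3,0],
  [1,8,8,2],
  [1,0,4,2,5,0],
  [1,2,3,3,0],
  [1,3,0,7,1],
  [1,5,5,3,7],
  [1,5,3,4],
  [1,2,2,8],
  [1,4,4,4],
  [1,6,7,5],
  [1,1,1],
  [1,6,0,5],
  [1,7,2,8,1],
  [1,0,6,2,4],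
  [1,3,7,8,2],
  [1,6,4,7,0],
  [1,0,7,5],
  [1,8,1,1,0],
  [1,7,5,0,4],
  [1,2,6,8],
  [1,5,6,1],
  [1,4,2,4,3],
  [1,5,4,6,0],
  [1,7,5,2],
  [1,8,6,1,8,0],
  [1,7,8,5,6],
  [1,8,1,4,2],
  [1,6,2,4,1],
  [1,1,8,0,8],
  [1,4,4,2,2],
  [1,8,2,4,3,0],
  [1,0,8,7,6],
  [1,6,0,7,1],
  [1,8,1,7,7],
  [1,5,8,8],
  [1,8,3,0],
  [1,7,3,7],
  [1,3,2,8,8],
  [1,0,0,6,3],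
  [1,7,3,8,0,0],
  [1,5,0,6],
  [1,0,4,6,0],
  [1,1,4,8,0,0],
  [1,5,4,5,2],
  [1,5,0,7,5],
  [1,7,3,8,0],
  [1,5,7,1,2],
  [1,0,7,1,2],
  [1,7,4,0,5],
  [1,3,3,8,5],
  [1,3,2,5,8],
  [1,2,8,6],
  [1,4,1,7,3],
  [1,4,7,5],
  [1,4,4,1],
  [1,7,2,1,6],
  [1,8,4,1,1],
  [1,3,5,4,0],
  [1,4,3,3,2],
  [1,5,3,8],
  [1,4,1,8,5]]

/-- Words. -/
def wordsC11 : List (List Nat) := [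
  [1,1,8,7,1],
  [1,7,6,0,0],
  [1,0,0,8,2],
  [1,2,8,0,0],
  [1,6,8,4,1],
  [1,7,4,2,2],
  [1,8,8,4,3],
  [1,7,3,4,0],
  [1,8,5,7],
  [1,2,7],
  [1,1,5,5,1],
  [1,3,4,1,0],
  [1,4,7,1,1],
  [1,2,6,4,1],
  [1,4,3,5,2],
  [1,6,2,4,0],
  [1,1,4,5,0,1],
  [1,2,8,4,5],
  [1,8,2,5,6],
  [1,0,4,0,0],
  [1,8,0],
  [1,7,0,0],
  [1,6,6,8,0],
  [1,2,1,8],
  [1,5,7,6,0],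
  [1,1,6,2,1],
  [1,0,0,5,1,0],
  [1,6,6,3,5],
  [1,7,5,5,0],
  [1,6,5,6,2],
  [1,5,5,7],
  [1,5,7,4],
  [1,2,4,3,4],
  [1,6,7,8,3],
  [1,2,8,8],
  [1,6,8,2,4],
  [1,1,1,7,1],
  [1,6],
  [1,0,5,1,2],
  [1,8,7,8,0],
  [1,5,0],
  [1,1,4,7,3],
  [1,2,7,6,1],
  [1,1,2,3],
  [1,6,5,5,3],
  [1,7,8,0],
  [1,5,8,0,3],
  [1,5,1,0,1,0],
  [1,7,1,6,0,0],
  [1,4,2,4],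
  [1,7,7,7,0],
  [1,7,1,4,2],
  [1,0,8,6,2],
  [1,0,3,7],
  [1,4,5,8],
  [1,5,2,3,2],
  [1,2,5,2,1],
  [1,6,6,0,5],
  [1,2,6,0],
  [1,3,8,3,5],
  [1,1,0,1],
  [1,4,3,8,0,1],
  [1,5,6,5,2],
  [1,8,7,3,5],
  [1,1,1,6,0],
  [1,8,4,2,4],
  [1,7,7,2,1],
  [1,3,4,3,2],
  [1,7,6,5],
  [1,2,2,8,2],
  [1,5,5,0,6],
  [1,0,6,8],
  [1,4,0,4,2],
  [1,0,3,0,6],
  [1,7,3,0],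
  [1,5,5,4,3],
  [1,5,6],
  [1,4,0,1,0],
  [1,8,7,5,0],
  [1,0,0,7],
  [1,2,5,4],
  [1,8,7,4,5],
  [1,7,4,3],
  [1,5,5,3,5],
  [1,4,3,0],
  [1,5,5,8,4],
  [1,4,3,4,3],
  [1,6,0,0,1],
  [1,8,6,0,0],
  [1,7,5,2,4],
  [1,5,1,8],
  [1,5,1,1,7],
  [1,6,8,3,0],
  [1,0,6,2,2],
  [1,5],
  [1,4,6,4],
  [1,8,2,4],
  [1,2,6,1,1],
  [1,6,2,8,1],
  [1,7,3,6]]

/-- Words. -/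
def wordsC12 : List (List Nat) := [
  [1,3,7,0,3],
  [1,1,7,2,3],
  [1,8,0,0,1,0],
  [1,0,6,8,6],
  [1,5,5,8,0],
  [1,3],
  [1,6,6,3],
  [1,1,6,4,0],
  [1,2,7,5],
  [1,3,7,1,1],
  [1,6,8,1,1,0],
  [1,3,0,4,3],
  [1,0,6,6,1],
  [1,3,7,8,0],
  [1,5,3,2,3],
  [1,0,7,4,4],
  [1,3,6,5],
  [1,4,6,2,1],
  [1,7,0],
  [1,7,5,6,2],
  [1,1,4,0,0],
  [1,1,8,3],
  [1,5,2,3,6],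
  [1,6,7,2,3],
  [1,6,4,7,7,0],
  [1,2,5,6,1],
  [1,2,5,8],
  [1,0,8,8,4],
  [1,7,2,7,2],
  [1,5,0,0,3],
  [1,5,7,8,0],
  [1,8,6,4,2],
  [1,8,0,7,2],
  [1,8,0,8,0,0],
  [1,7,3,6,2],
  [1,6,7,6,5],
  [1,3,3,2],
  [1,4,2,8,3],
  [1,1,6,3,6],
  [1,5,6,5,0],
  [1,3,2,6],
  [1,4,3,2,1,0],
  [1,1,2,3,2],
  [1,2,7,0,0],
  [1,8,0,6,4],
  [1,5,0,5,4,0],
  [1,8,7,8],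
  [1,5,7,2,2],
  [1,1,6,0,6],
  [1,6,5,2],
  [1,5,1,6,3],
  [1,6,0,4,5],
  [1,3,4,4,1],
  [1,5,6,4,1],
  [1,6,7,1,1],
  [1,7,5,3],
  [1,4,2,3,2],
  [1,2,7,0,4],
  [1,3,6,6,1],
  [1,6,7,5,4],
  [1,1,6,0,4],
  [1,1,5,6],
  [1,6,2,1,8],
  [1,2,5,8,2],
  [1,5,5,8,3,0],
  [1,6,4,7,2],
  [1,4,2,5],
  [1,5,6,5,6],
  [1,7,4,1],
  [1,5,0,6,3],
  [1,5,1,6,0],
  [1,2,6,2,7],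
  [1,4,1,2,1],
  [1,1,4,8],
  [1,1,4,6,1],
  [1,0,0,3,5],
  [1,8,5,1,1],
  [1,2,8,3,0],
  [1,2,7,7,1],
  [1,4,4,4,5],
  [1,8,0,3,0,0],
  [1,5,0,4,3],
  [1,2,3,8,1],
  [1,3,3,6,3],
  [1,1,0,8,0],
  [1,8,7,5],
  [1,8,6,1,1],
  [1,7,8,0,7],
  [1,8,0,5],
  [1,5,4,6,1,0],
  [1,0,5,5,2],
  [1,5,8,0,1],
  [1,6,2,6],
  [1,3,5,3,5],
  [1,8,5,0,5],
  [1,0,8,6,3],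
  [1,0,7,7,2],
  [1,2,2,3,0],
  [1,2,7,5,2],
  [1,8,8,0,1]]

/-- Words. -/
def wordsC13 : List (List Nat) := [
  [1,3,2,8],
  [1,3,2,1,7],
  [1,1,5,8,5],
  [1,3,2,6,1],
  [1,3,5,8,0,0],
  [1,7,3,0,1],
  [1,2,4,5,0,0],
  [1,5,2,4],
  [1,0,5,5,3],
  [1,7,2,5,0,1],
  [1,0,4,7],
  [1,6,5,2,5],
  [1,7,7,0,5],
  [1,1,5,2,3],
  [1,6,4,3,4,0],
  [1,8,0,6,3],
  [1,6,8,7,1],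
  [1,2,2,4,6],
  [1,2,8,5,7],
  [1,8,3,2,2],
  [1,4,7,6,7],
  [1,0,8,2],
  [1,7,5,7,5,0],
  [1,1,7,6,1],
  [1,4,6,5,1],
  [1,6,7,1,6],
  [1,5,6,0],
  [1,5,4,3,4],
  [1,0,6,1],
  [1,6,5,6,1,0],
  [1,6,6,8],
  [1,6,0,8,1],
  [1,2,5,0],
  [1,5,5,1,1],
  [1,0,8,6,0],
  [1,8,7,6,6],
  [1,4,6,6,0],
  [1,4,1,4],
  [1,2,8,5],
  [1,1,4,5,0],
  [1,7,7,7],
  [1,3,2,5,0],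
  [1,5,0,7],
  [1,6,3,0,7],
  [1,6,6,2,5],
  [1,6,3,5],
  [1,6,8,4],
  [1,3,0,3],
  [1,1,1,2,2],
  [1,3,6,7,1],
  [1,0,6,6,5],
  [1,3,0,3,0],
  [1,7,7,3,3],
  [1,6,2],
  [1,3,3,8],
  [1,4,0,0,0],
  [1,3,3,6,1],
  [1,4,7,1],
  [1,4,3,3,0],
  [1,6,0,6],
  [1,3,6,5,2],
  [1,4,1,0,0],
  [1,5,7,5,2],
  [1,7,3],
  [1,0,8,1,1],
  [1,0,1,2,5],
  [1,7,5,4,1],
  [1,4,4,5],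
  [1,2,4,4,2],
  [1,6,7,2,1],
  [1,8,0,6,1],
  [1,8,0,8,2],
  [1,1,6,8,0],
  [1,7,8,3,6],
  [1,4,7,6],
  [1,5,3,7,2],
  [1,0,3,0],
  [1,7,7,2,5],
  [1,1,6,2],
  [1,7,8,4],
  [1,2,3,8,2],
  [1,6,5,8],
  [1,6,6,1,4],
  [1,2,7,1,2],
  [1,7,3,5,6,0],
  [1,5,7,1,0],
  [1,6,2,1,1],
  [1,4,1,7,1],
  [1,4,1,0,0,0],
  [1,6,5,6,1],
  [1,4,7,1,6,0],
  [1,0,4,0,1],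
  [1,7,4,6,1],
  [1,0,4,0,8],
  [1,6,5,3,2],
  [1,0,1,1,0],
  [1,8,3,3,3],
  [1,5,1,0,6],
  [1,3,2,3,0],
  [1,4,4,3,3]]

/-- Words. -/
def wordsC14 : List (List Nat) := [
  [1,1,7,4,2],
  [1,7,2],
  [1,8,0,0],
  [1,3,8,0],
  [1,2,4,5,3],
  [1,2,6,4,2],
  [1,7,2,2,3,0],
  [1,4,7,0,1],
  [1,5,8,6],
  [1,2,8,7,2],
  [1,2,3,8,8],
  [1,4,7,1,6],
  [1,7,8,6],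
  [1,0,5,7],
  [1,8,0,3],
  [1,6,8,5,3],
  [1,4,7,4,1],
  [1,1,0,1,5],
  [1,6,7,4,3],
  [1,6,4,3,0],
  [1,6,2,5,0],
  [1,0,8,6,4],
  [1,4,6,4,0],
  [1,7,6,0],
  [1,7,4,7,7],
  [1,8,8,4,0],
  [1,8,3,8],
  [1,6,8,4,2],
  [1,7,1,7,8],
  [1,5,0,5,2],
  [1,1,2,7,3],
  [1,5,1,4],
  [1,0,8,5,7],
  [1,2,2,2,7],
  [1,8,7],
  [1,0,1,4],
  [1,4,6,5,0],
  [1,5,4,2],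
  [1,0,5,3,0],
  [1,5,4,4,7],
  [1,8,4,6,0],
  [1,0,6,7,0],
  [1,2,6,5],
  [1,5,1,4,6],
  [1,0,4,2],
  [1,4,3,4,0],
  [1,0,7,6,8],
  [1,0,3,4,2],
  [1,3,2,6,0],
  [1,3,7,3,5],
  [1,7,4,1,4],
  [1,1,1,0,3],
  [1,5,7,8],
  [1,1,7,5],
  [1,2,8,4,2],
  [1,1,0,5],
  [1,6,8,0],
  [1,5,6,7,5],
  [1,0,1,5,2],
  [1,1,4,4,2],
  [1,1,5,4],
  [1,6,7,2,6],
  [1,4,5,8,5],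
  [1,0,5,2,3],
  [1,3,4,2,5],
  [1,0,6,1,2],
  [1,6,0,4],
  [1,5,8,1],
  [1,7,0,8,5,0],
  [1,1,6,6,0],
  [1,8,1,8,3],
  [1,4,5,5],
  [1,8,7,0],
  [1,3,7,5,3],
  [1,5,7,0,0],
  [1,5,1,1],
  [1,6,8,1,4,3],
  [1,5,4,7,0,0],
  [1,6,7],
  [1,3,8,5],
  [1,8,8,0,3,0],
  [1,3,4,0],
  [1,8,4,4],
  [1,8,5,8,1],
  [1,1,0,0,0],
  [1,7,5,5,7],
  [1,2,4,6,7],
  [1,5,4,8,0],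
  [1,8,2,1,6],
  [1,6,5,2,8],
  [1,5,8,7,2],
  [1,7,8,6,0],
  [1,4,7,2,1],
  [1,5,5,4,1],
  [1,5,3,4,1],
  [1,0,1,4,2],
  [1,5,2,7],
  [1,5,5,0],
  [1,5,6,2,4],
  [1,6,8,0,0]]

/-- Words. -/
def wordsC15 : List (List Nat) := [
  [1,7,3,2,4],
  [1,7,5,7,4],
  [1,7,3,8,3,0],
  [1,8,0,1],
  [1,7,8,5],
  [1,5,7,0,4],
  [1,7,6,6,3,0],
  [1,5,5,5,3],
  [1,6,4,2,7],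
  [1,3,3,5,1],
  [1,2,8,1],
  [1,6,5,2,3],
  [1,5,6,4,2],
  [1,2,2,3,6],
  [1,0,3,6,7],
  [1,0,6,5,1,0],
  [1,5,0,7,2],
  [1,1,1,6,6],
  [1,3,6,0,0],
  [1,0,1,7,1,0],
  [1,6,4,3],
  [1,6,6,4],
  [1,6,3,8],
  [1,6,0,7,5],
  [1,5,0,0,0],
  [1,8,6,5],
  [1,5,4,4,4],
  [1,8,5,5],
  [1,7,4,3,0],
  [1,0,5,1,0],
  [1,6,6,2,2],
  [1,8,7,1,2],
  [1,3,5,5,3],
  [1,8,7,7,4],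
  [1,8,8,0,5],
  [1,5,2,4,1],
  [1,5,5,2,1,0],
  [1,6,5,3,3],
  [1,1,5,5,0],
  [1,6,5,4,0],
  [1,4,4,3,0,1],
  [1,7,1,5,6],
  [1,8,5,1,6,0],
  [1,7,2,1,0],
  [1,7,5,8,2],
  [1,8,2,8,0],
  [1,1,7,3],
  [1,7],
  [1,8,4,0],
  [1,3,6,1],
  [1,6,1,1,1],
  [1,3,2],
  [1,3,5,1,5,0],
  [1,2,2,3,5],
  [1,3,4,3,3],
  [1,5,3,2,4],
  [1,3,7,1,0],
  [1,2,6,6],
  [1,0,3,5,0],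
  [1,2,2,8,4],
  [1,6,2,7,1],
  [1,7,7,3,0,0],
  [1,3,5,1],
  [1,6,0,0],
  [1,5,4,7,0],
  [1,7,5,0],
  [1,7,4,4,3,0],
  [1,6,6,0,1],
  [1,4,0,1,1],
  [1,4,2,8],
  [1,1,1,8,3],
  [1,6,4,6,0],
  [1,7,2,4,3],
  [1,1,8,7,0],
  [1,3,8],
  [1,3,4,7],
  [1,1,1,5,4],
  [1,3,5,3,2],
  [1,2,3,7,5],
  [1,2,3,0,5],
  [1,3,7,1,5],
  [1,7,3,5,7],
  [1,8,6,7,1],
  [1,3,0,4,1,0],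
  [1,6,8,5,0],
  [1,7,1,2,2],
  [1,6,2,5],
  [1,3,0,7],
  [1,3,2,5,6],
  [1,6,7,6,7],
  [1,1,5,5,4],
  [1,3,4,0,5],
  [1,1,8,2,1],
  [1,5,7,5,5],
  [1,1,2,7,6],
  [1,6,1,8,1],
  [1,4,5,4,7],
  [1,8,3,2],
  [1,4,5,1],
  [1,2,4]]

/-- Words. -/
def wordsC16 : List (List Nat) := [
  [1,4,7,3,4],
  [1,6,2,4,2],
  [1,8,3,4,0],
  [1,7,6,6],
  [1,2,5,0,4],
  [1,0,3,0,0],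
  [1,5,6,0,0],
  [1,3,0,3,8],
  [1,4,3,5,1],
  [1,0,0,1,0],
  [1,5,0,8,0],
  [1,5,4,6,1],
  [1,2,5,7],
  [1,1,0,4,6],
  [1,6,3,4,4],
  [1,2,6,8,6],
  [1,3,4,8,2],
  [1,2,1,6],
  [1,7,6],
  [1,3,2,5],
  [1,8,4,0,0],
  [1,3,0,1,8],
  [1,5,6,0,6],
  [1,4,1,6,0],
  [1,2,2,3],
  [1,6,0,3],
  [1,6,7,0,1],
  [1,0,0],
  [1,2,4,0,4,0],
  [1,2,4,8,0],
  [1,8,4,5,5],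
  [1,1,6,1,8,0],
  [1,1,0,3,3],
  [1,5,6,1,0],
  [1,3,2,4,1],
  [1,8,7,6],
  [1,3,8,6,4,1],
  [1,4,6,0],
  [1,1,6,3],
  [1,7,2,1,1],
  [1,6,0,8],
  [1,5,8,2,1],
  [1,6,0,6,1],
  [1,6,3,3,2],
  [1,4,0,1,5],
  [1,3,8,1,6,0],
  [1,7,6,1,0],
  [1,4,1,4,0],
  [1,1,8,8,4],
  [1,6,3,0,0],
  [1,8,5,7,8],
  [1,0,6,3],
  [1,5,7,5,6],
  [1,2,3,2,1],
  [1,5,2,5,3],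
  [1,7,1,4,0],
  [1,6,4,5,6],
  [1,4,0,4,4],
  [1,3,5,2,1],
  [1,4,1,4,6],
  [1,3,5,7,0],
  [1,0,6,0,1],
  [1,4,2,1],
  [1,0,6,2,1],
  [1,8,7,7,0],
  [1,6,6,8,1],
  [1,1,0,8],
  [1,0,7,6,4],
  [1,2,4,7,1,1],
  [1,4,2,6,1],
  [1,6,5,5,1],
  [1,1,2,1,1],
  [1,7,3,5,2],
  [1,4,4],
  [1,0,6,8,7],
  [1,6,8,4,0],
  [1,1,7,1],
  [1,0,1],
  [1,2,5,3,0],
  [1,6,3,8,0],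
  [1,4,6,1,0],
  [1,5,4,7],
  [1,3,8,5,0],
  [1,3,4,3,0],
  [1,0,0,4,1],
  [1,0,4,8,3],
  [1,6,3,7,4],
  [1,3,7],
  [1,2,1,0,1],
  [1,5,4,8,3],
  [1,1,5,1,1],
  [1,2,5,5,7],
  [1,3,3,4],
  [1,2,6],
  [1,3,5,7,6],
  [1,0,8,7,1],
  [1,1,4,8,3],
  [1,5,4,2,5],
  [1,4,3,2,1],
  [1,1,1,4,0]]

/-- Words. -/
def wordsC17 : List (List Nat) := [
  [1,1,8,6,0],
  [1,7,3,6,5],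
  [1,7,5,6],
  [1,3,2,4,0],
  [1,2,8,5,6],
  [1,0,7,7],
  [1,5,6,8,0],
  [1,5,0,6,6],
  [1,2,5,0,5],
  [1,8,1,5,4],
  [1,0,1,6],
  [1,6,0,6,5,0],
  [1,2,4,5,4],
  [1,3,4,4,3],
  [1,5,8,1,4],
  [1,5,2,4,0],
  [1,7,6,3],
  [1,6,4,4,3],
  [1,3,2,2],
  [1,0,6,4],
  [1,5,1,6,5],
  [1,1,8,7,5,0],
  [1,7,7,0],
  [1,5,5],
  [1,7,4,5],
  [1,2,8,6,3],
  [1,1,8,2],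
  [1,8,7,8,5],
  [1,8,6,7],
  [1,5,4,5,1],
  [1,5,3,6,3],
  [1,3,8,7],
  [1,7,4,0,1],
  [1,0,3,3],
  [1,7,8,2,5],
  [1,5,4,6,7],
  [1,4,4,5,2],
  [1,8,6,0],
  [1,1,4,0,3],
  [1,4,4,7,1],
  [1,2,3,4,7],
  [1,2,4,2,1],
  [1,3,2,4],
  [1,0,6,1,0,0],
  [1,6,6,3,0],
  [1,6,3,5,0],
  [1,5,2,3],
  [1,4,2,7],
  [1,2,8,5,5],
  [1,5,1,6],
  [1,2,1,6,3],
  [1,6,3],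
  [1,1,0,8,3],
  [1,8,4,3,3],
  [1,8,7,1,0],
  [1,8,8,2,1],
  [1,5,8,5,7],
  [1,7,7,2,4,0],
  [1,3,8,3,8],
  [1,5,0,0,1],
  [1,0,0,8,3],
  [1,7,3,6,1],
  [1,3,8,5,7],
  [1,7,0,5,0],
  [1,5,5,2],
  [1,7,2,1,0,0],
  [1,3,3,8,1],
  [1,7,3,8],
  [1,4,5,7],
  [1,1,1,7,3],
  [1,4,4,1,5],
  [1,6,5,5],
  [1,3,2,1,0],
  [1,7,8,6,1],
  [1,5,8,0,0,0],
  [1,6,1],
  [1,5,5,8,1,0],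
  [1,0,7,0,3,0],
  [1,8,6,1,0],
  [1,1,2,2,3],
  [1,4,8,2],
  [1,1,7],
  [1,7,2,5,1],
  [1,1,8,0,3],
  [1,3,5,0,0],
  [1,2,8,7],
  [1,2,7,6,0],
  [1,7,8,2,2],
  [1,8,3,3,4,0],
  [1,0,7,6,2],
  [1,5,6,8],
  [1,8,4,8,0],
  [1,1,1,8],
  [1,6,6,0,7],
  [1,5,8,1,1],
  [1,8,4,2,2],
  [1,7,0,8,1],
  [1,3,8,8,2],
  [1,6,4,2,1],
  [1,8,7,1]]

/-- Words. -/
def wordsC18 : List (List Nat) := [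
  [1,2,6,2],
  [1,6,6,5],
  [1,3,4,0,1],
  [1,8,1,1],
  [1,2,1,6,2],
  [1,2,7,8,4],
  [1,3,6,2,1,0],
  [1,3,0],
  [1,7,0,1,1],
  [1,3,6,7,0],
  [1,0,0,1,5],
  [1,2,4,5,1],
  [1,6,0,1],
  [1,2,2,4],
  [1,1,4,0,1],
  [1,8,3,4,1,1],
  [1,1,6,8],
  [1,1,6,1,7],
  [1,2,4,5,5],
  [1,5,1,0],
  [1,4,5,5,2],
  [1,5,6,2],
  [1,6,2,1,0],
  [1,7,1,2,2,1],
  [1,0],
  [1,8,0,8,1,0],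
  [1,6,8,7],
  [1,6,5,0,0,0],
  [1,4,8,7,2],
  [1,7,2,8],
  [1,8,2,3,6],
  [1,8,0,0,0],
  [1,3,0,5,0],
  [1,7,7],
  [1,1,8,6],
  [1,2,7,6,3],
  [1,5,5,6,8],
  [1,2,3,2,2],
  [1,4,1,5,2],
  [1,4,3,7,5],
  [1,4,7,3],
  [1,6,7,6,4],
  [1,4,3,4,1],
  [1,6,6,6,3],
  [1,1,2,4,0],
  [1,0,5,1],
  [1,0,1,6,0,0],
  [1,6,0,5,3,0],
  [1,5,1,1,6,0],
  [1,3,3],
  [1,6,3,2],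
  [1,8,1,2,2],
  [1,0,1,5],
  [1,4,4,2,6],
  [1,1,2,8,0],
  [1,5,2,2,2],
  [1,8,3,6],
  [1,0,0,4,0],
  [1,4,6,1],
  [1,0,8,0],
  [1,2,5,3],
  [1,3,4,1,4],
  [1,1,4,0],
  [1,7,3,0,0],
  [1,1,2,7],
  [1,7,5,7],
  [1,4,1],
  [1,6,3,6,3],
  [1,1,2,2,8],
  [1,4,3,0,8],
  [1,2,2,2,1],
  [1,1,6,0,5],
  [1,3,2,2,2],
  [1,3,8,7,3],
  [1,0,1,2,6],
  [1,1,0,0,3],
  [1,1,8,7,7],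
  [1,6,4,0,1],
  [1,1,2,3,3],
  [1,7,6,5,8],
  [1,7,0,4,2],
  [1,0,8,5,3],
  [1,5,6,5],
  [1,7,4,1,5],
  [1,6,1,5],
  [1,5,0,6,5],
  [1,4,4,3,8],
  [1,4,4,7],
  [1,3,4,6,4],
  [1,8,4],
  [1,3,2,7,5],
  [1,2,4,7,0],
  [1,7,2,5],
  [1,2,3,0,0],
  [1,1,8,0],
  [1,8,1,6,1],
  [1,1,2,4,8],
  [1,5,4,7,2],
  [1,0,8,4,1],
  [1,4,5]]

/-- Words. -/
def wordsC19 : List (List Nat) := [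
  [1,0,0,4,3],
  [1,2,3,0,4],
  [1,5,6,6,0],
  [1,5,6,6],
  [1,5,8,3,0],
  [1,2,5,4,4],
  [1,1,2,1,5],
  [1,1,4,6,2],
  [1,8,0,5,8],
  [1,1,1,1,5],
  [1,4,4,1,1],
  [1,4,8,2,4],
  [1,8,5,0,0],
  [1,8,5,5,6],
  [1,3,8,2,6],
  [1,1,5,3,4],
  [1,5,5,2,5],
  [1,3,3,2,3],
  [1,1,7,8,0],
  [1,8,7,0,0],
  [1,5,6,3,6],
  [1,5,0,5,6,0],
  [1,6,3,5,3,0],
  [1,8,1,6,0],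
  [1,1,4,1,4,0],
  [1,0,7,2,6,0],
  [1,6,2,7,3],
  [1,0,8,6,1],
  [1,4,2,7,2],
  [1,0,8,8],
  [1,4,3,0,3],
  [1,0,5,5,8],
  [1,4,6,3,5],
  [1,3,0,0,1],
  [1,7,0,5],
  [1,7,4,1,2],
  [1,6,1,0],
  [1,1,5,1,4],
  [1,0,0,8,0],
  [1,7,5,4,4],
  [1,0,4,8],
  [1,1,0,1,6],
  [1,2,5,6,2],
  [1,5,8,4,5],
  [1,1,4,1,4],
  [1],
  [1,5,0,1,6],
  [1,0,5,8,5],
  [1,2,7,5,7],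
  [1,4,2,7,8],
  [1,3,7,6,5,0],
  [1,8,6,4,1],
  [1,3,4,6],
  [1,7,3,8,1],
  [1,5,2,6],
  [1,7,7,7,1],
  [1,8,8,3,6],
  [1,2],
  [1,3,4,2,3],
  [1,6,8,2,6],
  [1,3,7,4],
  [1,6,1,4,1],
  [1,5,1,5,0],
  [1,8,0,8,0],
  [1,2,4,1],
  [1,6,1,5,0],
  [1,5,6,4,5],
  [1,0,4,3,6],
  [1,5,1],
  [1,7,7,5],
  [1,3,4,1,5],
  [1,8,5,4,3],
  [1,3,5,7],
  [1,6,2,3],
  [1,3,6,1,2],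
  [1,0,6,8,1],
  [1,0,5,7,0],
  [1,3,2,4,4],
  [1,5,1,5],
  [1,8,4,0,3],
  [1,3,6,6],
  [1,7,6,8,1],
  [1,3,4,3,8,0],
  [1,6,4,1],
  [1,8,8,1,5],
  [1,6,3,4,0,1],
  [1,3,4,2,6,0],
  [1,0,7,7,5],
  [1,6,8,1,1],
  [1,6,2,6,2],
  [1,7,8,5,1],
  [1,2,8,4,1],
  [1,4,0,1,6],
  [1,0,7,0,0],
  [1,7,4,3,2],
  [1,6,7,6],
  [1,1,4,8,2],
  [1,2,6,1,1,0],
  [1,6,1,6],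
  [1,2,7,4,2]]

/-- Words. -/
def wordsC20 : List (List Nat) := [
  [1,0,4,1,2],
  [1,0,3,4],
  [1,3,3,4,3],
  [1,0,8,3,3],
  [1,8,6,5,0],
  [1,0,6,5,0],
  [1,3,2,6,2],
  [1,4,8,7,0,1],
  [1,2,8,4,3],
  [1,5,3,2,1,0],
  [1,7,5,5,6],
  [1,0,8,5,1],
  [1,7,4],
  [1,7,8,2,3],
  [1,4,2,3],
  [1,5,3,5,0],
  [1,5,1,0,7],
  [1,5,6,3,0],
  [1,8,8,1],
  [1,1,4,6],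
  [1,7,8,6,5],
  [1,3,7,4,0,0],
  [1,3,7,2,2],
  [1,3,8,1,1],
  [1,8,0,1,1],
  [1,4,6,1,7],
  [1,0,6,1,0],
  [1,8,2,8],
  [1,4,6,8],
  [1,8,2,1,7],
  [1,5,0,1],
  [1,1,0,4],
  [1,8,0,6,0],
  [1,7,7,5,0],
  [1,4,3,6,7],
  [1,0,3,0,1],
  [1,4,2,5,4],
  [1,0,0,5,1],
  [1,3,7,8,1],
  [1,4,7,3,0],
  [1,0,7,3,0,0],
  [1,2,1,0],
  [1,6,6,6,0],
  [1,7,4,2,8],
  [1,0,8,1,6,0],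
  [1,8,0,0,8],
  [1,1,5,0,1],
  [1,1,2],
  [1,2,7,1,1],
  [1,4,6,4,4],
  [1,1,8,1,0],
  [1,2,4,1,2],
  [1,3,2,8,2],
  [1,4,3],
  [1,7,8,3,2],
  [1,7,3,4],
  [1,5,2,8,1],
  [1,5,3],
  [1,7,5,4,0],
  [1,5,2,1,0],
  [1,8,4,8],
  [1,7,8,7,0],
  [1,2,2,1,0],
  [1,7,7,4,2],
  [1,2,6,0,1],
  [1,4,1,7],
  [1,8,2,3,3],
  [1,8,0,4,3],
  [1,1,6,0],
  [1,3,6],
  [1,1,0,6],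
  [1,6,8,2],
  [1,7,4,4,1],
  [1,1,0,5,0],
  [1,0,7,5,4],
  [1,4,0,4],
  [1,5,8,1,1,0],
  [1,7,8,2],
  [1,7,6,2,1],
  [1,4,5,4,1],
  [1,0,1,7,5,0],
  [1,7,8,4,0],
  [1,1,4,2,5],
  [1,8],
  [1,5,8,7,1],
  [1,7,0,6,0],
  [1,7,0,7,1],
  [1,0,6,4,0,0],
  [1,4,8,4,2],
  [1,8,6,0,5],
  [1,4,8,1,1],
  [1,3,5,2],
  [1,3,6,4,1],
  [1,2,2,7,1],
  [1,2,7,0],
  [1,5,6,5,1,1],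
  [1,4,5,7,0],
  [1,0,4,8,1],
  [1,2,2,7,7,1],
  [1,4,0,0,0,0]]

/-- Words. -/
def wordsC21 : List (List Nat) := [
  [1,4,0,7,1],
  [1,3,0,8,5],
  [1,7,6,3,4],
  [1,4,6,8,5],
  [1,2,7,3,6],
  [1,5,5,3,6],
  [1,8,8,4],
  [1,6,7,5,1],
  [1,4,3,8,2],
  [1,4,7,1,2],
  [1,7,7,8,0],
  [1,7,4,3,4],
  [1,6,1,1,5],
  [1,7,2,4,0],
  [1,8,2],
  [1,2,5,6,0],
  [1,8,5,3,2],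
  [1,5,0,7,0],
  [1,7,5,1,4],
  [1,1,8,1,6],
  [1,0,5,2],
  [1,2,5,8,6],
  [1,1,4],
  [1,5,8,5,4],
  [1,0,7,4],
  [1,8,0,3,6],
  [1,8,8,5,3],
  [1,5,4,1,1],
  [1,1,0,7],
  [1,4,6,1,6],
  [1,7,7,1,5],
  [1,7,6,4],
  [1,5,4,5,0],
  [1,8,3,7,8],
  [1,4,4,7,2],
  [1,2,4,7,1],
  [1,2,7,3],
  [1,8,8,5,3,0],
  [1,8,0,0,1],
  [1,7,2,8,5],
  [1,7,4,4,5],
  [1,4,4,8,0,0],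
  [1,3,7,2],
  [1,4,4,0,0],
  [1,6,4,4],
  [1,8,5,8],
  [1,3,3,8,0],
  [1,6,5,1],
  [1,0,6,0,7],
  [1,2,7,6],
  [1,2,3,2,5],
  [1,1,1,7,7],
  [1,6,6,5,7],
  [1,0,7,2,1],
  [1,4,1,8,0],
  [1,7,1,7,4],
  [1,3,0,0],
  [1,0,1,0,6],
  [1,7,7,8,3],
  [1,1,5,3,0],
  [1,0,0,3,4],
  [1,4,6,6],
  [1,2,2,6],
  [1,4,8,3],
  [1,5,7,6,8],
  [1,1,5,7],
  [1,4,6,2,3],
  [1,6,5,7,7,0],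
  [1,1,1,0,1],
  [1,0,0,5,7,0],
  [1,8,3,5],
  [1,6,4,6,2],
  [1,2,7,3,0],
  [1,0,8,2,2],
  [1,2,2,5,4],
  [1,7,2,2,5],
  [1,2,3,2,8],
  [1,5,8,5,0],
  [1,4,0,8,1],
  [1,5,0,8,2],
  [1,7,7,2,6],
  [1,3,5,8],
  [1,3,5,6,1],
  [1,0,6,8,2],
  [1,0,3,5],
  [1,7,4,4,4],
  [1,5,2,1,6],
  [1,8,6,6],
  [1,1,1,8,2],
  [1,0,6,4,0],
  [1,7,5,3,6],
  [1,4,2,6,8],
  [1,6,8],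
  [1,0,5,3,4,0],
  [1,6,4,5,7],
  [1,3,0,4,1],
  [1,7,6,7],
  [1,2,5],
  [1,0,1,8],
  [1,3,3,4,2]]

/-- Words. -/
def wordsC22 : List (List Nat) := [
  [1,6,6,1],
  [1,5,3,5],
  [1,6,4,5,2],
  [1,7,7,0,3],
  [1,1,0,3,0],
  [1,2,8,7,8],
  [1,1,1,6,2],
  [1,1,5,8,6],
  [1,8,4,3],
  [1,6,5,4,5],
  [1,4,2,3,3],
  [1,6,2,6,4,0],
  [1,4,3,3,6],
  [1,7,4,3,6],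
  [1,8,4,8,0,0],
  [1,5,5,5,1],
  [1,1,7,6],
  [1,3,0,6],
  [1,3,5,4,5],
  [1,0,8,4],
  [1,0,3,5,7],
  [1,2,5,4,2],
  [1,1,5,8,4],
  [1,5,1,0,0],
  [1,5,3,3,0],
  [1,6,3,2,4,0],
  [1,5,0,3,4],
  [1,0,7,1,4],
  [1,8,3,0,4],
  [1,3,5,8,2],
  [1,7,6,5,4,0],
  [1,1,4,6,5],
  [1,0,5,0,6],
  [1,6,2,1],
  [1,1],
  [1,4,0,8,3],
  [1,1,7,1,0],
  [1,2,5,5,0],
  [1,5,7,8,4],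
  [1,0,5,4,4],
  [1,8,7,0,1],
  [1,2,7,5,0],
  [1,8,4,7,8],
  [1,0,7,4,5,0],
  [1,7,4,0,0],
  [1,7,8,3],
  [1,5,0,3,0],
  [1,5,7,2,1],
  [1,6,7,1,4],
  [1,1,8,6,6],
  [1,6,5,3,7],
  [1,6,3,4],
  [1,4,3,7,4],
  [1,4,2],
  [1,5,7,7],
  [1,6,8,8,4],
  [1,1,0,1,8],
  [1,3,6,3,4],
  [1,1,2,5],
  [1,6,4,3,8,2],
  [1,0,1,2,2],
  [1,1,8,1,1],
  [1,3,6,0,1],
  [1,4,0,1],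
  [1,5,6,2,5],
  [1,6,7,0],
  [1,3,4,2],
  [1,5,2,4,3,0],
  [1,3,5,0,1],
  [1,2,6,8,0],
  [1,0,4],
  [1,5,7,4,1],
  [1,8,7,0,3],
  [1,8,7,2,3],
  [1,7,8,3,7],
  [1,2,6,0,3],
  [1,4,5,1,5],
  [1,0,1,0],
  [1,7,2,2,2],
  [1,8,8,4,5],
  [1,1,7,2,1],
  [1,0,5,4,0],
  [1,3,4,3],
  [1,7,2,2],
  [1,4,2,8,4],
  [1,2,8,6,5],
  [1,0,1,7,0,0],
  [1,4,6,8,0],
  [1,6,1,2,3],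
  [1,7,6,4,3],
  [1,0,5,8,0],
  [1,7,8,0,1],
  [1,6,0,7,3,0],
  [1,4,7,8,7],
  [1,1,5,2],
  [1,5,6,2,2],
  [1,2,3,3,4],
  [1,0,4,1],
  [1,8,5,7,0],
  [1,0,6,2,3]]

/-- Words. -/
def wordsC23 : List (List Nat) := [
  [1,8,0,4,5],
  [1,5,7,3,0],
  [1,6,0,4,1],
  [1,1,7,4],
  [1,8,8,0],
  [1,7,6,7,5],
  [1,4,7,0],
  [1,5,8,4],
  [1,6,1,7],
  [1,0,1,6,1],
  [1,5,6,2,3],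
  [1,4,8,7,7],
  [1,4,6,8,1],
  [1,4,8,2,2],
  [1,0,5,1,5],
  [1,5,1,1,0],
  [1,5,1,8,1],
  [1,4,2,4,1],
  [1,2,2,8,1],
  [1,3,5,0],
  [1,1,2,4,2],
  [1,4,6,0,3],
  [1,6,5,8,1],
  [1,8,0,8,1],
  [1,1,1,1,0],
  [1,3,7,5,1],
  [1,2,3,2,4],
  [1,6,1,0,0],
  [1,0,1,0,4],
  [1,5,7,4,6],
  [1,4,1,1,1],
  [1,5,8,4,2],
  [1,8,4,4,1,1],
  [1,0,8,1,0],
  [1,4,7,7,0,0],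
  [1,8,5,1],
  [1,2,1,2],
  [1,2,7,4],
  [1,8,1,8,0],
  [1,6,3,3,0],
  [1,6,8,3],
  [1,8,1,1,5],
  [1,2,8,7,1],
  [1,8,4,6,2],
  [1,7,6,2],
  [1,7,1,2,3],
  [1,0,4,6],
  [1,8,2,1,0],
  [1,3,2,2,3],
  [1,1,6,7,1],
  [1,2,2,4,1],
  [1,5,8,5],
  [1,7,4,7,0],
  [1,5,6,5,8,0],
  [1,7,5,4],
  [1,0,7,4,7],
  [1,5,1,2,3],
  [1,2,5,6,5],
  [1,8,7,3,0,0],
  [1,5,5,4],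
  [1,1,6,5],
  [1,5,5,8],
  [1,7,7,7,2],
  [1,4,1,0,5],
  [1,2,7,7,5],
  [1,6,5,6],
  [1,4,3,0,1],
  [1,1,5,7,5,0],
  [1,8,0,1,5],
  [1,6,4,0,0],
  [1,1,0,6,2],
  [1,8,5,6,6],
  [1,5,0,5,6],
  [1,1,7,0,0],
  [1,3,3,8,8],
  [1,5,1,8,0,0],
  [1,4,5,5,1],
  [1,6,3,3],
  [1,4,8,1],
  [1,3,7,3,3],
  [1,8,2,6,4,0],
  [1,2,1],
  [1,5,7,5,1],
  [1,5,8,6,2],
  [1,7,0,5,2],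
  [1,1,6,5,0],
  [1,8,0,5,5],
  [1,5,8,0],
  [1,8,4,6],
  [1,2,4,3,3],
  [1,2,7,1,0],
  [1,0,1,4,3],
  [1,3,3,8,2],
  [1,2,2,1],
  [1,0,5,6,5],
  [1,8,6,8,8,0],
  [1,2,7,1,4],
  [1,0,1,1,1],
  [1,7,0,1,0],
  [1,6,2,6,8]]

/-- Words. -/
def wordsC24 : List (List Nat) := [
  [1,6,7,7],
  [1,8,5,4,5],
  [1,8,1,0,3],
  [1,6,2,5,1],
  [1,7,5,3,5],
  [1,6,8,8],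
  [1,2,3,0,6],
  [1,0,7,1],
  [1,6,7,4,4],
  [1,4,4,0,3],
  [1,5,3,7,0],
  [1,2,3,7,2],
  [1,5,4,0,0],
  [1,5,7,1,5],
  [1,7,2,3],
  [1,4,7,7,0],
  [1,4,2,8,3,0],
  [1,7,1,6],
  [1,6,4,0],
  [1,5,8,3],
  [1,8,2,2],
  [1,0,1,6,4],
  [1,6,8,4,4],
  [1,6,1,7,1],
  [1,2,4,1,1,1],
  [1,6,3,4,0],
  [1,5,1,8,8],
  [1,5,4,4,2],
  [1,7,0,6,2],
  [1,2,7,0,1],
  [1,0,1,6,0],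
  [1,3,6,0,3],
  [1,4,2,1,1],
  [1,7,4,7],
  [1,4,2,2],
  [1,0,0,7,5,0],
  [1,7,5,5,3],
  [1,5,0,3],
  [1,6,5,0,1],
  [1,1,0,6,7],
  [1,4,8,6],
  [1,4,0,6,4],
  [1,5,8,6,3],
  [1,5,7,7,2],
  [1,8,2,1],
  [1,4,7,5,3],
  [1,8,3,4],
  [1,4,4,4,2],
  [1,1,5,7,6],
  [1,4,8,2,1,0],
  [1,7,5,4,2],
  [1,6,2,8,0],
  [1,5,4,0,6],
  [1,0,1,6,6],
  [1,7,1,4],
  [1,5,0,3,2],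
  [1,6,8,0,6],
  [1,3,2,8,3],
  [1,1,5,0],
  [1,4,3,2],
  [1,4,5,5,0],
  [1,5,0,4,4],
  [1,7,0,3,5],
  [1,2,1,1,1],
  [1,7,8,6,3],
  [1,8,3,6,4,0],
  [1,7,6,8,3],
  [1,5,5,1],
  [1,2,5,5,2],
  [1,6,0,3,0],
  [1,4,1,0,1],
  [1,2,6,3],
  [1,8,2,6,3,0],
  [1,4,7,7,5],
  [1,2,6,1],
  [1,2,1,7],
  [1,5,8,0,0],
  [1,7,7,5,2],
  [1,6,1,6,2],
  [1,3,8,4,2],
  [1,8,8,0,6,0],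
  [1,1,5],
  [1,2,1,4,0],
  [1,3,4,6,2],
  [1,8,5,0,1],
  [1,8,3,3],
  [1,6,5,3,0],
  [1,5,3,7],
  [1,6,1,1,0],
  [1,4,1,2],
  [1,3,4],
  [1,5,7,0,1],
  [1,8,1,4,3],
  [1,1,7,5,0],
  [1,2,8],
  [1,1,0,0],
  [1,5,7,8,2],
  [1,2,8,6,0],
  [1,0,0,5,0],
  [1,2,2,6,2]]

/-- Words. -/
def wordsC25 : List (List Nat) := [
  [1,8,8,2,7],
  [1,6,5,7,4],
  [1,8,2,7,7],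
  [1,6,5,1,2],
  [1,8,0,6,5],
  [1,7,1,0],
  [1,6,8,6,3],
  [1,1,1,8,7,0],
  [1,3,2,5,5,0],
  [1,0,7,2,6],
  [1,4,6,3,2],
  [1,5,4,3,7],
  [1,2,8,1,1],
  [1,8,4,1],
  [1,7,5,6,1],
  [1,2,4,5],
  [1,0,4,3],
  [1,1,2,5,0],
  [1,0,8,1,4],
  [1,7,1,5,4],
  [1,1,7,6,0],
  [1,6,8,3,2],
  [1,2,5,2,6],
  [1,0,6,0],
  [1,4,5,3,2],
  [1,8,5,3],
  [1,5,3,7,1,0],
  [1,6,3,7],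
  [1,0,3,6],
  [1,1,2,6],
  [1,7,4,8,6],
  [1,7,2,6,0],
  [1,6,2,5,2],
  [1,7,0,3],
  [1,4,3,6],
  [1,8,4,5],
  [1,6,4,5],
  [1,5,1,1,0,1],
  [1,2,1,6,0],
  [1,1,4,3,0],
  [1,6,3,5,7,0],
  [1,0,8,8,2],
  [1,3,6,5,4],
  [1,4,3,3],
  [1,6,1,0,5],
  [1,8,0,7,0],
  [1,8,0,3,2],
  [1,6,7,1,2],
  [1,5,4,7,1],
  [1,2,2,5,6,0],
  [1,7,7,1,0],
  [1,3,3,4,1],
  [1,3,2,7],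
  [1,7,0,3,7],
  [1,7,1,8,1],
  [1,3,5,3,0],
  [1,4,7,4,5],
  [1,5,5,2,3],
  [1,2,5,1,1,0],
  [1,5,4,4],
  [1,4,1,6,5],
  [1,6,7,6,2],
  [1,3,4,1,1],
  [1,1,6,5,4],
  [1,3,5,3,3],
  [1,5,7,7,0],
  [1,6,7,4,1],
  [1,8,1,5],
  [1,8,2,1,4,0],
  [1,5,0,8],
  [1,6,4,5,4],
  [1,5,3,3,2],
  [1,4,8,5,0],
  [1,0,6,1,4],
  [1,4,0,8,2],
  [1,1,1,4,3,0],
  [1,0,5,6,1],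
  [1,7,1,5,0],
  [1,6,0,7,0],
  [1,6,4,5,0],
  [1,7,0,1],
  [1,2,5,8,0],
  [1,2,6,7,7],
  [1,4,7,8],
  [1,5,8,3,5],
  [1,6,2,8,0,0],
  [1,8,3,3,0],
  [1,1,2,4,1],
  [1,0,8,1],
  [1,6,2,7,2],
  [1,8,1,0,0],
  [1,7,6,5,0],
  [1,4,7,6,1],
  [1,0,7,8,1],
  [1,0,5,8],
  [1,6,8,8,0],
  [1,0,4,7,3,0],
  [1,5,5,8,1],
  [1,8,8,8,2],
  [1,6,7,8,7]]

/-- Words. -/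
def wordsC26 : List (List Nat) := [
  [1,5,3,7,4],
  [1,5,2],
  [1,1,6,0,1],
  [1,0,4,5],
  [1,5,3,5,3],
  [1,8,2,5,1],
  [1,4,6,5],
  [1,1,0,1,0],
  [1,5,5,1,4],
  [1,6,6,7,1],
  [1,4,2,6,3],
  [1,0,6,6],
  [1,6,5,7,6],
  [1,1,1,7],
  [1,2,2,5],
  [1,1,8],
  [1,1,6,1],
  [1,3,6,2,1],
  [1,3,0,4],
  [1,1,8,5,3],
  [1,8,1,0],
  [1,6,0,1,2],
  [1,5,0,5,1],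
  [1,2,4,3,2],
  [1,2,8,5,1],
  [1,3,7,0,1],
  [1,8,1,5,0],
  [1,5,7,4,3],
  [1,7,8,1],
  [1,5,4,3,0],
  [1,8,8,1,8,0],
  [1,1,2,1,0],
  [1,7,2,6,6],
  [1,0,7,7,1],
  [1,8,2,8,7,1],
  [1,0,3,8,1],
  [1,4,6],
  [1,7,0,7,2],
  [1,3,8,8,1],
  [1,0,5,0,0],
  [1,8,7,6,2],
  [1,2,2,1,2],
  [1,5,0,7,7],
  [1,8,0,5,0],
  [1,8,8,8],
  [1,1,4,5,7],
  [1,4,0,0,1],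
  [1,1,0],
  [1,6,6,4,0,0],
  [1,6,2,6,3,0],
  [1,1,2,4,5],
  [1,1,5,4,3,0],
  [1,7,3,2,1],
  [1,7,7,6,2],
  [1,6,7,8,4],
  [1,0,1,1],
  [1,3,2,1,5],
  [1,2,7,2,1],
  [1,3,3,0],
  [1,6,8,5],
  [1,6,7,7,2],
  [1,5,6,0,1],
  [1,3,3,5,7],
  [1,6,7,3],
  [1,8,2,5,2],
  [1,5,5,2,1],
  [1,2,6,2,3],
  [1,2,4,2,3],
  [1,8,2,1,5],
  [1,6,4,1,2,1],
  [1,6,6,2,1],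
  [1,8,0,5,1],
  [1,3,6,6,2],
  [1,1,7,4,6,0],
  [1,6,6,3,2],
  [1,6,7,7,7],
  [1,7,2,6],
  [1,1,4,7],
  [1,0,0,0,0],
  [1,1,5,7,0],
  [1,1,1,4,3],
  [1,6,1,0,0,0],
  [1,4,5,8,0],
  [1,8,4,1,2],
  [1,3,3,6,4],
  [1,0,0,7,5],
  [1,2,6,6,2],
  [1,7,4,2],
  [1,6,2,8,3],
  [1,2,8,5,0],
  [1,5,8,0,6],
  [1,0,1,2],
  [1,6,3,0],
  [1,1,5,8,2],
  [1,7,7,7,7],
  [1,3,8,0,0],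
  [1,3,8,3,2],
  [1,2,3,6,4],
  [1,8,0,4,0],
  [1,7,1,1]]

/-- Words. -/
def wordsC27 : List (List Nat) := [
  [1,5,0,4,1],
  [1,6,0,5,1],
  [1,8,4,5,1,0],
  [1,6,2,6,6],
  [1,7,6,4,5],
  [1,1,0,1,4],
  [1,8,0,0,5],
  [1,4,0,7,3],
  [1,1,8,8,8],
  [1,1,4,3,3],
  [1,1,1,2],
  [1,1,0,4,1],
  [1,5,2,2,6],
  [1,3,2,2,4],
  [1,7,6,5,6],
  [1,8,6,4,0],
  [1,6,1,6,4],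
  [1,6,5,4],
  [1,6,2,2],
  [1,6,1,8,0],
  [1,4,3,7],
  [1,3,4,5,1],
  [1,3,8,7,5],
  [1,5,4,4,3],
  [1,2,4,3,0],
  [1,3,7,7,1],
  [1,1,8,4,0],
  [1,1,8,0,5],
  [1,1,2,1,6],
  [1,4,2,6],
  [1,4,7,8,2],
  [1,1,4,2],
  [1,8,5,3,4],
  [1,7,2,6,1],
  [1,1,6,7,0],
  [1,6,7,6,0],
  [1,8,8,5,1],
  [1,8,7,4],
  [1,6,6,1,1,1],
  [1,7,1,1,4],
  [1,4,8],
  [1,5,3,3,3],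
  [1,1,1,1],
  [1,8,2,2,1],
  [1,8,2,6,3],
  [1,8,3,8,1],
  [1,3,5],
  [1,2,7,6,2],
  [1,2,5,2],
  [1,7,1,4,1],
  [1,5,0,3,3],
  [1,1,6,0,0],
  [1,1,0,4,7],
  [1,8,6,6,4,1],
  [1,1,6,6,3],
  [1,6,3,8,3],
  [1,8,0,0,4,0],
  [1,8,8,8,1],
  [1,0,1,5,0],
  [1,4,4,7,5],
  [1,2,3,4],
  [1,2,8,2,1],
  [1,4,4,1,4],
  [1,7,2,1],
  [1,4,1,1,2],
  [1,0,4,3,2],
  [1,8,7,7,3],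
  [1,6,8,0,4],
  [1,0,0,6,0,0],
  [1,4,6,6,8],
  [1,3,4,2,1],
  [1,1,5,8,8],
  [1,0,0,3,8],
  [1,2,4,4,3,0],
  [1,1,0,0,0,0],
  [1,0,4,0,4],
  [1,1,6,8,2],
  [1,0,7,4,2],
  [1,4,0,5,2],
  [1,1,7,8],
  [1,8,8,6],
  [1,6,6,4,0],
  [1,5,4,7,7],
  [1,7,4,2,6],
  [1,0,8],
  [1,5,3,4,3],
  [1,0,7,0,6,0],
  [1,8,6],
  [1,8,5,0],
  [1,2,2,4,2],
  [1,0,4,4,1],
  [1,5,4,6,4],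
  [1,6,6,2],
  [1,1,4,3,4,1],
  [1,8,1,0,1],
  [1,5,5,5,2],
  [1,7,5,5],
  [1,7,4,7,1,1],
  [1,1,8,5,4],
  [1,1,5,0,6]]

/-- Words. -/
def wordsC28 : List (List Nat) := [
  [1,7,2,7],
  [1,1,2,7,2],
  [1,4,4,8,0],
  [1,8,2,4,7],
  [1,8,0,8],
  [1,7,4,8],
  [1,7,3,5],
  [1,7,2,3,4],
  [1,1,5,6,0],
  [1,8,7,6,5],
  [1,4,7,1,0],
  [1,8,2,7,1],
  [1,4,4,7,7,0],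
  [1,5,6,7],
  [1,3,4,7,0],
  [1,6,7,4,6],
  [1,3,5,3],
  [1,1,6,1,1],
  [1,6,0,4,0],
  [1,1,0,7,3,0],
  [1,4,8,2,3],
  [1,5,0,6,2],
  [1,6,3,6,1],
  [1,3,2,8,0],
  [1,6,7,3,3],
  [1,2,1,1,0],
  [1,1,8,3,0],
  [1,2,5,7,0],
  [1,0,0,1,2],
  [1,4,8,0,1],
  [1,5,8,1,0],
  [1,6,4,1,1],
  [1,5,2,2,1],
  [1,5,6,5,4,0],
  [1,7,7,0,0],
  [1,0,6,3,0],
  [1,2,3,0,1],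
  [1,0,1,1,2],
  [1,3,6,4],
  [1,5,3,5,1],
  [1,2,4,7],
  [1,8,7,7,0,0],
  [1,0,3,5,2],
  [1,3,8,8,0],
  [1,0,5,7,1,2],
  [1,5,4,3,3,0],
  [1,2,7,1],
  [1,4,3,0,7],
  [1,4,0,8,0,0],
  [1,1,5,1,1,0],
  [1,7,2,4,4],
  [1,3,8,3,0],
  [1,5,2,6,1],
  [1,2,1,1],
  [1,7,6,1],
  [1,6,4,6,4],
  [1,0,7,8,0],
  [1,3,2,3],
  [1,6,5,7],
  [1,4,2,8,0,1],
  [1,4,4,3,0],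
  [1,8,3,3,4],
  [1,3,4,4],
  [1,5,8,1,6],
  [1,8,5,2,8],
  [1,4,3,4],
  [1,7,5,1,5],
  [1,4,8,5,6],
  [1,3,4,1,7],
  [1,8,2,6],
  [1,4,0,8,0],
  [1,3,6,4,2],
  [1,8,4,1,4],
  [1,1,8,1],
  [1,1,7,0,4],
  [1,7,7,3,0],
  [1,2,4,0,5],
  [1,6,5,3,4],
  [1,4,6,3,0,0],
  [1,7,0,7,0],
  [1,4,8,7,0],
  [1,5,4,6,8,0],
  [1,3,2,8,4],
  [1,5,5,5,0],
  [1,8,3,7],
  [1,4,8,2,1],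
  [1,6,8,4,3],
  [1,6,6,1,8],
  [1,0,4,2,4],
  [1,6,0,6,2],
  [1,0,8,5,0],
  [1,2,3,8,0],
  [1,3,3,5,0],
  [1,0,8,6],
  [1,6,7,4],
  [1,3,5,0,6],
  [1,6,5,5,2],
  [1,2,8,4,0],
  [1,6,5,5,4,0],
  [1,7,8,7]]

/-- Words. -/
def wordsC29 : List (List Nat) := [
  [1,3,0,1],
  [1,6,7,8,5],
  [1,4,2,2,4],
  [1,2,6,7,0],
  [1,5,1,4,1],
  [1,3,5,6,0],
  [1,5,3,2],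
  [1,7,4,5,0,0],
  [1,2,2,5,3],
  [1,7,4,6,0],
  [1,7,5,8,3],
  [1,4,8,0,0],
  [1,2,3,2,7],
  [1,2,4,2],
  [1,1,4,3],
  [1,6,3,0,3],
  [1,2,5,0,3],
  [1,6,0],
  [1,4,8,3,2],
  [1,4,4,6,8],
  [1,4,5,2],
  [1,7,6,6,1],
  [1,3,0,6,1],
  [1,6,1,6,8],
  [1,5,1,1,4],
  [1,2,7,5,3],
  [1,4,7],
  [1,5,2,1],
  [1,1,7,4,1],
  [1,7,2,2,3],
  [1,4,7,6,2],
  [1,4,0,1,1,1],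
  [1,1,1,0],
  [1,8,2,8,6],
  [1,8,7,1,1],
  [1,5,7,6,7],
  [1,0,6],
  [1,8,8],
  [1,1,0,3],
  [1,7,1,6,2],
  [1,7,5,2,5],
  [1,6,6,7],
  [1,3,7,8],
  [1,4,6,4,1],
  [1,8,4,4,1],
  [1,0,0,8],
  [1,7,1],
  [1,1,4,7,2],
  [1,2,5,5,1],
  [1,5,1,0,4],
  [1,7,7,0,1,0],
  [1,7,0,5,6],
  [1,5,8,5,3],
  [1,8,8,4,8,2],
  [1,1,0,4,0,1],
  [1,5,7,0],
  [1,3,3,6],
  [1,8,7,8,2],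
  [1,4,4,5,4],
  [1,5,3,4,0],
  [1,1,0,8,4],
  [1,8,0,1,2],
  [1,5,0,0],
  [1,2,8,2],
  [1,5,5,6],
  [1,4,0,6,5],
  [1,1,7,7,5],
  [1,5,4,5],
  [1,0,5,0],
  [1,4,6,0,4],
  [2,5,4,2,6],
  [2,8,7,3,3],
  [2,2,7,5,1],
  [2,7,5],
  [2,6,0,0,0],
  [2,7,1,7],
  [2,6,2,6,1],
  [2,8,7,8,0],
  [2,0,7,5,0],
  [2,1,4,1],
  [2,6,8,4,1],
  [2,4,5,3,4],
  [2,7,0,4],
  [2,2,8,8],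
  [2,4,3,8],
  [2,6,5,5,0],
  [2,8,0,4],
  [2,5,1,7],
  [2,0,7,3],
  [2,1,7,7],
  [2,7,7,2,1],
  [2,6,8,2,2],
  [2,4,0,3,0],
  [2,2,4,0,0],
  [2,2,3,7,4],
  [2,7,6,5],
  [2,6,0,6,0],
  [2,8,1,1,0],
  [2,4,5,0,0],
  [2,8,0,1,0]]

/-- Words. -/
def wordsC30 : List (List Nat) := [
  [2,1,5,5,1],
  [2,2,4,6],
  [2,2,8,0],
  [2,2,4,8],
  [2,7,0,4,0],
  [2,1,8,5],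
  [2,4,5,0],
  [2,6,7,8],
  [2,8,6,2,1],
  [2,6,3,0,1],
  [2,4,0,6,0],
  [2,5,4,0],
  [2,8,6,2],
  [2,5,6,1],
  [2,8,8,0,0],
  [2,7,6,7,2],
  [2,4,4,2],
  [2,4,8,3,0],
  [2,5,1,7,0],
  [2,3,2,1],
  [2,1,6,1,0],
  [2,7,5,1],
  [2,3,4,8,0],
  [2,4,7,6,0],
  [2,6,0,7],
  [2,5,3,0],
  [2,5,2,5],
  [2,4,5,6],
  [2,4,0,6],
  [2,2,6,4,0],
  [2,1,2,2,2],
  [2,7,8,5,0],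
  [2,0,6,0,0],
  [2,1,8,5,2],
  [2,6,7,8,0],
  [2,4,7,7,1],
  [2,4,8,4],
  [2,3,8,2],
  [2,4,7,7],
  [2,5,4],
  [2,7,5,1,0],
  [2,5,3,0,0],
  [2,5,1,7,3],
  [2,4,5,8],
  [2,7,7,2,2],
  [2,1,0,1],
  [2,3,4,8],
  [2,2,6,4],
  [2,5,6,1,1],
  [2,2,4,0],
  [2,7,2,2,1],
  [2,1,8,5,1],
  [2,4,4,2,1],
  [2,8,1,4,1],
  [2,1,5,5],
  [2,1,6,4],
  [2,3,0,5],
  [2,2,3,6,0],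
  [2,8,5,1,0],
  [2,0,7,6,3],
  [2,6,3,4,1],
  [2,6,1,2],
  [2,2,3,5],
  [2,7,7,2],
  [2,4,0,5],
  [2,1,2,2],
  [2,3,6,4,0],
  [2,6,5,4,2],
  [2,1,7,7,0],
  [2,7,0,3,0],
  [2,0,3,8,3],
  [2,2,1,5],
  [2,7,5,2],
  [2,0,7,5],
  [2,8,7,1,5],
  [2,3,2,6],
  [2,6,6,6],
  [2,1,6,4,0],
  [2,2,7,7,2],
  [2,3,8,3,0],
  [2,2,7,5],
  [2,7,3,3],
  [2,5,2,4,0],
  [2,4,4,6,0],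
  [2,7,7,4,0],
  [2,5,1,2],
  [2,7,5,0],
  [2,6,7,1,0],
  [2,1,0,5],
  [2,8,7,6,0],
  [2,6,4,8,0],
  [2,8,1,8,2],
  [2,0,0,4,1],
  [2,6,1,1],
  [2,6,6,0],
  [2,2,3,2,1],
  [2,5,8,4,1],
  [2,2,5,3,0],
  [2,0,0,1,0],
  [2,3,0,4,0]]

/-- Words. -/
def wordsC31 : List (List Nat) := [
  [2,5,5,5,0],
  [2,3,8,5],
  [2,3,4,3,0],
  [2,4,8,8,2],
  [2,7,2,5,0],
  [2,3,2,5],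
  [2,6,6,0,0],
  [2,1,8,2],
  [2,6,7,2],
  [2,0,6,2],
  [2,5,3,4,1],
  [2,8,7,3],
  [2,4,0,0,3],
  [2,7,0,3,2],
  [2,5,4,5,1],
  [2,4,4,3],
  [2,0,6,2,1],
  [2,8,6,6,0],
  [2,7,6,0],
  [2,7,0,5,1],
  [2,5,8,2,2],
  [2,7,7,4],
  [2,5,5,4,2],
  [2,5,6,0,3],
  [2,6,1,7,0],
  [2,1,2,1],
  [2,8,6,7,1],
  [2,7,2,4,2],
  [2,1,2,1,1],
  [2,7,6,3],
  [2,7,5,3],
  [2,7,1,6,4],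
  [2,0,8,7],
  [2,0,5,4],
  [2,3,8,3],
  [2,0,4,7,0],
  [2,5,3,0,1],
  [2,6,0,6,1],
  [2,4,2,8],
  [2,4,7,0,1],
  [2,6,7,1],
  [2,7,5,1,5],
  [2,6,7],
  [2,7,3],
  [2,1,5,5,4],
  [2,6,0,8,2],
  [2,3,8,6],
  [2,7,6,0,1],
  [2,8,7,6],
  [2,0,1,1,0],
  [2,2,1,0,1],
  [2,1,2,5,2],
  [2,0,0,4],
  [2,4,4,6],
  [2,6,2,1,2],
  [2,3,4,2,2],
  [2,2,7,6,0],
  [2,7,4,0],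
  [2,0,0,4,0],
  [2,6,6,3,0],
  [2,6,1,5],
  [2,6,5,6,0],
  [2,4,1,1,0],
  [2,2,8,4],
  [2,6,3,2],
  [2,7,3,0,0],
  [2,3,3],
  [2,5,4,4,1],
  [2,7,4,3],
  [2,2,4,2],
  [2,0,6,8],
  [2,3,6,3,0],
  [2,5,3,2],
  [2,5,5,7],
  [2,6],
  [2,5,0],
  [2,8,8,0,1],
  [2,8,2,4],
  [2,0,3,2],
  [2,8,2,6,1],
  [2,1,8,8],
  [2,2,3,8],
  [2,5,8,7,3],
  [2,3],
  [2,7,6,1],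
  [2,2,5,6],
  [2,0,0,6,4],
  [2,6,2,6],
  [2,4,8,0,0],
  [2,5,0,1],
  [2,8,8,2,2],
  [2,2,5,0],
  [2,6,1,6],
  [2,5,1,5],
  [2,6,0,1],
  [2,0,8,5],
  [2,4,8,7],
  [2,5],
  [2,3,6,3],
  [2,8,2,1,7]]

/-- Words. -/
def wordsC32 : List (List Nat) := [
  [2,4,5,1,0],
  [2,1,1,5],
  [2,6,6,3],
  [2,3,4,4,1],
  [2,4,5,4],
  [2,8,3,4,1],
  [2,8,1,2],
  [2,0,3,2,2],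
  [2,1,2,5,1],
  [2,5,1,5,0],
  [2,5,8,7],
  [2,4,4,7,0],
  [2,8,6,5,0],
  [2,7,1,7,0],
  [2,1,1,5,1],
  [2,3,6,7],
  [2,0,1,0,0],
  [2,3,3,8,3],
  [2,7,8,6,1],
  [2,8,5,3,2],
  [2,6,4,1,0],
  [2,5,4,8,1],
  [2,1,0,5,7],
  [2,7,2,2,3],
  [2,8,1,7,0],
  [2,6,2,1],
  [2,8,6,6,1],
  [2,7,4,8],
  [2,3,8,4,0],
  [2,7,3,7,4],
  [2,7,4,0,0],
  [2,3,0,5,0],
  [2,4,5,7],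
  [2,6,8,1,0],
  [2,0,4,1,0],
  [2,8,7],
  [2,3,3,8,0],
  [2,0,6,3,2],
  [2,4,2,4,2],
  [2,4,4,5,1],
  [2,8,7,2],
  [2,7,2,2,6],
  [2,5,5,3,3],
  [2,3,3,8],
  [2,3,0,3],
  [2,5,4,1],
  [2,1,1,0],
  [2,7,8,6,2],
  [2,3,5,8],
  [2,8,0,6,1],
  [2,5,7,4],
  [2,4,3,4],
  [2,5,1,8],
  [2,1,7,4,1],
  [2,0,4,1],
  [2,7,8,0],
  [2,2,6,6,0],
  [2,1,1,6,1],
  [2,0,4],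
  [2,4,2,4],
  [2,6,8,0],
  [2,2,1,2,3],
  [2,5,8,6,2],
  [2,6,6,4],
  [2,7,0,4,1],
  [2,2,1,2],
  [2,4,8],
  [2,6,8,0,0],
  [2,4,5,5],
  [2,2,6,8,2],
  [2,6,1,1,7],
  [2,4,5,3],
  [2,0,8,4,2],
  [2,5,7,5],
  [2,8,8,4],
  [2,1,1,0,1],
  [2,7,6,2,2],
  [2,4,7,7,0],
  [2,2,7,8],
  [2,4,4,7,1,0],
  [2,7,8,7],
  [2,0,7,2],
  [2,3,6,0,0],
  [2,6,7,5,1],
  [2,6,3,6,0],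
  [2,0,6,5],
  [2,0,5],
  [2,4,2,7,0],
  [2,6,4,3,4],
  [2,6,4,6],
  [2,8,5],
  [2,0,8,8],
  [2,1,6,7],
  [2,6,6,4,1],
  [2,6,2,7],
  [2,0,4,8],
  [2,6,7,1,1],
  [2,2,3],
  [2,7,7,6,0],
  [2,8,5,0]]

/-- Words. -/
def wordsC33 : List (List Nat) := [
  [2,6,4,6,0],
  [2,1,7,3],
  [2,2,6],
  [2,3,4,1,0],
  [2,2,2,5,0],
  [2,5,3,7],
  [2,7,0,5],
  [2,5,5,2,2],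
  [2,0,4,0],
  [2,5,7,0],
  [2,4,2,5],
  [2,4,3,0],
  [2,8,3,0],
  [2,4,6,1,1],
  [2,7,7,7,1],
  [2,4,1],
  [2,3,5,4],
  [2,7,8,8,0],
  [2,7,7],
  [2,7,4,5],
  [2,0,3,7],
  [2,5,7,2],
  [2,5,5],
  [2,8,3,8,0],
  [2,1,1,2],
  [2,2,2,2],
  [2,7,0,5,6],
  [2,2,4,4],
  [2,6,4,2],
  [2,4,1,2],
  [2,3,8,0,0],
  [2,4,1,0],
  [2,8,7,5,1],
  [2,7,0,7,0],
  [2,5,4,6],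
  [2,1,2,7,2],
  [2,6,2,5],
  [2,5,3,3,0],
  [2,4],
  [2,1,6],
  [2,1,4,2,1],
  [2,2,5,7,0],
  [2,8,3,8,1],
  [2,8,5,6,0],
  [2,7,1,2],
  [2,3,4,0,0],
  [2,8,4,2],
  [2,6,5,8,1],
  [2,1,0,8],
  [2,0,4,0,1],
  [2,8,6,1],
  [2,2,1,7,3],
  [2,7,5,5,2],
  [2,2,2,6],
  [2,0,1,0,1],
  [2,2,4,3],
  [2,3,4,6,0],
  [2,6,7,3],
  [2,6,1,8,0],
  [2,7,7,7,0],
  [2,6,6,7],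
  [2,7,5,3,0],
  [2,2,5,6,0],
  [2,4,5,6,5],
  [2,8,2,4,1],
  [2,5,2,7],
  [2,3,5,5],
  [2,3,8],
  [2,0,3],
  [2,1,4,4],
  [2,6,6,2,1],
  [2,3,0,7],
  [2,2,1,7],
  [2,4,3,2,2],
  [2,0,6,5,0],
  [2,6,6,1],
  [2,8,4,3],
  [2,3,7,2],
  [2,1,7,0],
  [2,2,4,3,0],
  [2,2,8,5],
  [2,4,0],
  [2,7,0,0],
  [2,6,2,4,1],
  [2,7,3,4,1],
  [2,1,7,2],
  [2,1,4,3,5],
  [2,6,5,2],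
  [2,2,2,1,1],
  [2,3,4,3,2],
  [2,0,7,7],
  [2,1,2,6],
  [2,6,8,1,1],
  [2,0,5,6],
  [2,6,7,5],
  [2,1,8,3,2],
  [2,0,8,4],
  [2,2,7,1],
  [2,8,1],
  [2,1,0,4,3]]

/-- Words. -/
def wordsC34 : List (List Nat) := [
  [2,2,5,1],
  [2,6,3,0],
  [2,0,8,0,1],
  [2,4,1,0,0,0],
  [2,3,2,6,6],
  [2,1,0,3],
  [2,1,0,0],
  [2,6,2,6,0],
  [2,8,8,0,1,0],
  [2,3,5,4,2],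
  [2,5,6,4],
  [2,0,7],
  [2,7,1,8,2],
  [2,5,6],
  [2,3,2,4],
  [2,8,6,3,0],
  [2,4,1,1,2],
  [2,8,4],
  [2,5,3,4],
  [2,1,7,4,0],
  [2,1,8,3],
  [2,4,4,1],
  [2,3,6,7,6],
  [2,4,0,0],
  [2,1,5,2,7],
  [2,8],
  [2,0,6,1],
  [2,3,3,5],
  [2,6,0,4],
  [2,7,8,1],
  [2,8,7,4,1],
  [2,1,2,3],
  [2,8,6,1,0],
  [2,3,7,4],
  [2,0,4,6,4],
  [2,5,6,1,7],
  [2,8,0,3,0],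
  [2,4,5,2],
  [2,5,5,8,1],
  [2,0,7,0,0],
  [2,2,4,7,4],
  [2,8,5,2],
  [2,1,0,7,1],
  [2,6,2,2,1],
  [2,7,7,3,4],
  [2,8,3,2],
  [2,5,6,0],
  [2,7,7,6],
  [2,0,4,5,0],
  [2,4,7,1,0],
  [2,2,5,7],
  [2,6,8,2],
  [2,2,8,8,5],
  [2,2,6,5,0],
  [2,0,0],
  [2,1,2],
  [2,7,8,2],
  [2,0,4,5,5],
  [2,6,7,6,0],
  [2,3,4,1],
  [2,4,1,2,1],
  [2,3,3,3],
  [2,6,5,1,0],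
  [2,1,6,6],
  [2,4,3],
  [2,0,6,7,3],
  [2,2,4,3,5],
  [2,3,8,1],
  [2,2,7,2],
  [2,5,4,8,0],
  [2,5,4,1,1],
  [2,2,3,2],
  [2,5,4,6,0],
  [2,4,2],
  [2,6,7,5,0],
  [2,0,4,5,1],
  [2,7,4,4,1],
  [2,0,1,7,0],
  [2,2,2,7,0],
  [2,8,6,4],
  [2,6,2,8,0],
  [2,8,0,5,2],
  [2,0,7,4,3],
  [2,8,2,5],
  [2,4,6,6,0],
  [2,6,4,7,2],
  [2,8,6,0,1],
  [2,0,6,4],
  [2,5,8,7,1],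
  [2,5,1,6,8],
  [2,1,8,0,1],
  [2,1,2,4],
  [2,7,7,6,3],
  [2,0,3,4],
  [2,3,4,7],
  [2,4,1,6,6],
  [2,8,8,0,4],
  [2,3,3,3,0],
  [2,6,0,5,2],
  [2,4,6,8]]

/-- Words. -/
def wordsC35 : List (List Nat) := [
  [2,5,3,6,5],
  [2,1,0,8,2],
  [2,7,2,2],
  [2,3,5,2,2],
  [2,1,7],
  [2,1,5,2],
  [2,6,6,2],
  [2,5,6,8],
  [2,1,8,8,3],
  [2,2,2,3],
  [2,4,4,1,2],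
  [2,8,8,1],
  [2,4,3,5,4],
  [2,1,2,5],
  [2,0],
  [2,0,0,3],
  [2,2,2,6,1],
  [2,4,1,5],
  [2,1,2,8],
  [2,4,6,3],
  [2,2,6,5],
  [2,8,5,6],
  [2,8,7,7],
  [2,6,5],
  [2,2,1,2,4],
  [2,3,3,5,2],
  [2,2,6,1],
  [2,0,6],
  [2,4,3,3,3],
  [2,7,3,7,0],
  [2,7,0,8,1],
  [2,7,7,1],
  [2,7,1,5,0],
  [2,2,4,1],
  [2,1,2,1,6],
  [2,5,2,1],
  [2,4,6,5],
  [2,8,2,3,2],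
  [2,6,1],
  [2,1,8,1,1],
  [2,1,8,6,0],
  [2,2,4,6,0],
  [2,0,0,5,2],
  [2,8,2,7,0],
  [2,5,6,2,2],
  [2,0,1,7,2],
  [2,6,4,8,1],
  [2,3,7,3],
  [2,2,8,5,3],
  [2,8,2,2,3],
  [2,5,5,4],
  [2,4,5,3,3],
  [2,2,3,0,0],
  [2,3,7,6],
  [2,5,7,5,1],
  [2,0,6,5,2],
  [2,2,1,1],
  [2,0,3,6,0],
  [2,2,3,0,1],
  [2,4,4],
  [2,0,4,0,0],
  [2,7,2,4,3],
  [2,8,6],
  [2,6,2,7,0],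
  [2,6,6,0,1],
  [2,5,5,1],
  [2,8,1,7],
  [2,5,0,4],
  [2,1,4,3,2],
  [2,5,5,0,1],
  [2,1,8,1],
  [2,7,1,0,3],
  [2,2,4,7],
  [2,7,0,7],
  [2,4,1,6,5],
  [2,3,6,2,1],
  [2,1,0,3,2],
  [2,5,8,1],
  [2,3,6,6,1],
  [2,3,4,0],
  [2,8,7,0,0],
  [2,4,2,1],
  [2,8,4,0],
  [2,1,8,7],
  [2,7,0],
  [2,3,3,7,2],
  [2,1,1,5,0],
  [2,7,1],
  [2,3,7,0],
  [2,1,5,0],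
  [2,7,8],
  [2,2,6,4,1],
  [2,2,2,2,1],
  [2,7,5,5],
  [2,4,3,2],
  [2,0,7,7,1],
  [2,8,2,5,5],
  [2,0,8,1],
  [2,8,8,8,0],
  [2,5,2,6,0]]

/-- Words. -/
def wordsC36 : List (List Nat) := [
  [2,4,3,3],
  [2,6,8,1],
  [2,0,5,0],
  [2,5,2,1,1],
  [2,3,7,4,1],
  [2,4,5,2,1],
  [2,8,0,4,3],
  [2,0,1],
  [2,0,4,1,2],
  [2,0,8],
  [2,4,6,3,0],
  [2,2,1,0],
  [2,4,1,6],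
  [2,1,8,1,5],
  [2,0,7,0,4],
  [2,8,3,4],
  [2,2,7,7,3],
  [2,5,3,6,0],
  [2,5,1],
  [2,2,6,0],
  [2,2,2],
  [2,5,3,8,0],
  [2,0,1,2,3],
  [2,8,0],
  [2,4,7,2],
  [2,4,5,3,2],
  [2,8,8,8,1],
  [2,4,6],
  [2,7,0,1],
  [2,8,4,1],
  [2,4,1,8,2],
  [2,4,7,5,0],
  [2,6,8,5,0],
  [2,8,1,0,1],
  [2,2,4,8,0],
  [2,3,8,4],
  [2,8,0,6],
  [2,8,0,0],
  [2,1,1,6],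
  [2,2,6,7,2],
  [2,6,2],
  [2,4,1,8],
  [2,0,4,2],
  [2,3,6,7,3],
  [2,2,7,3],
  [2,3,5,6],
  [2,6,8,4],
  [2,0,3,3,3],
  [2,0,5,2],
  [2,6,8,6],
  [2,2,7,0],
  [2,6,5,4,1],
  [2,4,1,5,0],
  [2,6,1,7,2],
  [2,3,7,3,0],
  [2,1,1,4,1],
  [2,7,0,1,0],
  [2,8,3,0,0,0],
  [2,4,6,4,1],
  [2,7,4,2],
  [2,6,7,7,6],
  [2,7,8,3,0],
  [2,5,1,1,0],
  [2,4,1,1],
  [2,2,1,4,4],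
  [2,6,1,6,2],
  [2,0,1,2],
  [2,5,1,1,1],
  [2,4,7,6,2],
  [2,2,3,2,4],
  [2,2,4,4,1],
  [2,1,6,2],
  [2,7,1,6,1],
  [2,6,2,5,0],
  [2,0,5,7],
  [2,0,4,3],
  [2,4,3,5],
  [2,6,5,1,7],
  [2,4,6,0,3],
  [2,8,8],
  [2,1,8,5,0],
  [2,7,2,6],
  [2,5,7,7],
  [2,3,0,0,0],
  [2,8,4,0,0],
  [2,5,8,4],
  [2,0,7,7,0],
  [2,5,5,6],
  [2,4,5,1],
  [2,7,2],
  [2,3,2,5,1],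
  [2,1,1,7,0],
  [2,3,6,5,2],
  [2,4,6,3,8],
  [2,3,4],
  [2,3,7,1],
  [2,4,2,2],
  [2,7,6,0,0],
  [2,1,8,1,2],
  [2,2,5,5,1]]

/-- Words. -/
def wordsC37 : List (List Nat) := [
  [2,2,6,8,1],
  [2,3,7],
  [2,4,6,0],
  [2,3,8,8,0],
  [2,0,0,0],
  [2,8,4,3,0],
  [2,3,7,2,1],
  [2,8,8,5],
  [2,6,5,0],
  [2,4,0,1],
  [2,0,0,5],
  [2,2,5,7,2],
  [2,5,0,4,2],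
  [2,5,8,6],
  [2,6,1,7,3],
  [2,5,5,4,1],
  [2,6,2,7,2],
  [2,2,5,5,0],
  [2,6,4,3],
  [2,8,3,3],
  [2,2,8,2,4],
  [2,3,2],
  [2,7,2,1,0],
  [2,6,4],
  [2,7,0,8],
  [2,7,1,8,1],
  [2,8,5,4,0],
  [2,3,3,4,2],
  [2,5,5,3],
  [2,7,7,8],
  [2,6,1,1,0],
  [2,8,0,3],
  [2,0,3,0],
  [2,3,5,3],
  [2,5,4,5],
  [2,5,7],
  [2,1,6,3],
  [2,8,3],
  [2,0,5,0,1],
  [2,6,5,6],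
  [2,5,3,7,0],
  [2,0,8,2,5],
  [2,2,8,2],
  [2,6,6,1,1],
  [2,6,3,0,0],
  [2,3,6,3,2],
  [2,2,1,6,0],
  [2,2,6,6],
  [2,8,2,3],
  [2,4,7,4],
  [2,5,7,1],
  [2,2,2,7],
  [2,8,4,0,1],
  [2,5,5,0],
  [2,4,4,4],
  [2,3,5,0,0],
  [2,0,8,6],
  [2,4,8,1,1],
  [2,3,5,6,0],
  [2,1,8,0],
  [2,1,4,6],
  [2,8,2,3,0],
  [2,8,0,6,0],
  [2,3,0,1],
  [2,0,4,4],
  [2,5,6,5],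
  [2,6,8,7],
  [2,3,2,6,2],
  [2,0,5,1],
  [2,6,0],
  [2,3,6,6],
  [2,4,8,8,0],
  [2,6,4,4],
  [2,7,1,5],
  [2,4,5,7,0],
  [2,4,4,5,2],
  [2,3,4,2],
  [2,5,3,5,4],
  [2,0,7,4],
  [2,8,7,1,0],
  [2,4,7],
  [2,5,1,0],
  [2,6,1,2,3],
  [2,4,8,3,2],
  [2,3,7,5],
  [2,2,8,8,0],
  [2,6,3,3,0],
  [2,4,1,0,5],
  [2,8,2],
  [2,0,3,4,0],
  [2,8,2,1],
  [2,7,5,4],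
  [2,6,4,0],
  [2,5,7,7,2],
  [2,2,5,2],
  [2,5,8,8],
  [2,5,7,8,2],
  [2,8,1,4,6],
  [2,2,5,0,1,0],
  [2,8,1,8,0]]

/-- Words. -/
def wordsC38 : List (List Nat) := [
  [2,8,6,3],
  [2,8,5,3],
  [2,0,8,0],
  [2,5,0,4,0],
  [2,7,8,3,3],
  [2,7,5,7],
  [2,1,2,6,1],
  [2,2,2,4],
  [2,0,5,0,4],
  [2,7,3,7],
  [2,5,7,4,0],
  [2,6,1,7],
  [2,7,8,1,0],
  [2,6,7,2,2],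
  [2,4,2,4,0],
  [2,8,5,3,3],
  [2,3,6,8,2],
  [2,3,0,0],
  [2,2,6,1,0],
  [2,2],
  [2,2,7,2,1],
  [2,1,2,5,0],
  [2,1,5,7],
  [2,3,7,8,2],
  [2,7,2,4,0],
  [2,5,2,2],
  [2,8,8,2],
  [2,1,1,7],
  [2,2,7,7,0],
  [2,4,8,2,2],
  [2,1,4,6,3],
  [2,5,8,3],
  [2,0,6,8,1],
  [2,4,5,0,1],
  [2,7,4,6,0],
  [2,5,2,7,3],
  [2,6,0,5,0],
  [2,5,8,5],
  [2,5,5,7,0],
  [2,3,5,2],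
  [2,3,3,0],
  [2,1,6,5],
  [2,8,5,2,2],
  [2,5,3,3],
  [2,2,4,7,0],
  [2,1,2,7],
  [2,1,1,1],
  [2,4,1,8,5],
  [2,1,6,0],
  [2,6,3,4],
  [2,6,6],
  [2,5,0,0],
  [2,3,0,8],
  [2,8,1,5],
  [2,0,3,7,3],
  [2,6,7,1,2],
  [2,2,3,0],
  [2,5,7,6],
  [2,0,7,0],
  [2,0,4,2,1],
  [2,3,2,1,5],
  [2,7,1,1],
  [2,7,7,6,2],
  [2,2,7],
  [2,2,2,8],
  [2,3,5,3,3],
  [2,0,5,7,1],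
  [2,0,8,4,0],
  [2,5,3,5],
  [2,4,2,8,4],
  [2,7,8,3],
  [2,7,6,5,6],
  [2,4,2,6],
  [2,6,4,1],
  [2,2,2,1],
  [2,0,7,8],
  [2,4,8,1],
  [2,8,6,1,2],
  [2,5,4,0,0],
  [2,0,7,1],
  [2,8,3,3,0],
  [2,2,7,1,0],
  [2,4,8,5],
  [2,0,0,8,1],
  [2,1,4,8,7],
  [2,1,0,4],
  [2,1,5,1],
  [2,5,8],
  [2,1,0,6],
  [2,6,2,2,2],
  [2,0,4,3,2],
  [2,2,7,6],
  [2,5,6,8,3],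
  [2,8,2,2,4],
  [2,1,1,2,1],
  [2,1,4,4,3],
  [2,7,6,7],
  [2,3,5,4,1],
  [2,0,0,8],
  [2,1,0]]

/-- Words. -/
def wordsC39 : List (List Nat) := [
  [2,2,7,4,1],
  [2,6,4,5],
  [2,7,0,0,0],
  [2,3,4,3],
  [2,0,5,5,0],
  [2,1,7,0,1],
  [2,1,6,6,2],
  [2,4,7,5],
  [2,7,2,7,0],
  [2,1,2,3,0],
  [2,7,7,3],
  [2,8,1,0],
  [2,4,8,0],
  [2,7,6,2],
  [2,1,1],
  [2,7,3,0],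
  [2,4,3,4,3],
  [2,6,3,5],
  [2,3,3,2,1],
  [2,8,7,5],
  [2,6,0,0],
  [2,3,2,6,0],
  [2,7,6,6,6],
  [2,2,4,5,0],
  [2,7,6],
  [2,6,0,6],
  [2,4,2,8,0],
  [2,3,2,3,0],
  [2,5,2,4],
  [2,5,7,8],
  [2,1,8,2,1],
  [2,1,7,5,4],
  [2,4,4,3,3],
  [2,3,2,5,0],
  [2,5,0,0,0],
  [2,5,1,6],
  [2,2,7,0,0],
  [2,7,3,8],
  [2,3,6,5],
  [2,1,5,4,1],
  [2,1,8,6],
  [2,8,7,8],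
  [2,6,6,5],
  [2,8,5,5,0],
  [2,3,0],
  [2,4,3,8,4],
  [2,5,0,1,0],
  [2,5,6,3,3],
  [2,2,5,8],
  [2,7,4],
  [2,1,4,0,0],
  [2,3,7,6,0],
  [2,6,2,2],
  [2,6,8,4,2],
  [2,3,0,3,0],
  [2,1,1,0,0],
  [2,5,4,2],
  [2,8,7,1],
  [2,0,0,7,0],
  [2,0,5,3,5],
  [2,7,3,5],
  [2,1,1,8],
  [2,0,1,0],
  [2,6,4,0,0],
  [2,2,1,1,0],
  [2,4,2,7],
  [2,6,6,4,0],
  [2,5,4,5,0],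
  [2,1,1,2,2],
  [2,7,6,2,1],
  [2,6,3,7,4],
  [2,6,8,3],
  [2,0,0,7,5],
  [2,5,5,2,1],
  [2,7,5,0,0],
  [2,0,1,5],
  [2,8,7,4],
  [2,3,2,2],
  [2,5,3,7,2],
  [2,1,0,0,0],
  [2,7,5,7,0],
  [2,3,2,4,0],
  [2,5,5,1,0],
  [2,8,5,1],
  [2,4,7,6],
  [2,8,3,4,0],
  [2,6,1,0],
  [2,6,8,5],
  [2,6,0,4,0],
  [2,6,5,7,0],
  [2,7,4,1],
  [2,1,5,6],
  [2,8,0,1],
  [2,3,2,4,1],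
  [2,4,6,6],
  [2,0,8,2],
  [2,7],
  [2,3,7,2,2],
  [2,4,6,4],
  [2,8,8,0]]

/-- Words. -/
def wordsC40 : List (List Nat) := [
  [2,2,5,5],
  [2,2,4,1,2],
  [2,4,5],
  [2,5,0,8],
  [2,2,8],
  [2,2,4],
  [2,2,1,6],
  [2,3,6,1],
  [2,1,4,4,1],
  [2,5,6,7],
  [2,6,7,6],
  [2,5,8,1,2],
  [2,2,7,0,1],
  [2,1,0,5,0],
  [2,3,8,0],
  [2,3,4,6],
  [2,5,6,2],
  [2,7,2,1],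
  [2,8,8,4,0],
  [2,2,2,1,2],
  [2,7,4,3,0],
  [2,7,8,5],
  [2,2,8,5,0],
  [2,5,4,7],
  [2,1,5,7,0],
  [2,0,0,6,0],
  [2],
  [2,1,4,0,1],
  [2,4,0,1,1],
  [2,3,7,8,0],
  [2,1,8,1,0],
  [2,2,6,2],
  [2,1,5,1,0],
  [2,2,7,4,2],
  [2,7,5,1,2],
  [2,0,5,3],
  [2,0,6,3],
  [2,7,8,7,3],
  [2,6,3,5,6],
  [2,8,1,8],
  [2,0,3,5,2],
  [2,5,5,2],
  [2,6,5,5],
  [2,6,8],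
  [2,6,5,7,6],
  [2,2,8,7,2],
  [2,6,4,4,3],
  [2,3,6,0],
  [2,3,3,6,6],
  [2,1],
  [2,7,7,0],
  [2,4,2,8,5],
  [2,2,4,5,1],
  [2,1,5,4],
  [2,8,4,4],
  [2,6,3,3],
  [2,8,1,5,0],
  [2,1,8,3,0],
  [2,1,8,2,5],
  [2,8,0,5,0],
  [2,1,0,6,1],
  [2,3,6,4],
  [2,3,5],
  [2,6,0,3],
  [2,6,3,8],
  [2,5,5,5,3],
  [2,8,3,7,0],
  [2,5,2,7,0],
  [2,3,2,7],
  [2,6,2,4,2],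
  [2,5,6,0,0],
  [2,4,7,0],
  [2,6,8,7,4],
  [2,8,3,5],
  [2,8,2,2],
  [2,1,4,5,0],
  [2,4,5,5,0],
  [2,4,3,8,2],
  [2,7,0,3],
  [2,2,5],
  [2,1,1,1,0],
  [2,4,4,8,1],
  [2,0,8,1,0],
  [2,7,0,0,3],
  [2,6,7,6,3],
  [2,8,1,8,1],
  [2,5,2],
  [2,3,8,8,1],
  [2,8,8,3],
  [2,7,6,4,1],
  [2,0,6,6],
  [2,0,5,0,0],
  [2,5,1,7,2],
  [2,6,5,4,0],
  [2,1,8],
  [2,5,3],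
  [2,7,2,5],
  [2,6,3],
  [2,8,6,0],
  [2,7,6,4]]

/-- Words. -/
def wordsC41 : List (List Nat) := [
  [2,8,1,1],
  [2,8,5,8],
  [2,2,1],
  [2,1,5,3,0],
  [2,3,5,3,0],
  [2,7,3,4],
  [2,0,1,1],
  [2,7,1,0],
  [2,0,0,7,1],
  [2,1,6,1],
  [2,1,2,4,1],
  [2,2,6,0,3],
  [2,6,7,8,2],
  [2,0,0,5,1],
  [2,0,6,0],
  [2,0,4,8,0],
  [2,1,6,8],
  [2,7,5,7,1],
  [2,6,1,4,1],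
  [2,2,5,3],
  [2,2,6,3],
  [2,0,5,8],
  [2,1,0,3,0],
  [2,4,5,5,1],
  [2,1,5]]

/-- All words, each preceded by the number of its representative, sorted by the points reached. -/
def wordsC : List (List Nat) :=
  List.flatten [wordsC0,wordsC1,wordsC2,wordsC3,wordsC4,wordsC5,wordsC6,wordsC7,wordsC8,wordsC9,wordsC10,wordsC11,wordsC12,wordsC13,wordsC14,wordsC15,wordsC16,wordsC17,wordsC18,wordsC19,wordsC20,wordsC21,wordsC22,wordsC23,wordsC24,wordsC25,wordsC26,wordsC27,wordsC28,wordsC29,wordsC30,wordsC31,wordsC32,wordsC33,wordsC34,wordsC35,wordsC36,wordsC37,wordsC38,wordsC39,wordsC40,wordsC41]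

end Cfsg.Agent.Co3Rank
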