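import Mathlib.Data.List.Range

/-!
# Words reaching the suborbit points
-/

set_option autoImplicit false

namespace Cfsg.Agent.Co3Rank

/-- The base point. -/
def baseD : List Int := [-1,-1,-1,-1,-1,1,1,-1,1,1,-1,1,3,1,1,1,1,1,1,1,1,1,1,1]

/-- Words to the images giving the further representatives. -/
def linkD : List (List Nat) := [[6,5,2,1],[5,6,8,0]]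

/-- Words. -/
def wordsD0 : List (List Nat) := [
  [0,1,4,1],
  [0,3,2,3,0],
  [0,1,6,4],
  [0,8,1,4,1],
  [0,0,0,4],
  [0,3,0,1,0],
  [0,3,7,5,1],
  [0,0,7,6],
  [0,4,1,1,0],
  [0,6,6,6],
  [0,0,0,1,0],
  [0,3,8,5,3],
  [0,1,1,5],
  [0,5,8,7],
  [0,8,1,6,4],
  [0,0,8,6,0],
  [0,7,8,6],
  [0,5,0,7,2],
  [0,7,0,4],
  [0,0,5,2,4],
  [0,6,4,4],
  [0,3,4,4,0],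
  [0,3,3,4,0],
  [0,2,2,4],
  [0,2,3,4,3],
  [0,1,6,4,1],
  [0,4,7,0,1],
  [0,7,5,1,2],
  [0,3,7,5,0],
  [0,2,2,4,1],
  [0,1,7,0,1],
  [0,1,7,4,5],
  [0,6,6],
  [0,4,7,7],
  [0,1,2,8,1],
  [0,7,7,4,0],
  [0,8,0,4],
  [0,2,5,1,5],
  [0,7,5],
  [0,6,0,3,0],
  [0,4,4,3,2],
  [0,4,0,6],
  [0,0,7,0,4],
  [0,6,2,7,2],
  [0,6,0,0],
  [0,4,4,2],
  [0,3,4,1],
  [0,5,0,0,0],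
  [0,2,4,0,3],
  [0,5,4,6,2],
  [0,2,8,1,1],
  [0,6,0,1,1],
  [0,2,4],
  [0,3,4,3],
  [0,6,0,6],
  [0,7,1,6],
  [0,6,7,2],
  [0,7,4,4],
  [0,5,1,2,1],
  [0,8,7,6],
  [0,5,2,7,2],
  [0,7,6,0],
  [0,1,1,2,4],
  [0,2,4,6],
  [0,5,1,7,0],
  [0,3,8,2],
  [0,5,6,7,0],
  [0,6,8,6,0],
  [0,5,7,2],
  [0,7,5,2],
  [0,3,6,8],
  [0,3,0,8],
  [0,5,0,6],
  [0,1,4,8,3],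
  [0,6,6,8],
  [0,5,1,4,0],
  [0,7,5,5,0],
  [0,2,8,0,0],
  [0,0,4,2,1],
  [0,5,8,4,1],
  [0,7,3,6],
  [0,3,8,4,0],
  [0,1,8,4,5],
  [0,6,6,5,0],
  [0,4,8,6,1],
  [0,6,2],
  [0,3,4,8,0],
  [0,8,6,8,1],
  [0,8,0,0],
  [0,6,2,1],
  [0,4,6,8,4],
  [0,6,7,5,3],
  [0,3,6,6],
  [0,5,1,7],
  [0,2,8,1],
  [0,7,3,8,1],
  [0,5,7,5],
  [0,6,2,6,1],
  [0,5,5,7,2],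
  [0,1,2,3,2]]

/-- Words. -/
def wordsD1 : List (List Nat) := [
  [0,8,7,4,0],
  [0,2,3,2],
  [0,6,5,6],
  [0,0,4,3,0],
  [0,3,2,1],
  [0,2,3,3],
  [0,1,4,3,0],
  [0,1,8,0,3],
  [0,0,4,4,3],
  [0,2,2,2,3],
  [0,7,3,6,1],
  [0,7,7,2],
  [0,2,6,8,4],
  [0,4,8,3,0],
  [0,4,4,4,0],
  [0,2,6,4,0],
  [0,3,7,4],
  [0,1,6,1],
  [0,6,3,2,2],
  [0,8,8,8,0],
  [0,4,5,0],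
  [0,8,7,8],
  [0,5,1,5],
  [0,6,2,3,0],
  [0,5],
  [0,7,1,7],
  [0,8,6,7,0],
  [0,8,6,8,4],
  [0,1,4,1,1],
  [0,8,4,7],
  [0,0,7,5],
  [0,2,8],
  [0,6,1,2],
  [0,0,6,0,0],
  [0,5,3],
  [0,6,6,3,2],
  [0,1,8,8],
  [0,5,2,8],
  [0,2,6],
  [0,4,1,4],
  [0,5,5,4,0],
  [0,5,3,0,0],
  [0,0,3,8,6],
  [0,7,1,0],
  [0,5,4],
  [0,0,1,0,0],
  [0,4,3,3],
  [0,8,8,0],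
  [0,8,3,8],
  [0,2,7,4,3],
  [0,3,0,6,0],
  [0,0,3,4,3],
  [0,2,4,4,5],
  [0,4],
  [0,1,1,0,0],
  [0,5,1],
  [0,2,4,0],
  [0,8,0,1],
  [0,7,2,4,1],
  [0,6,0,0,1],
  [0,5,5,3,7],
  [0,4,7,2,6],
  [0,4,8,4,0],
  [0,5,1,1,1],
  [0,0,4,1,0],
  [0,0,6,2,6],
  [0,6,0,8,0],
  [0,5,0,5],
  [0,0,7,7,1],
  [0,4,5],
  [0,4,6,5],
  [0,8,4,4,0],
  [0,4,0,3],
  [0,7,1,6,0],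
  [0,8,1,1],
  [0,1,1,6],
  [0,4,1,0,0],
  [0,3,4,2],
  [0,5,4,2],
  [0,3,4,5,2],
  [0,0,0,0,1],
  [0,4,7,0],
  [0,5,2,5,1],
  [0,7,8],
  [0,8,5,4],
  [0,8,1,4],
  [0,7,5,1],
  [0,2,4,0,0],
  [0,4,6,7],
  [0,1,7,5],
  [0,3,0,0,1],
  [0,6,3,7],
  [0,0,6,7,2],
  [0,8,4,7,0],
  [0,8,5,1],
  [0,2,3,6],
  [0,7,0,1],
  [0,0,5,2],
  [0,4,7,3,0],
  [0,4,0,4,3]]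

/-- Words. -/
def wordsD2 : List (List Nat) := [
  [0,4,8,3],
  [0,4,2,2,1],
  [0,8,8,1,1],
  [0,1,7,7,2],
  [0,5,4,8],
  [0,0,0,7,6],
  [0,3,2,7,0],
  [0,3,7,3],
  [0,0,6,0],
  [0,2,4,8,2],
  [0,2,3,6,0],
  [0,1,1,1,2],
  [0,4,0,6,0],
  [0,4,1,5,1],
  [0,6,8,6,1],
  [0,4,0,3,0],
  [0,0,7,2],
  [0,0,6,0,1],
  [0,2,2,7],
  [0,4,5,6],
  [0,5,3,6],
  [0,7,0,3],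
  [0,6,2,3],
  [0,1,1,2,1],
  [0,6,8,5,0],
  [0,8,6,2,1],
  [0,0,4,0],
  [0,8,8,0,0],
  [0,6,5,5],
  [0,8,3],
  [0,5,3,0],
  [0,5,4,7,4],
  [0,5,2,6,0],
  [0,2,4,6,2],
  [0,8,4,3],
  [0,5,7,6],
  [0,7,0,3,0],
  [0,3,2,1,2],
  [0,8,1,1,0],
  [0,1,7,7,3],
  [0,4,8,1],
  [0,8,4,5],
  [0,0,5,2,1],
  [0,1,7,4,0],
  [0,1,6,0,3],
  [0,1,0,3,0],
  [0,2,6,4],
  [0,6,2,3,6],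
  [0,3,4,8,3],
  [0,8,1,0],
  [0,8,5,1,0],
  [0,3,8,5,1],
  [0,4,3,8,0],
  [0,2,4,1],
  [0,4,2,2,2],
  [0,7,0],
  [0,3,0,0],
  [0,3,3,0,3],
  [0,8,4],
  [0,5,4,0],
  [0,4,5,6,1],
  [0,6,7,4,0],
  [0,8,5,1,1],
  [0,0,1,2,1],
  [0,0,7,6,0],
  [0,4,6],
  [0,2,1,5,2],
  [0,5,4,3],
  [0,2,5,7],
  [0,5,2,5],
  [0,1,2,2],
  [0,3,4,2,7],
  [0,7,6,1,0],
  [0,2,1,5],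
  [0,0,6,1,1],
  [0,7,8,5,0],
  [0,0,6,6],
  [0,2,6,1],
  [0,7,3,4,1],
  [0,0,5,0,6],
  [0,7,7,5,2],
  [0,2,5,6,0],
  [0,1,7],
  [0,2,4,6,1],
  [0,6,8,8,0],
  [0,5,6,1],
  [0,1,2,2,1],
  [0,7,6,6,0],
  [0,2,8,0],
  [0,7,8,7,0],
  [0,1,5,0],
  [0,4,3,2],
  [0,1,6,0],
  [0,0,8,3,4],
  [0,0,0,0,0],
  [0,1,4,7],
  [0,0,4,6,0],
  [0,6,6,7,0],
  [0,0,5,6,6],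
  [0,8,4,1,1]]

/-- Words. -/
def wordsD3 : List (List Nat) := [
  [0,7,5,1,0],
  [0,4,3,0,0],
  [0,8,6,2],
  [0,5,3,8],
  [0,1,1,2],
  [0,3,6,4,1],
  [0,8,6,4,0],
  [0,5,7,1,2],
  [0,2,7,6,2],
  [0,7,6,7,2],
  [0,1,5,1,0],
  [0,7,4,5],
  [0,4,8],
  [0,7,3,4,0],
  [0,8,7,4],
  [0,1,6,7,0],
  [0,4,3,5,2],
  [0,0,5,7,2],
  [0,6,4,4,3],
  [0,6,5],
  [0,5,6,7],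
  [0,2,1,1,0],
  [0,8,7,8,0],
  [0,1,5,6,0],
  [0,5,8,5,1],
  [0,4,0,5,2],
  [0,7,5,2,2],
  [0,2,8,8],
  [0,8,1,2,3],
  [0,7,6,5],
  [0,8,5,0],
  [0,5,5,5,2],
  [0,3,8,8,0],
  [0,7,7,7,0],
  [0,1,0,1],
  [0,4,0,7],
  [0,0,4],
  [0,1,6,6,1],
  [0,6,5,2,5],
  [0,3,8,3],
  [0,8,7,2],
  [0,0,0,6,4],
  [0,8,6,6],
  [0,8,5,0,6],
  [0,7,2,5,1],
  [0,1,0,5],
  [0,1,7,4],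
  [0,4,4,5],
  [0,2,7,0],
  [0,8,7,5,3],
  [0,7,3],
  [0,5,5,0,6],
  [0,1,4,8],
  [0,4,2,4,0],
  [0,8,0,0,1],
  [0,7,4,3],
  [0,0,5,1],
  [0,2,1,5,0],
  [0,5,6,6],
  [0,8,8,3,4],
  [0,3,8,3,3],
  [0,2,5],
  [0,6,5,4,4],
  [0,4,4,3],
  [0,6,4,8,0],
  [0,0,6,4,0],
  [0,8,7,3],
  [0,5,3,2,2],
  [0,8,7,5,2],
  [0,2,5,1],
  [0,2,4,7,0],
  [0,3,2,6],
  [0,4,1,0],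
  [0,4,0,7,0],
  [0,6,2,6],
  [0,8,2,4],
  [0,0,4,3],
  [0,6,0,1],
  [0,5,2],
  [0,7,3,0],
  [0,3,6,1,6],
  [0,0,6,2],
  [0,3,8,5],
  [0,5,2,3,0],
  [0,7,2,5],
  [0,3,4,6,1],
  [0,7,2,8],
  [0,1,8,8,1],
  [0,2,6,5],
  [0,8,5,5],
  [0,2,8,4],
  [0,0,8,7],
  [0,5,4,7],
  [0,5,1,2],
  [0,0,0,4,1],
  [0,0,5,1,1],
  [0,6,8,0],
  [0,0,1,0],
  [0,8,4,1,0],
  [0,7,7,4]]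

/-- Words. -/
def wordsD4 : List (List Nat) := [
  [0,5,2,4],
  [0,8,6,0,0],
  [0,1,7,1,0],
  [0,4,5,3],
  [0,0,1,1,1],
  [0,6,2,2,3],
  [0,8,3,4,4],
  [0,7,8,0,0],
  [0,3,5,1],
  [0,7,3,3],
  [0,8,6,0],
  [0,7,6],
  [0,0,7,4],
  [0,0,3,5,0],
  [0,6,2,1,2],
  [0,6,5,8,2],
  [0,6,7,1,0],
  [0,7,0,8,3],
  [0,5,6,5,1],
  [0,7,5,0,1],
  [0,0,5,4],
  [0,0,0,1,0,0],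
  [0,6,6,1,1],
  [0,7,4,0,0],
  [0,5,2,3],
  [0,0,4,1,2],
  [0,2,6,6],
  [0,6,5,2,3],
  [0,5,7,3,3],
  [0,7,2,3,2],
  [0,2,3,4,1],
  [0,8,7,5,0],
  [0,5,0,1,1],
  [0,3,3,8,0],
  [0,2,7,5],
  [0,3,0,6],
  [0,0,1,1],
  [0,4,2,1],
  [0,5,7,1],
  [0,6,6,0,0],
  [0,3,3,5,3],
  [0,8,6,0,1],
  [0,0,3,6],
  [0,8,5,2],
  [0,7,5,0],
  [0,7,1,7,4],
  [0,7,3,8,3],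
  [0,5,8,8,0],
  [0,7,1,4],
  [0,5,8,5,0],
  [0,1,8,8,0],
  [0,3,3,4,1],
  [0,5,7,5,2],
  [0,2,8,8,0],
  [0,4,5,4,3],
  [0,6,6,1],
  [0,3,8,6,0],
  [0,5,3,7,3],
  [0,3,3,5,1],
  [0,0,0,1],
  [0,3,0,4],
  [0,3,2,5],
  [0,4,4,7,1],
  [0,8,5,5,5],
  [0,7,6,2],
  [0,8,4,0],
  [0,4,4,6],
  [0,5,0,6,0],
  [0,0,7,4,0],
  [0,6,3,0,4],
  [0,4,5,5,0],
  [0,0,8,0,0],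
  [0,4,3,0],
  [0,2,5,3],
  [0,2,3,2,1],
  [0,0,5,3,4],
  [0,5,3,7],
  [0,7,0,7],
  [0,2,6,2],
  [0,5,4,8,2],
  [0,3,7,0,5],
  [0,5,3,6,0],
  [0,5,0,5,4],
  [0,1,6,8,0],
  [0,1,0,1,0],
  [0,2,2,8],
  [0,2,4,5,0],
  [0,0,8,0],
  [0,4,4,5,0],
  [0,2,2,6],
  [0,6,7,1,2],
  [0,1,0,0],
  [0,7,4,1,0],
  [0,3,4],
  [0,2,8,5,4],
  [0,5,4,4],
  [0,1,7,0,0],
  [0,5,6,8],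
  [0,2,8,1,0],
  [0,6,1,1,1]]

/-- Words. -/
def wordsD5 : List (List Nat) := [
  [0,8,0,3],
  [0,3,2,3,2],
  [0,7,5,3],
  [0,1,2,1],
  [0,7,2,7,0],
  [0,1,8,4,1],
  [0,2,1,7],
  [0,7,7,3],
  [0,8,3,4],
  [0,4,4,8,2],
  [0,1,1,7,0],
  [0,7,7,1],
  [0,5,6],
  [0,6,7],
  [0,4,0,8,1],
  [0,6,0,8],
  [0,3,7,8,1],
  [0,3,0,0,5],
  [0,2,8,0,1],
  [0,6,7,5,0],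
  [0,3,3,7,0],
  [0,7,6,7,4],
  [0,1,5,6,2],
  [0,1,4,8,0],
  [0,6,6,0],
  [0,4,0],
  [0,3,6,8,3],
  [0,7,4,4,3],
  [0,5,7,3],
  [0,0,4,7],
  [0,4,6,0],
  [0,8,7,7],
  [0,5,0,8,0],
  [0,0,6,8,1],
  [0,7,2],
  [0,3,6,1],
  [0,0,0,0],
  [0,1,8,2,1],
  [0,5,5,5],
  [0,6,0,8,2],
  [0,0,1,4],
  [0,0,3],
  [0,8,4,6,0],
  [0,6,3,8],
  [0,8,8,5,2],
  [0,7,7],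
  [0,1,0,8],
  [0,0,4,1,0,0],
  [0,7,8,2,1],
  [0,2,2,8,1],
  [0,5,5,7,0],
  [0,6,1,1],
  [0,3,8,6],
  [0,6,4,4,0],
  [0,7,2,6],
  [0,3,0,8,0],
  [0,4,6,6,0],
  [0,0,3,8],
  [0,4,8,8,2],
  [0,4,6,1,1,0],
  [0,6,5,4],
  [0,3,7],
  [0,1,4,1,5],
  [0,6,3,0],
  [0,7,3,2],
  [0,6,4,1,0],
  [0,6,2,2],
  [0,5,5],
  [0,7,1,4,1],
  [0,5,2,4,0],
  [0,4,6,3,0],
  [0,3,2,2],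
  [0,0,8,8,0],
  [0,1,8,2],
  [0,8,6,7],
  [0,8,7,7,3],
  [0,2,7,3,0],
  [0,1,2,4],
  [0,4,3],
  [0,2,7,6],
  [0,7,4],
  [0,6,3,2],
  [0,8,7,2,3],
  [0,1,4],
  [0,3,6,7],
  [0,0,7,7,0],
  [0,4,3,8,4],
  [0,0,3,8,0],
  [0,2,3,8,3],
  [0,5,5,8,0],
  [0,7,0,5],
  [0,0,4,1],
  [0,5,8,5],
  [0,3,6,5],
  [0,4,1,1],
  [0,8,0,3,0],
  [0,5,8,7,0],
  [0,7,4,0],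
  [0,4,5,7,0],
  [0,5,7,7,0]]

/-- Words. -/
def wordsD6 : List (List Nat) := [
  [0,1,5,4,1],
  [0,5,2,6,2],
  [0,7,7,2,3],
  [0,4,4,3,4],
  [0,2,1,0,0],
  [0,6,2,8,1],
  [0,6,6,7,4],
  [0,3],
  [0,4,8,6],
  [0,4,7,3,2],
  [0,2,5,6],
  [0,6,5,0,0],
  [0,7,1,5],
  [0,1,1,8],
  [0,3,8],
  [0,3,2,4,2],
  [0,5,1,6,2],
  [0,4,7,7,4],
  [0,8,6,8],
  [0,3,5,0],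
  [0,7,6,3,0],
  [0,6,1,5],
  [0,7,7,6],
  [0,8,2],
  [0,0,1,7,2],
  [0,6,8],
  [0,8,0,7],
  [0,5,8,3],
  [0,0,7,5,1],
  [0,5,1,6,0],
  [0,5,7,5,1],
  [0,6,2,6,2],
  [0,2,4,4,1],
  [0,6,7,5,1],
  [0,8,0,6,0],
  [0,1,4,6],
  [0,0,3,4,0],
  [0,5,6,2],
  [0,4,8,0],
  [0,8,2,1],
  [0,3,4,6,0],
  [0,4,6,8,0],
  [0,0,6,8],
  [0,7,6,8,1],
  [0,0,4,4],
  [0,4,0,1,0],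
  [0,1,8,0,0],
  [0,3,6,3,0],
  [0,0,1,2,5],
  [0,4,0,0],
  [0,2,7,0,0],
  [0,6,7,7,0],
  [0,1,7,2,5],
  [0,8,5],
  [0,6,2,1,1],
  [0,4,3,6],
  [0,7],
  [0,0,6,1,5],
  [0,6,1,6],
  [0,6,8,3],
  [0,0,5,7],
  [0,5,7,6,2],
  [0,4,8,7],
  [0,5,4,7,3],
  [0,7,6,1,1],
  [0,5,1,2,8],
  [0,1,6,3,0],
  [0,7,0,6],
  [0,3,2],
  [0,8,1,4,0],
  [0,4,4,1,2],
  [0,7,4,3,2],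
  [0,0,3,2],
  [0,1,4,0],
  [0,7,3,0,0],
  [0,4,6,3,6],
  [0,0,7],
  [0,8,0,7,2],
  [0,4,0,4,1],
  [0,0,0,4,0,0],
  [0,1,4,6,1],
  [0,8,2,4,3],
  [0,5,6,6,0],
  [0,2,8,8,4],
  [0,5,0,1],
  [0,0,8,3],
  [0,2,5,2,7],
  [0,1,4,6,2],
  [0,7,5,7,2],
  [0,7,1,5,3],
  [0,7,7,1,2],
  [0,3,3],
  [0,2,5,1,1],
  [0,1,8],
  [0,4,5,2,3],
  [0,8,0,6,6],
  [0,5,5,0],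
  [0,0,5,7,6],
  [0,8,2,3,0],
  [0,0,0,6]]

/-- Words. -/
def wordsD7 : List (List Nat) := [
  [0,2],
  [0,6,6,4,1,0],
  [0,6,5,0],
  [0,4,0,1,1],
  [0,8,1,2],
  [0,5,8,7,2],
  [0,1,5,2,2],
  [0,8,4,4,4],
  [0,2,2,3,0],
  [0,3,5,2,2],
  [0,0,4,6,7],
  [0,4,7,4],
  [0,1,8,8,2],
  [0,8,2,3],
  [0,3,0],
  [0,5,0,1,0],
  [0,2,2,2,1],
  [0,0,1,7,5],
  [0,4,6,2],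
  [0,4,7,3,3],
  [0,0,3,2,1],
  [0,3,4,7],
  [0,1,5,7],
  [0,7,7,5],
  [0,1,6],
  [0,0,8,2],
  [0,2,1,1,1],
  [0,8,7,0,0],
  [0,1,8,6],
  [0,4,6,8,1],
  [0,4,4],
  [0,5,2,8,2],
  [0,7,0,1,2],
  [0,1,1,1,0],
  [0,5,5,0,0],
  [0,7,6,7,0],
  [0,2,2,6,0],
  [0,6,1,1,6],
  [0,2,5,0],
  [0,4,5,4,1],
  [0,0,4,1,5],
  [0,0,1,4,0],
  [0,8,7,8,3],
  [0,4,0,4],
  [0,7,8,3,0],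
  [0,7,6,4,0],
  [0,4,4,0],
  [0,6,4,0],
  [0,8,1,7],
  [0,6,4,1],
  [0,4,5,5,3],
  [0,5,0,4,0],
  [0,3,6,7,2],
  [0,3,3,8,2],
  [0,4,8,8],
  [0,6,6,4],
  [0,1,7,0],
  [0,0,0],
  [0,3,0,3],
  [0,1,8,4],
  [0,0,8,5,1],
  [0,3,0,6,2],
  [0,6,3,6],
  [0,1,8,8,0,0],
  [0,4,2,7,0],
  [0,8,2,1,2],
  [0,5,7,1,0],
  [0,4,5,5],
  [0,5,5,4],
  [0,1,0,4,0],
  [0,6,8,1],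
  [0,7,5,4,1],
  [0,7,8,1,1],
  [0,0,1,6,1],
  [0,1,5,6],
  [0,3,8,4],
  [0,3,7,0],
  [0,3,3,0,0],
  [0,0,3,3],
  [0,0,1,8],
  [0,5,5,4,1],
  [0,6,3,2,1],
  [0,7,8,1],
  [0,6,1,0,6],
  [0,0,0,5],
  [0,8,8,2,1],
  [0,7,1,5,1],
  [0,6,6,0,1],
  [0,1,4,1,0],
  [0,3,8,1],
  [0,0,4,8,1],
  [0,3,0,7],
  [0,5,6,4,1],
  [0,2,2,5],
  [0,7,7,7],
  [0,8,7],
  [0,3,7,2,2],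
  [0,5,1,1],
  [0,4,7,2],
  [0,2,6,8,0]]

/-- Words. -/
def wordsD8 : List (List Nat) := [
  [0,0,5,4,0],
  [0,5,1,0],
  [0,3,5,4,2],
  [0,2,5,2,3],
  [0,7,3,4,3],
  [0,4,1,2],
  [0,0,7,0],
  [0,6,8,4],
  [0,5,3,4],
  [0,1,6,5,1],
  [0,5,1,0,0],
  [0,6,7,0],
  [0,0,3,0,0],
  [0,1,6,8,3],
  [0,5,1,8],
  [0,3,6,8,4],
  [0,2,5,2,4],
  [0,5,3,3],
  [0,8,4,6],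
  [0,5,4,1],
  [0,7,2,6,2],
  [0,1,1],
  [0,5,6,4],
  [0,6,5,1],
  [0,4,8,1,0],
  [0,3,3,3],
  [0,7,4,4,2],
  [0,3,0,5,3],
  [0,4,4,1,0],
  [0,7,6,4,2],
  [0,7,3,6,0],
  [0,6,6,5,4],
  [0,7,4,8,2],
  [0,4,5,3,4,0],
  [0,3,0,3,0],
  [0,4,6,4],
  [0,3,2,2,1],
  [0,5,8,2,8],
  [0,6,1,4],
  [0,7,4,6],
  [0,5,4,3,7],
  [0,0,0,7],
  [0,6,4,7,0],
  [0,1,8,8,3],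
  [0,1,0],
  [0,6,0,4,1],
  [0,8,6,1],
  [0,8,5,2,2],
  [0,8,4,8],
  [0,0,4,2],
  [0,1,6,6,2],
  [0,7,4,3,0],
  [0,8,3,0],
  [0,6,0,8,8],
  [0,0,1],
  [0,2,7,2],
  [0,3,6],
  [0,4,7,3],
  [0,4,1],
  [0,5,2,4,1],
  [0,0,8,8],
  [0,6,3,3],
  [0,6,0,5,3],
  [0,6,1,8],
  [0,0,5,2,2],
  [0,2,2,5,0],
  [0,1,7,6,0],
  [0,5,4,1,4],
  [0,5,8,0,0],
  [0,6,2,7],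
  [0,8,5,3],
  [0,4,5,6,0],
  [0,1,1,1,5],
  [0,8,3,6,6],
  [0,3,4,0],
  [0,6,8,8],
  [0,8,3,2],
  [0,0,5,5,0],
  [0,1,2,2,4],
  [0,4,2,5],
  [0,4,1,5],
  [0,8,5,1,5],
  [0,2,3,0],
  [0,7,1,2,3],
  [0,3,2,4],
  [0,1,4,3,2],
  [0,1,6,5],
  [0,6,2,5,1],
  [0,1,5],
  [0,7,8,8,0],
  [0,4,7,1],
  [0,4,2,7],
  [0,4,4,0,0],
  [0,8,6,1,0],
  [0,5,5,1],
  [0,4,8,2],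
  [0,6,1,0],
  [0,8,0,1,5],
  [0,8,3,0,0],
  [0,8,8,4]]

/-- Words. -/
def wordsD9 : List (List Nat) := [
  [0,7,7,1,0],
  [0,8,7,0],
  [0,0,5],
  [0,7,3,5,1],
  [0,1,4,6,5],
  [0,0,6,5],
  [0,4,2],
  [0,1,6,2],
  [0,3,7,2],
  [0,2,1,2],
  [0,1,1,5,0],
  [0,1,8,3],
  [0,5,5,3],
  [0,8,2,2,2],
  [0,4,8,5,0],
  [0,8,8,1],
  [0,0,1,7],
  [0,6,6,7,2],
  [0,8,4,1],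
  [0,2,1],
  [0,4,7,7,0],
  [0,4,1,6],
  [0,6,1,1,0],
  [0,1,5,3],
  [0,7,0,1,0],
  [0,6,7,0,4],
  [0,3,3,7],
  [0,6,3,3,0],
  [0,8,1,6,2],
  [0,3,5,2,1],
  [0,3,6,0],
  [0,6,4],
  [0,8,7,2,1],
  [0,7,6,4,1],
  [0,8,8,7,4],
  [0,6,2,4,1],
  [0,8,1,6],
  [0,5,5,2],
  [0,3,8,1,0],
  [0,8,8,5],
  [0,3,0,7,5],
  [0,2,5,8,3],
  [0,1,0,0,0],
  [0,1,7,2],
  [0,2,2],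
  [0,5,7,8,1],
  [0,1,6,4,8,0],
  [0,0,8,1],
  [0,7,7,0,1],
  [0,6,1],
  [0,1,0,8,0],
  [0,8,4,5,0],
  [0,8,2,8],
  [0,6,3,7,0],
  [0,5,4,0,0],
  [0,8,6,1,2],
  [0,2,4,3],
  [0,0,4,8],
  [0,3,8,0],
  [0,5,2,2,2],
  [0,5,2,7],
  [0,0,4,6],
  [0,5,7],
  [0,4,6,1],
  [0,1,7,3,0],
  [0,7,8,3],
  [0,8,3,3],
  [0,0,1,5],
  [0,7,7,6,0],
  [0,4,4,8,3],
  [0,1,2,5],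
  [0,8,4,0,0],
  [0,8,7,7,6],
  [0,2,8,5],
  [0,8,8,2],
  [0,7,6,3,3],
  [0,2,1,6],
  [0,8,1,8],
  [0,1,5,2],
  [0,5,8,2],
  [0,7,5,8,2],
  [0,5,7,3,0],
  [0,2,6,8],
  [0,4,2,5,1],
  [0,5,8,6],
  [0,8,1,6,0],
  [0,5,0,4],
  [0,8,7,5,1],
  [0,7,2,1,1],
  [0,6,2,1,1,0],
  [0,1,8,1,2],
  [0,5,7,2,2],
  [0,1,6,5,0],
  [0,5,7,3,2],
  [0,0,3,0],
  [0,2,2,1],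
  [0,3,2,4,1],
  [0,6,1,0,0],
  [0,4,3,4,4],
  [0,3,4,6]]

/-- Words. -/
def wordsD10 : List (List Nat) := [
  [0,7,8,1,0],
  [0,2,6,1,0],
  [0,5,2,6,6],
  [0,0,7,0,0],
  [0,7,0,8],
  [0,2,2,2],
  [0,5,6,1,0],
  [0,7,7,5,0],
  [0,0,7,4,5],
  [0,1,8,7],
  [0,8,8,3,2],
  [0,6,0,3],
  [0,7,1,2],
  [0,1,2],
  [0,8,8,3],
  [0,8,1,5,0],
  [0,8,5,3,0],
  [0,5,0,5,1],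
  [0,0,7,0,1],
  [0,6,1,2,4],
  [0,7,7,0,3],
  [0,2,4,7,2],
  [0,7,2,8,0],
  [0,1],
  [0,5,8,3,0],
  [0,5,6,4,0],
  [0,2,6,8,1],
  [0,0],
  [0,3,0,7,0],
  [0,2,8,7],
  [0,7,2,3],
  [0,5,4,3,0],
  [0,4,2,2,6],
  [0,4,2,6,2],
  [0,6,7,6],
  [0,3,5,1,0],
  [0,7,0,0,1],
  [0,5,8,0],
  [0,8,1,5],
  [0,8,5,6,0],
  [0,2,5,8,6],
  [0,5,1,4],
  [0,4,4,4],
  [0,4,6,8],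
  [0,1,7,8,1],
  [0,7,2,2],
  [0,0,6,1,2],
  [0,3,4,6,2],
  [0,8,0,5],
  [0,4,1,6,1],
  [0,4,8,0,3],
  [0,0,6,5,0],
  [0,5,0,8],
  [0,0,8,1,2],
  [0,6,5,2,1],
  [0,5,7,5,0],
  [0],
  [0,2,2,3],
  [0,0,4,8,0],
  [0,4,6,6],
  [0,8,2,1,1],
  [0,5,4,4,0],
  [0,6,4,2,1],
  [0,0,4,4,4],
  [0,2,4,1,2],
  [0,3,8,8],
  [0,4,2,8,1],
  [0,8,1],
  [0,8,7,7,0],
  [0,7,0,8,0],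
  [0,3,2,1,5],
  [0,1,2,6,0],
  [0,2,2,5,2],
  [0,6,7,7,2],
  [0,8,0,5,3],
  [0,3,3,0],
  [0,5,8,8],
  [0,1,5,5,6],
  [0,2,3],
  [0,6,8,2],
  [0,4,1,7],
  [0,1,0,6],
  [0,5,6,0],
  [0,6,4,2],
  [0,2,5,5,4],
  [0,3,5,7,4],
  [0,0,4,7,1],
  [0,4,3,4,1],
  [0,4,8,5],
  [0,3,5,2],
  [0,7,1,1],
  [0,6,3,7,4],
  [0,3,3,4],
  [0,0,4,8,3],
  [0,1,2,8],
  [0,3,5,4,0],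
  [0,6,2,3,3],
  [0,5,0,4,1],
  [0,4,7,5],
  [0,7,2,5,3]]

/-- Words. -/
def wordsD11 : List (List Nat) := [
  [0,3,8,0,0],
  [0,0,1,2],
  [0,8,1,7,2],
  [0,0,7,1,2],
  [0,1,4,6,6],
  [0,8],
  [0,1,5,1,1],
  [0,4,4,1],
  [0,2,5,2],
  [0,8,8,1,0],
  [0,0,1,6],
  [0,0,6,4],
  [0,8,0],
  [0,8,2,2,1],
  [0,1,1,1],
  [0,2,3,4],
  [0,6,7,6,0],
  [0,2,7],
  [0,1,6,0,0],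
  [0,4,3,7],
  [0,2,6,4,1],
  [0,1,6,2,1],
  [0,7,0,0],
  [0,7,7,0],
  [0,0,4,0,0],
  [0,7,5,6],
  [0,2,8,2,1],
  [0,4,0,1,2],
  [0,3,2,4,0],
  [0,7,2,1],
  [0,0,1,5,0],
  [0,0,5,3],
  [0,4,2,6],
  [0,5,5,6,2],
  [0,5,2,2],
  [0,5,6,8,0],
  [0,8,6],
  [0,5,0],
  [0,5,7,4],
  [0,4,7,8,1],
  [0,4,8,0,1],
  [0,1,1,6,0],
  [0,7,7,0,0],
  [0,0,3,5,2],
  [0,8,8,5,0],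
  [0,6,6,2],
  [0,4,7,1,0],
  [0,6],
  [0,6,4,1,1],
  [0,3,4,2,1],
  [0,7,8,0],
  [0,3,4,7,0],
  [0,2,6,0],
  [0,1,2,3],
  [0,7,2,7],
  [0,4,2,4],
  [0,8,0,8],
  [0,2,6,7,4],
  [0,0,8],
  [0,1,7,8],
  [0,2,5,7,0],
  [0,6,6,4,0],
  [0,5,8,1,0],
  [0,3,5,3],
  [0,6,0,0,5],
  [0,4,2,1,7],
  [0,1,5,7,1],
  [0,6,0,4,0],
  [0,4,4,2,7],
  [0,1,4,4],
  [0,7,5,5],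
  [0,5,0,6,2],
  [0,2,4,7],
  [0,3,3,3,0],
  [0,5,2,7,0],
  [0,4,7,5,1],
  [0,5,5,6],
  [0,0,8,6],
  [0,6,0],
  [0,5,2,1],
  [0,2,6,0,0],
  [0,3,8,3,0],
  [0,6,8,1,0],
  [0,0,7,8,0],
  [0,4,4,3,0],
  [0,2,1,6,1],
  [0,7,7,3,0],
  [0,3,4,4],
  [0,3,7,8],
  [0,6,8,4,3],
  [0,7,5,8,3],
  [0,5,0,0],
  [0,2,8,4,0],
  [0,7,3,8,2],
  [0,1,1,0],
  [0,6,7,4],
  [0,7,8,7],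
  [0,6,6,7],
  [0,0,3,5,3],
  [0,7,0,0,0]]

/-- Words. -/
def wordsD12 : List (List Nat) := [
  [0,7,1],
  [0,2,4,4,0],
  [0,3,4,7,3],
  [0,2,4,2],
  [0,5,7,0],
  [0,4,1,8],
  [0,4,5,4,0],
  [0,1,0,3],
  [0,4,7],
  [0,4,7,6,2],
  [0,4,0,8,0],
  [0,8,3,5,2],
  [0,4,3,4],
  [0,2,8,2],
  [0,8,2,5,0],
  [0,5,6,7,2],
  [0,4,5,2],
  [0,2,1,1],
  [0,1,5,1],
  [0,2,5,5,1],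
  [0,3,8,5,4],
  [0,3,3,6],
  [0,6,2,7,0],
  [0,0,6],
  [0,2,7,7,7],
  [0,8,8],
  [0,5,3,4,0],
  [0,2,5,1,0],
  [0,4,8,4,5],
  [0,7,8,5,2],
  [0,8,7,1,1],
  [0,7,4,0,6],
  [1,4,5,6,2],
  [1,2,4,0,3],
  [1,4,5,1,4],
  [1,6,6,0,3],
  [1,6,0,0,0],
  [1,2,8,6,2],
  [1,8,2,7,5],
  [1,7,5],
  [1,8,7,3,3],
  [1,8,3,8,3,0],
  [1,8,5,0,7],
  [1,4,0,5,0],
  [1,5,0,0,0,0],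
  [1,2,8,1,4],
  [1,1,4,3,7],
  [1,1,0,5,2],
  [1,4,3,5,6],
  [1,0,5,1,2],
  [1,3,7,5,4],
  [1,0,0,8,0,0],
  [1,6,2,6,1],
  [1,2,3,5,3],
  [1,7,6,5,2],
  [1,1,6,4],
  [1,2,1,0,4],
  [1,0,4,4,3],
  [1,8,5,4,2],
  [1,5,3,8,1],
  [1,2,6,1,7,0],
  [1,5,7,0,7],
  [1,6,8,4,1],
  [1,4,5,3,4],
  [1,1,4,1],
  [1,3,6,3,3,0],
  [1,6,1,4,4],
  [1,1,0,7,0],
  [1,5,3,6,2],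
  [1,6,7,8,3],
  [1,5,3,8,2],
  [1,0,8,6,7],
  [1,3,6,3,5],
  [1,2,7,2,6,0],
  [1,4,7,1,1],
  [1,1,5,1,7],
  [1,6,8,0,1],
  [1,5,3,0,0],
  [1,2,2,8,3,0],
  [1,7,5,8,1],
  [1,4,4,2,1],
  [1,8,8,0,6],
  [1,0,3,4,4,0],
  [1,5,2,5,1],
  [1,1,7,7,3],
  [1,3,7,8,7],
  [1,1,5,5,1],
  [1,5,6,1],
  [1,4,0,5],
  [1,6,0,0,6],
  [1,8,1,1,0],
  [1,8,8,6,0],
  [1,4,5,0,3],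
  [1,5,8,5,1],
  [1,2,6,4,3],
  [1,0,6,3,5],
  [1,3,4,8,3],
  [1,1,2,8,4],
  [1,7,4,7,5],
  [1,7,0,6,1]]

/-- Words. -/
def wordsD13 : List (List Nat) := [
  [1,2,3,6],
  [1,2,3,7,4],
  [1,7,4,4,5,0],
  [1,8,0,1,0],
  [1,4,8,3,0,3],
  [1,8,5,7,4],
  [1,7,6,5],
  [1,6,7,7,1],
  [1,1,8,5,1],
  [1,7,7,2,1],
  [1,7,5,1],
  [1,2,1,6,5],
  [1,4,8,6,7,0],
  [1,0,7,3],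
  [1,1,6,1,0],
  [1,7,0,8,5,1],
  [1,0,5,0,7,2],
  [1,4,5,8],
  [1,8,3,5,0],
  [1,1,1,5,5,0],
  [1,7,5,2],
  [1,7,8,4,2,1],
  [1,3,3,7,5],
  [1,4,1,8,0,0],
  [1,8,8,7,1],
  [1,8,6,2,2],
  [1,3,0,6,5],
  [1,8,7,1,5],
  [1,2,2,2,3],
  [1,6,0,1,1],
  [1,0,4,2,8],
  [1,6,5,0,5],
  [1,1,2,2,1],
  [1,0,4,7,4,1],
  [1,6,1,2],
  [1,5,1,7,0],
  [1,1,2,2,2],
  [1,2,2,2,6],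
  [1,3,8,2,1],
  [1,4,4,4,4],
  [1,0,7,5],
  [1,8,2,7,3],
  [1,6,3,4,1,1],
  [1,5,3,0,3],
  [1,2,2,4,4],
  [1,5,1,8,4,0],
  [1,1,6,4,1],
  [1,1,0,1],
  [1,2,3,3],
  [1,5,8,8,3],
  [1,4,7,0,0],
  [1,8,0,4],
  [1,8,8,7],
  [1,1,7,0,8],
  [1,6,3,4,1],
  [1,3,4,8,0],
  [1,5,3,3,4],
  [1,8,4,8,8,0],
  [1,6,8,7,7,0],
  [1,0,6,1,1],
  [1,4,1,6,2],
  [1,7,1,0,0,0],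
  [1,4,8,6,1,1],
  [1,8,0,1,0,3],
  [1,4,0,3],
  [1,2,7,4,4],
  [1,1,0,1,2],
  [1,3,3,6,7],
  [1,5,0,1,2],
  [1,8,1,1,0,0],
  [1,1,2,2],
  [1,5,4,1,5],
  [1,1,8,7,2],
  [1,1,8,5],
  [1,2,6,6,1],
  [1,8,3,0,5],
  [1,2,6,4,0],
  [1,8,3,0,3],
  [1,2,4,0],
  [1,2,8,3,4],
  [1,1,4,1,1],
  [1,0,7,6,0],
  [1,2,8,0,3],
  [1,0,6,7,2],
  [1,2,5,2,2],
  [1,6,6,7,7],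
  [1,4,8,2,5],
  [1,3,2,1],
  [1,0,7,6],
  [1,8,1,0,7,0],
  [1,2,8,0,0],
  [1,7,1,1,1],
  [1,2,2,3,2],
  [1,1,2,2,1,0],
  [1,4,8,3,0],
  [1,6,7,5,5],
  [1,1,1,1,2],
  [1,4,5,8,2],
  [1,3,6,4,6],
  [1,5,8,4,3,0]]

/-- Words. -/
def wordsD14 : List (List Nat) := [
  [1,4,0,6,0],
  [1,6,1,5,8,0],
  [1,5,4,3],
  [1,0,3,8,5],
  [1,1,7,7],
  [1,7,8,5,0],
  [1,2,4,6],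
  [1,6,3,8,5],
  [1,7,1,7,1],
  [1,6,6,5,6],
  [1,8,5,7,1,0],
  [1,6,8,7,7],
  [1,8,0,5,4,0],
  [1,4,7,0,8],
  [1,5,2,5],
  [1,3,2,7,0],
  [1,5,6,1,1,0],
  [1,1,7,4,5],
  [1,4,5,0,0],
  [1,8,8,1,1],
  [1,0,3,6,8],
  [1,3,0,1,7],
  [1,5,3,6,1],
  [1,4,7,6,0],
  [1,2,3,5],
  [1,7,6,0,4],
  [1,8,4,7],
  [1,0,3,8,3],
  [1,0,6,6,8],
  [1,4,8,3,6],
  [1,3,0,5],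
  [1,6,2,2,5],
  [1,7,0,4],
  [1,6,1,8,4],
  [1,7,2,8,2,1],
  [1,3,7,0,4],
  [1,4,3,7,1],
  [1,7,1,0,0],
  [1,2,4,8],
  [1,7,7,2,2],
  [1,0,1,0,5],
  [1,6,6,0,5],
  [1,4,7,7],
  [1,5,2,5,2],
  [1,8,6,2],
  [1,1,5,5],
  [1,3,2,3,7],
  [1,1,5,7,2],
  [1,8,1,4],
  [1,1,6,4,1,0],
  [1,8,8,7,2],
  [1,1,4,5,2],
  [1,4,6,3,4],
  [1,4,1,0,4],
  [1,2,8,6],
  [1,3,4,4,0,0],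
  [1,1,8,0,4,0],
  [1,6,3,6,4],
  [1,4,4,2],
  [1,2,2,5,1],
  [1,8,5,1,0],
  [1,5,4,0],
  [1,3,7,0,1,0],
  [1,7,0,1,7],
  [1,8,0,5,8,0],
  [1,1,4,2,4,1],
  [1,4,6,5,7],
  [1,5,4,6,3,0],
  [1,2,4,3,4],
  [1,4,0,6],
  [1,0,6,6,6],
  [1,4,6,3,3,0],
  [1,8,5,4,1],
  [1,7,8,4,2],
  [1,2,7,8,3],
  [1,2,2,4,4,0],
  [1,2,3,6,0],
  [1,5,8,2,3,0],
  [1,1,8,5,2],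
  [1,6,5,0,3],
  [1,4,6,7],
  [1,6,3,0,1],
  [1,4,3,5,3],
  [1,5,0,0,7],
  [1,3,8,2],
  [1,7,0,3,0],
  [1,2,4,6,1],
  [1,6,7,8,0],
  [1,6,6,5,0],
  [1,5,8,0,8,0],
  [1,7,1,7],
  [1,5,4,0,1],
  [1,5,4],
  [1,7,3,3,3],
  [1,4,8,4,0],
  [1,5,4,5,0,0],
  [1,3,3,7,5,0],
  [1,4,7,0,0,0],
  [1,4,6,7,0],
  [1,5,1,7]]

/-- Words. -/
def wordsD15 : List (List Nat) := [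
  [1,8,5,4],
  [1,2,7,3,2],
  [1,5,1,5,7],
  [1,8,3,4,2],
  [1,3,8,2,2],
  [1,8,4,7,0],
  [1,7,8,8,4],
  [1,4,6,8,4,0],
  [1,0,6,0,0],
  [1,8,2,7,6],
  [1,6,7,8],
  [1,1,6,1,6],
  [1,4,7,7,2],
  [1,4,8,6,1],
  [1,8,3,8,4,0],
  [1,2,6,3,0],
  [1,3,3,7,3],
  [1,4,3,8,0],
  [1,3,7,6,2],
  [1,2,8,8,1],
  [1,6,5,0,3,0],
  [1,8,8,0,0],
  [1,7,2,2,1],
  [1,1,7,2,4],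
  [1,5,1,0,8],
  [1,0,1,8,2,1],
  [1,6,2,4],
  [1,5,7,1,2],
  [1,2,3,3,3],
  [1,4,8,3,0,0],
  [1,4,5,6,1],
  [1,6,2,1,7],
  [1,8,7,4,0],
  [1,3,8,8,4],
  [1,6,5,6,7],
  [1,7,7,2],
  [1,4,5,0],
  [1,6,4,8,3],
  [1,8,8,3,5],
  [1,0,8,7,3],
  [1,2,4,8,2],
  [1,7,3,4,0],
  [1,8,0,1,6],
  [1,3,2,7,8],
  [1,4,5,8,1],
  [1,3,2,1,1],
  [1,5,1,7,3],
  [1,3,7,4,7],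
  [1,7,2,4,8],
  [1,6,3,2,2],
  [1,5,3,0],
  [1,8,5,1,0,0],
  [1,4,7,6,6],
  [1,7,5,1,0],
  [1,7,8,3,8],
  [1,7,6,5,1],
  [1,2,6,4],
  [1,6,5,4,2],
  [1,0,6,7],
  [1,8,0,4,2],
  [1,4,0,3,0],
  [1,5,3,8],
  [1,2,7,4,3,0],
  [1,2,1,5],
  [1,5,6,1,1],
  [1,3,4,8],
  [1,0,7,3,0],
  [1,0,6,6,0],
  [1,1,6,4,0],
  [1,3,6,5,3],
  [1,4,7,6,4],
  [1,0,8,6,0],
  [1,3,3,2],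
  [1,0,3,8,4],
  [1,3,5,1,1],
  [1,7,8,2,3,0],
  [1,6,6,6],
  [1,3,2,6],
  [1,5,2,6,1],
  [1,7,3,0],
  [1,8,0,6,2],
  [1,7,4,6,2],
  [1,5,0,7],
  [1,4,6,4,5,0],
  [1,0,0,1,8],
  [1,3,8,3,0],
  [1,4,4,5],
  [1,4,1,4,6,0],
  [1,8,0,1,4],
  [1,6,5,8,5],
  [1,5,5,3,8],
  [1,0,5,1,0],
  [1,5,2,4,0],
  [1,6,1,5,2],
  [1,3,7,5,0],
  [1,5,8,5,5],
  [1,0,5,4,1],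
  [1,0,0,5,4,0],
  [1,6,2,2,4],
  [1,5,7,8]]

/-- Words. -/
def wordsD16 : List (List Nat) := [
  [1,7,0,8,3],
  [1,7,1,8,0],
  [1,3,3,2,1],
  [1,7,3,8,7],
  [1,1,8,2],
  [1,1,2,1,1],
  [1,3,0,8,0],
  [1,1,7,6,2],
  [1,5,0,6,6],
  [1,7,1,4,0],
  [1,8,1,8,2],
  [1,7,3],
  [1,0,8,0,8],
  [1,5,4,7,5,0],
  [1,6,4,1,5],
  [1,7,6,0],
  [1,1,2,7,0],
  [1,4,4,3,0],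
  [1,3,4,1,7],
  [1,6,5,5,1],
  [1,5,3,2,2],
  [1,2,3,2,1],
  [1,6,2,7,8],
  [1,7,6,0,1],
  [1,6,3,6,5],
  [1,6,7,2],
  [1,6,1,7,0],
  [1,6,4,3,3],
  [1,0,0,4,1],
  [1,8,0,8,0,0],
  [1,7,2,5,6],
  [1,2,2,3,5],
  [1,5,4,8,3],
  [1,7,4,8,1,1],
  [1,1,2,1,2],
  [1,2,5,3,0,0],
  [1,7,5,2,6],
  [1,4,2,8],
  [1,1,6,1,5],
  [1,1,7,7,8,0],
  [1,7,5,3,2],
  [1,0,1,0,7],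
  [1,7,6,1,6],
  [1,8,3,6,8],
  [1,2,5,4,3],
  [1,8,0,5,4],
  [1,3,8,5],
  [1,5,4,4,3,0],
  [1,2,4,4,2],
  [1,1,0,7,2],
  [1,5,7,8,3],
  [1,6,0,6,1],
  [1,7,2,5,0],
  [1,1,1,7,5],
  [1,5,2,4],
  [1,3,2,5,3],
  [1,0,4,7,3],
  [1,3,2,5],
  [1,1,4,5,5],
  [1,0,7,8,0],
  [1,1,2,5,2],
  [1,5,3,4,1],
  [1,2,3,8,2],
  [1,8,6,3,5],
  [1,7,3,3,2],
  [1,1,0,5],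
  [1,0,6,2],
  [1,5,8,4,1],
  [1,3,4,3,0],
  [1,6,0,8,2],
  [1,5,3,5,5],
  [1,7,4,4,7],
  [1,7,1,6,4],
  [1,4,4,3],
  [1,3,4,6,7,0],
  [1,0,8,7,1],
  [1,1,0,6,5],
  [1,3,5,7,0],
  [1,3,4,4,0],
  [1,0,4,7],
  [1,5,2,4,3],
  [1,2,7,5,2],
  [1,7,0,5,1],
  [1,5,2,3,0],
  [1,1,4,7,1],
  [1,5,7,5,3],
  [1,5,6,0,3],
  [1,7,7,4,3],
  [1,3,8,3],
  [1,3,6,8],
  [1,8,5,1,2],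
  [1,5,0,4,4,0],
  [1,3,7,8,3,0],
  [1,1,1,1,0,1],
  [1,5,7,7,1],
  [1,7,3,2,6],
  [1,6,8,4,3,0],
  [1,4,7,4,7,0],
  [1,3,2,3,0],
  [1,6,6,8]]

/-- Words. -/
def wordsD17 : List (List Nat) := [
  [1,4,4,1,4,0],
  [1,8,7,7,4],
  [1,8,7,6],
  [1,6,6,6,1],
  [1,0,0,4],
  [1,3,5,1,2],
  [1,7,5,0],
  [1,6,4,3,5],
  [1,7,2,4,2],
  [1,8,7,5],
  [1,3,8,3,3],
  [1,6,0,0],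
  [1,4,4,7,4],
  [1,6,8,4,3],
  [1,3,8,5,3],
  [1,0,3,7,7],
  [1,0,5,1,6],
  [1,2,5,1,7],
  [1,1,6,4,6],
  [1,6,5,3,2],
  [1,5,1,2,8,1],
  [1,7,6,6,6,0],
  [1,7,5,6,6],
  [1,2,5,3,0],
  [1,7,5,6,3,0],
  [1,7,0,3,2],
  [1,7,3,6,6,0],
  [1,0,8,7],
  [1,4,0,0,3],
  [1,3,8,6],
  [1,4,4,5,3],
  [1,5,5,5,0],
  [1,6,0,6],
  [1,7,8,1,2],
  [1,1,0,1,7],
  [1,0,0,1,0],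
  [1,6,1,7,0,0],
  [1,3,4,6,1],
  [1,1,6,8,0],
  [1,1,4,5,3],
  [1,5,1,2,1],
  [1,8,8,7,6],
  [1,5,5,0,3,0],
  [1,6,0,1,4],
  [1,8,7,3],
  [1,6,3,5,1,0],
  [1,6,7],
  [1,5,8,6,4],
  [1,7,3,3],
  [1,6,5,8,3],
  [1,6,0,4,1,2],
  [1,2,4,0,5],
  [1,5,1,2,2],
  [1,7,7,3,6],
  [1,1,0,0,4],
  [1,0,1,1,0],
  [1,6,7,1,0],
  [1,5,3,0,1],
  [1,6,8,0,5,0],
  [1,3,5,1],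
  [1,5,5,4,2],
  [1,6,3,5,1],
  [1,7,7,1,7],
  [1,8,7,0,5,1],
  [1,0,1,4],
  [1,2,2,3,3],
  [1,0,8,7,2],
  [1,2,2,6,4,0],
  [1,8,1,0,5],
  [1,5,5,0,3],
  [1,6,7,8,1],
  [1,5,0,7,2],
  [1,5,8,6,1,0],
  [1,8,7,6,0],
  [1,2,8,0,4],
  [1,0,7,8,8],
  [1,4,5,0,4],
  [1,6,1,1,2],
  [1,3,7,5,8],
  [1,8,6,1,1],
  [1,0,3,0,5],
  [1,7,3,6,5],
  [1,2,8,5,1,0],
  [1,6,5,2,3,0],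
  [1,0,3,5,0],
  [1,0,7,1,5],
  [1,1,7,3,5,0],
  [1,7,6,2,8],
  [1,0,6,8,1,0],
  [1,0,8,1,1],
  [1,0,1,4,1],
  [1,0,6,2,2],
  [1,7,7,3,0],
  [1,6,1,7,8],
  [1,6,1,1,1],
  [1,5,6,8,4],
  [1,3,4,4],
  [1,5,3,6,4],
  [1,3,2,7,4],
  [1,4,6,4,3,0]]

/-- Words. -/
def wordsD18 : List (List Nat) := [
  [1,2,8,5,4],
  [1,3,7,0,3],
  [1,3,2,5,0],
  [1,1,6,3,5,0],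
  [1,1,8,2,1],
  [1,7,6,2,6],
  [1,2,3,4,8],
  [1,6,6,0],
  [1,1,4,8,1],
  [1,8,0,0,0],
  [1,2,6,7],
  [1,7,3,6],
  [1,6,4,4,1],
  [1,7,2,5,1],
  [1,2,3,8,3],
  [1,5,1,6],
  [1,5,2,6,2],
  [1,2,7,0,0],
  [1,8,1,4,4],
  [1,4,7,3,6,0],
  [1,0,0,4,0],
  [1,7,8,4,4,0],
  [1,0,8,5,0],
  [1,0,8,6],
  [1,3,8,1,8],
  [1,7,6,7,0],
  [1,7,7,0,0,0],
  [1,7,3,8],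
  [1,5,3,2,3,2],
  [1,7,3,6,1],
  [1,0,7,0,3],
  [1,2,3,5,6],
  [1,4,8,1,1],
  [1,2,8,4,0],
  [1,5,3],
  [1,1,6,6,1],
  [1,5,1,7,3,0],
  [1,3,2,3,4],
  [1,3,6,6],
  [1,8,0,1,1],
  [1,7,8,5,1],
  [1,5,8,7,0],
  [1,4,2,6,0,0],
  [1,5,0],
  [1,4,6,4,4],
  [1,2,2,4,5],
  [1,5,7,5,4],
  [1,0,0,8,6],
  [1,2,4,2,2],
  [1,2,5,8,1],
  [1,4,5,1,0,0],
  [1,4,6,8,1,0],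
  [1,4,8,0,0],
  [1,2,7,7],
  [1,7,4,0,1],
  [1,7,5,7,5],
  [1,0,6,5,6],
  [1,7,3,8,1],
  [1,7,8,3,2],
  [1,5,5,7,1,0],
  [1,8,4,0,4,0],
  [1,2,6,2,1,0],
  [1,7,4],
  [1,1,5,4,1],
  [1,3,3,8,1],
  [1,5,4,2,2],
  [1,7,2,5,2],
  [1,4,1,5,8,0],
  [1,8,7,7,1],
  [1,4,3,4,2],
  [1,5,2,3,4],
  [1,6,6,6,0],
  [1,5,6,6],
  [1,8,7,4,7],
  [1,5,8,7,3],
  [1,6],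
  [1,7,5,7,3],
  [1,6,3,2],
  [1,0,5,8,7,1],
  [1,8,0,6,0],
  [1,3,5,0,6],
  [1,5,6,1,8,0],
  [1,1,4,6],
  [1,0,8,7,4],
  [1,0,3,2,2],
  [1,4,1,4],
  [1,7,3,3,4],
  [1,1,5,0,1],
  [1,8,4,7,5,0],
  [1,6,0],
  [1,6,7,5,4],
  [1,5,5,6,0],
  [1,2,5,8,2],
  [1,8,4,4,4],
  [1,8,8,8,5],
  [1,8,4,2,3],
  [1,4,0,4],
  [1,8,4,8,5],
  [1,2,8,3,0],
  [1,5,5,0,8]]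

/-- Words. -/
def wordsD19 : List (List Nat) := [
  [1,7,1,2,1,0],
  [1,3,2,8,1],
  [1,2,6,5,7],
  [1,6,1,6],
  [1,7,3,0,0],
  [1,4,4,8,4,0],
  [1,3,3],
  [1,6,6,3,3],
  [1,0,7,0,6],
  [1,7,4,2,6],
  [1,3,8,7,0],
  [1,7,6,1],
  [1,5,8,5,7],
  [1,6,8,7,3],
  [1,3,2,1,4],
  [1,2,3,7,7,0],
  [1,1,1,7,2],
  [1,2,3,8],
  [1,1,1,5],
  [1,5,3,2],
  [1,6,0,1,0],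
  [1,1,8,0],
  [1,0,0,3,3],
  [1,4,1,1,0],
  [1,3,6,5],
  [1,6,1,5,3],
  [1,1,0,5,3,0],
  [1,4,7,8,0],
  [1,5,1,5],
  [1,8,6,7,7],
  [1,4,8,6,0],
  [1,6,1,5],
  [1,7,1,1,8],
  [1,0,5,1],
  [1,6,8,5,7],
  [1,7,8,2,5],
  [1,5,6,5],
  [1,4,7,4,8],
  [1,8,2,3,6],
  [1,3,2,8,2],
  [1,1,8,0,3],
  [1,2,5,6,2],
  [1,0,0,4,6],
  [1,7,6,1,2],
  [1,5,5,6,6],
  [1,6,7,7,5],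
  [1,7,4,3],
  [1,8,5,0,3,0],
  [1,1,6,3,0,0],
  [1,7,6,1,1,0],
  [1,7,2,5],
  [1,0,6,8,0],
  [1,6,5,7],
  [1,5,2,8,1],
  [1,6,8,7],
  [1,4,8,7],
  [1,2,8,4],
  [1,1,2,3,2],
  [1,5,5,7],
  [1,5,8,7],
  [1,7,4,2,8],
  [1,5],
  [1,2,5,0,3],
  [1,8,7,8],
  [1,4,6,2,1],
  [1,1,8,8,1],
  [1,4,1,4,1],
  [1,3,8,5,7,0],
  [1,1,1,0,4,0],
  [1,8,3,2,2],
  [1,7,8,4,3,0],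
  [1,5,0,1,0],
  [1,4,7,3,3],
  [1,7,8,8,3],
  [1,5,4,6,4],
  [1,2,8,4,3],
  [1,1,2,8,0,0],
  [1,5,5,4,0],
  [1,1,5,4,0],
  [1,3,6,0,8],
  [1,0,7,5,8,0],
  [1,7,4,3,4],
  [1,7,8,6,1],
  [1,8,3,6,5],
  [1,2,7,3,0],
  [1,2,3,2,6],
  [1,3,5,6,1],
  [1,6,4,1,0],
  [1,8,1,1,1],
  [1,3,2,4,6],
  [1,3,7,3,5],
  [1,2,3,2,5],
  [1,7,5,2,2],
  [1,1,0,3,4],
  [1,5,2,7,4,0],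
  [1,2,5,7,8],
  [1,8,2,2,4],
  [1,7,6,4,3],
  [1,4,2,4,2],
  [1,8,0,8,2]]

/-- Words. -/
def wordsD20 : List (List Nat) := [
  [1,4,7,3,2],
  [1,5,5,8,0],
  [1,8,6,2,7],
  [1,5,4,2,3,2],
  [1,4,4,0,4,0],
  [1,4,4,0,3,0],
  [1,5,4,1],
  [1,8,7,1,0],
  [1,7,8,0],
  [1,3,5,8,2],
  [1,1,6,3,2],
  [1,5,5,8,8,1],
  [1,4,0,8,3],
  [1,8,7,8,1],
  [1,3,7,7,1,0],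
  [1,4,0,8],
  [1,7,3,5],
  [1,1,0,4,5],
  [1,7,4,2,6,0],
  [1,4,5,8,4,0],
  [1,1,6,2,3],
  [1,8,6,6],
  [1,6,8,4,2],
  [1,7,6,3,0],
  [1,1,0,8,4,0],
  [1,5,6,4,3,0],
  [1,2,6,7,2],
  [1,3,8,3,0,0],
  [1,1,1,0,0],
  [1,7,4,6],
  [1,2,6,6,8],
  [1,4,8,6,4],
  [1,2,3,8,5],
  [1,6,2,1],
  [1,6,1,8,5],
  [1,3,7,0,8],
  [1,6,1,6,8],
  [1,3,5,6],
  [1,0,0,3,4],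
  [1,7,7,5,1],
  [1,4,8,8,0],
  [1,7,3,7,4,0],
  [1,3,7,4,4,0],
  [1,6,2,1,0],
  [1,8,0,3,4],
  [1,1,5,3,5],
  [1,4,2,4,1,0],
  [1,2,3,5,1],
  [1,3,5,0],
  [1,0,6,2,6],
  [1,8,2,7,8],
  [1,0,4,2,3],
  [1,2,3,4,4],
  [1,0,6,8,5],
  [1,4,5,7,0],
  [1,7,4,8],
  [1,1,1,6,1],
  [1,8,4,6,4],
  [1,3,2,4,3],
  [1,1,7,4,1],
  [1,8,5,3,2],
  [1,8,6,0],
  [1,3,0,7,3,0],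
  [1,1,5,6,4,0],
  [1,4,7],
  [1,4,3,4],
  [1,6,6,5,4],
  [1,8,4,3,5],
  [1,1,4,1,0],
  [1,6,2],
  [1,7,1,5,1],
  [1,7,2,5,1,1],
  [1,0,7,4],
  [1,5,5,3,3],
  [1,7,8,8,1],
  [1,7,2,8,3],
  [1,0,1,0,3],
  [1,8,7],
  [1,0,1,8],
  [1,7,1,6,5],
  [1,2,7,5,0],
  [1,1,1,8],
  [1,7,8,8],
  [1,3,3,8,0],
  [1,5,4,2],
  [1,7,6,4],
  [1,7,7,8,5,0],
  [1,1,1,0],
  [1,0,5,4,0,0],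
  [1,7,7,8,3],
  [1,7,6,2,1,0],
  [1,6,4,0,0],
  [1,0,3,3,3],
  [1,4,7,1,2],
  [1,2,7,6,1],
  [1,0,3,3,5],
  [1,4,3,0,8],
  [1,1,2,3,6],
  [1,6,4,6,1],
  [1,2,1,1,0]]

/-- Words. -/
def wordsD21 : List (List Nat) := [
  [1,2,6,2,1],
  [1,6,3,3,3],
  [1,4,7,7,6],
  [1,1,1,4,1],
  [1,7,7,6,4],
  [1,5,8,8,0,0],
  [1,5,7,2,2,1],
  [1,7,5,4,2],
  [1,4,5,5,3],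
  [1,6,8,6,2],
  [1,0,8,3,8],
  [1,8,6,5,4],
  [1,8,2],
  [1,8,4,4,1],
  [1,0,6,5,2],
  [1,5,7,7,2],
  [1,5,4,5,0],
  [1,5,7,5],
  [1,4,6,4,1],
  [1,0,1,6,0],
  [1,5,0,7,6],
  [1,6,3,5,0],
  [1,2,3,0,0],
  [1,8,2,1],
  [1,1,4,0,5],
  [1,7,3,4,2],
  [1,7,4,7,0],
  [1,3,8,7,5],
  [1,5,8,6,2],
  [1,7,6,2,1],
  [1,2,7,2,7],
  [1,2,2,7,7,0],
  [1,1,4,6,7],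
  [1,7,7,8,0,0],
  [1,4,8,6,5],
  [1,5,0,6,6,0],
  [1,0,5,2,3],
  [1,7,8,1,1,1],
  [1,4,5,6,0],
  [1,3,5,4,5,1],
  [1,8,5,8],
  [1,7,8,7],
  [1,6,0,5,4],
  [1,7,5,1,8],
  [1,6,4,8,1],
  [1,0,3,4,0],
  [1,6,6,4],
  [1,5,1,0,1],
  [1,2,5,5,8],
  [1,6,2,8,5,0],
  [1,3,0,1,4],
  [1,6,4,0,3],
  [1,3,3,8,5],
  [1,8,2,2,3],
  [1,0,1,1,1],
  [1,4,3,4,5,2],
  [1,2,2,4,1],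
  [1,4,8],
  [1,6,7,2,6],
  [1,4,7,7,0],
  [1,7,0,4,1],
  [1,3,8,1,2,1],
  [1,2,3,0,8],
  [1,3,7,6],
  [1,4,8,0,1],
  [1,8,3,7,8,0],
  [1,2,3,3,5],
  [1,8,1,8,3],
  [1,7,8,4,0],
  [1,6,1,0,3],
  [1,6,5,3,3],
  [1,5,5,2,2],
  [1,7,1,1,4],
  [1,5,3,6,0],
  [1,6,4,1,1],
  [1,1,7,3,3],
  [1,7,0,3],
  [1,2,7,4],
  [1,7,2,7,0,1],
  [1,8,7,3,8],
  [1,2,6],
  [1,6,2,7],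
  [1,4,4,1,6],
  [1,8,3,3],
  [1,8,2,7,0,0],
  [1,1,6,5,3,2],
  [1,5,8,8,0,1],
  [1,5,1],
  [1,3,7,4,3],
  [1,8,6,0,1],
  [1,7,5,6,2],
  [1,2,5],
  [1,0,6,3,0],
  [1,2,4,6,2,1],
  [1,8,4,4,7],
  [1,4,8,7,5,0],
  [1,3,3,7,8],
  [1,0,3,6],
  [1,3,6,0,4],
  [1,4,7,7,7,1]]

/-- Words. -/
def wordsD22 : List (List Nat) := [
  [1,1,7,3],
  [1,6,0,4,6],
  [1,2,1,8,0],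
  [1,5,8,5,3],
  [1,8,6],
  [1,0,4,6,2],
  [1,8,7,4],
  [1,3,2,2],
  [1,0,4,0],
  [1,0,3,3],
  [1,8,5,3],
  [1,2,5,3,2],
  [1,3,8,4,2],
  [1,4,1,0,8],
  [1,6,6,0,1],
  [1,3,4,1,0],
  [1,1,4,2,3,0],
  [1,7,7,0],
  [1,5,5],
  [1,7,0,5,5],
  [1,4,6,4,8],
  [1,2,1,2,6],
  [1,0,7,8,1],
  [1,8,8,5,8],
  [1,7,8,8,0,0],
  [1,3,0,7,3],
  [1,0,3,4,8,0],
  [1,7,3,4],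
  [1,5,3,8,0],
  [1,2,4,0,7,0],
  [1,8,0,4,0],
  [1,6,6,5,1],
  [1,7,6,7,5],
  [1,7,6,4,5,0],
  [1,5,8,0,5],
  [1,8,5,1],
  [1,8,7,2,1],
  [1,1,7,8],
  [1,0,4,0,5],
  [1,6,2,4,7],
  [1,5,7,2],
  [1,1,6,3,8,0],
  [1,6,1,2,7],
  [1,5,6,0,4],
  [1,3,3,8,2],
  [1,4,7,6,1],
  [1,6,5,5,2],
  [1,7,5,8,0],
  [1,5,8,1,4,0],
  [1,6,4,1,7],
  [1,7,5,3,5,0],
  [1,1,1,4,3],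
  [1,6,0,4,8],
  [1,4,8,5,2],
  [1,2,5,4,2],
  [1,7,6,8,3],
  [1,6,5,7,0],
  [1,5,6,4,3],
  [1,6,7,0,5],
  [1,0,1,8,0],
  [1,8,7,5,2],
  [1,0,0,3,7],
  [1,5,7,4,4,0],
  [1,3,6,2,1],
  [1,2,7,8,7],
  [1,5,6,1,6],
  [1,4,4,8,0],
  [1,5,1,8,0],
  [1,3,8,8,0],
  [1,5,5,3,2],
  [1,5,0,0,4,0],
  [1,6,3,7,5],
  [1,6,7,3,3,0],
  [1,0,4,6,0],
  [1,5,7,4,0],
  [1,1,8,4,0],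
  [1,8,7,1,1,2],
  [1,0,8,5,1],
  [1,7,4,4,1],
  [1,2,5,7,5],
  [1,1,8,4,5],
  [1,1,6,0],
  [1,5,5,5,2],
  [1,8,6,4,3],
  [1,2,2,1,7],
  [1,0,0,3],
  [1,1,5,2,1,0],
  [1,3,6,5,1],
  [1,7,5,1,1],
  [1,6,6,7,0],
  [1,8,4,8,0,1],
  [1,3,6],
  [1,3,7,4],
  [1,6,5,6,1],
  [1,7,0,1],
  [1,2,1,0,0],
  [1,6,8,1,1,0],
  [1,7,6,4,1],
  [1,5,6,7],
  [1,7,1,0,5]]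

/-- Words. -/
def wordsD23 : List (List Nat) := [
  [1,3,2,7,1],
  [1,6,0,8,4],
  [1,4,4,8,5],
  [1,5,6,4,1,1],
  [1,0,8],
  [1,7,3,7,0],
  [1,4,0,5,4],
  [1,5,6,2,7],
  [1,0,7,7,0],
  [1,5,2,4,5],
  [1,6,2,7,5],
  [1,8,5,3,3,0],
  [1,5,8,4,0],
  [1,1,5,6,0],
  [1,4,6,1,0,0],
  [1,5,0,5,0],
  [1,0,3,5,2],
  [1,0,1,2,6],
  [1,4,7,0,4],
  [1,0,7,2,4],
  [1,3,3,6],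
  [1,0,3,2,7],
  [1,3,3,7,4],
  [1,3,4,8,0,0],
  [1,5,0,3,7],
  [1,1,2,8,2],
  [1,2,3,4,1,0],
  [1,7,0,8,0,0],
  [1,6,7,5,1,0],
  [1,6,6,3,5],
  [1,8,5,1,8,0],
  [1,2,1,1,2],
  [1,7,8,2,1,0],
  [1,1,5,3],
  [1,2,7,1,0],
  [1,5,2,5,5,0],
  [1,0,4,4,1],
  [1,3,5,4,6],
  [1,8,4,3,5,2],
  [1,5,2,1,0],
  [1,3,0,0,3],
  [1,8,3,2,1,0],
  [1,7,2,8],
  [1,2,2,5,7],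
  [1,0,0,1,1],
  [1,8,4,8],
  [1,7,5,0,6],
  [1,5,7,3,3],
  [1,8,3,8,1],
  [1,7,8,3,7,0],
  [1,3,2,4],
  [1,5,5,0],
  [1,2,4,2,2,1],
  [1,3,8,0,3],
  [1,3,7,2,5],
  [1,8,6,7,0],
  [1,5,0,5,8],
  [1,3,4,8,1],
  [1,4,2,2,3],
  [1,5,8,3],
  [1,0,5,8,2],
  [1,1,2,4,1],
  [1,5,6,8],
  [1,5,8,8,7,0],
  [1,5,0,1,6],
  [1,7,0,0,0],
  [1,8,3,6,1],
  [1,5,7,3,6,0],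
  [1,1,4,1,7],
  [1,8,1,2,7],
  [1,0,0,6,0],
  [1,1,5,8,7],
  [1,1,5,5,7],
  [1,2,7,5,6],
  [1,5,2,6,0],
  [1,2,6,5,0],
  [1,8,0,8,4],
  [1,5,4,1,2],
  [1,1,8,8,4,0],
  [1,7,4,4,3],
  [1,6,3,2,5],
  [1,6,8,3,6,0],
  [1,7,3,7,5,0],
  [1,8,8,3,2],
  [1,4,5,8,0],
  [1,0,5,3,2],
  [1,0,6,0,1,0],
  [1,1,2,3],
  [1,2,8,8,5,0],
  [1,2,2,8,1,0],
  [1,1,4,4],
  [1,5,3,4,5],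
  [1,6,6,7],
  [1,3,2,7,6,0],
  [1,7,7,1,0],
  [1,6,6,8,0],
  [1,5,3,3,0],
  [1,6,7,7,7],
  [1,8,4,2,2],
  [1,4,3,5]]

/-- Words. -/
def wordsD24 : List (List Nat) := [
  [1,6,4,7,0],
  [1,1,5,0,0],
  [1,4,0,8,1],
  [1,8],
  [1,3,3,4,0],
  [1,5,2,8,4],
  [1,1,2,4,6,0],
  [1,2,3,4],
  [1,3,4,6,2],
  [1,6,0,1,7],
  [1,4,8,7,4,0],
  [1,8,7,0,0],
  [1,1,0,8],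
  [1,3,0,0,0],
  [1,7,2,7],
  [1,2,7,7,0],
  [1,8,8,1,5],
  [1,4,8,2,2],
  [1,8,3,5,4],
  [1,5,4,7],
  [1,5,7,1],
  [1,5,2,7,0],
  [1,7,4,1,1],
  [1,5,0,6],
  [1,6,1,0,1,0],
  [1,2,8],
  [1,2,4,3,5],
  [1,7,6,0,0,0],
  [1,2,1,7,5,3],
  [1,8,7,7,3],
  [1,1,1,6,0],
  [1,7,6,5,6],
  [1,3,4,8,8],
  [1,8,3,7],
  [1,7,0,6,6],
  [1,0,6,6,2],
  [1,2,8,8,3,0],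
  [1,8,8,5,3],
  [1,1,1,1],
  [1,1,5,2,3],
  [1,0,6,7,0],
  [1,8,0,5,3],
  [1,6,3,4,2],
  [1,3,5,2],
  [1,3,4,2,4,0],
  [1,5,1,7,5],
  [1,1,2,6],
  [1,4,2,1,4],
  [1,6,3,3,7,1],
  [1,2,1,6,0],
  [1,0,5,7,1],
  [1,1,5,7,3],
  [1,2,6,5,6],
  [1,6,2,7,1],
  [1,6,6],
  [1,8,8,2],
  [1,5,5,5,1],
  [1,0,8,3,0,0],
  [1,6,3,6,1],
  [1,7,3,4,1,0],
  [1,5,4,5,2],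
  [1,3,6,2,8],
  [1,0,4,4,7],
  [1,3,5,7,3,0],
  [1,7,1,1,2],
  [1,0,4,7,1],
  [1,6,4,5,3],
  [1,7,8,3,4,0],
  [1,5,7,4,4],
  [1,8,2,8,2],
  [1,5,0,4,0],
  [1,7,8,3,3],
  [1,1,1,5,8,0],
  [1,8,6,5,1],
  [1,1,8,4,1],
  [1,3,7,5,1],
  [1,3,8,0,1,0],
  [1,0,7,1,4],
  [1,7,7,3],
  [1,1,1,2],
  [1,6,5,4,0],
  [1,8,3,4,0],
  [1,8,1,6,6],
  [1,0,7,0,1],
  [1,4,2,1,5],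
  [1,6,5,7,6],
  [1,7,1,6,1],
  [1,8,5,4,0],
  [1,3,2,6,0,0],
  [1,3,6,4,4],
  [1,5,1,5,1],
  [1,2,2,7,3],
  [1,0,6,5,4],
  [1,1,1,4,0],
  [1,1,0,0],
  [1,5,4,6,1],
  [1,6,0,3,3],
  [1,2,5,1,0],
  [1,3,3,3,6],
  [1,2,4,5]]

/-- Words. -/
def wordsD25 : List (List Nat) := [
  [1,8,8,3,4],
  [1,2,4,7,2],
  [1,4,0,1,4],
  [1,3,4,3,5],
  [1,2,2,4,7],
  [1,3,7,7,0],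
  [1,3,8],
  [1,5,0,0],
  [1,0,7,1,1,0],
  [1,5,1,8,6,0],
  [1,0,4,8,3],
  [1,3,3,5,2],
  [1,3,8,5,1],
  [1,5,7,3],
  [1,6,1,6,4],
  [1,1,2,1,0],
  [1,5,8,4,3],
  [1,8,0,8,0],
  [1,7,5,4,3,0],
  [1,8,7,8,5],
  [1,4,5,0,1],
  [1,8,4,0,5,1],
  [1,8,4,0],
  [1,0,5,0],
  [1,5,1,4,3],
  [1,8,6,4,0],
  [1,6,6,0,0,0],
  [1,2,1,5,0],
  [1,3,3,3,0],
  [1,6,7,7,3],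
  [1,3,4,5,2],
  [1,1,5,3,4],
  [1,3,6,6,1],
  [1,6,8,0,5],
  [1,7,2,1],
  [1,7,1,8,5],
  [1,4,0,1,6,0],
  [1,1,7,8,4],
  [1,6,3,0,0],
  [1,5,1,2,4,0],
  [1,8,5,3,3],
  [1,6,7,6,2],
  [1,2,5,5,1],
  [1,6,1,1,0],
  [1,4,0,0,8],
  [1,2,7,2],
  [1,8,4,7,1],
  [1,1,8,7,0],
  [1,1,0,4,4],
  [1,0,5,2,7],
  [1,7,8,0,4],
  [1],
  [1,8,6,4,5],
  [1,7,3,2,4],
  [1,7,1,4,4],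
  [1,2,4,3,2],
  [1,7,6,6,7],
  [1,2,1,7],
  [1,7,1,0],
  [1,8,8,6,2],
  [1,5,7,2,3],
  [1,0,1,5,3],
  [1,2,3,6,1,1],
  [1,4,6,6,2],
  [1,3,7],
  [1,7,7,1,4,0],
  [1,8,2,7,1],
  [1,6,0,1,5,0],
  [1,8,2,4,7],
  [1,5,0,3,3],
  [1,2,2,5,3],
  [1,3,0,4,4,0],
  [1,4,0,6,3,0],
  [1,3,6,7,7],
  [1,2,7,0,1,1],
  [1,6,7,3,5],
  [1,5,4,1,2,1],
  [1,6,8,5,8],
  [1,6,8,4,2,1],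
  [1,7,0,0],
  [1,3,6,8,5],
  [1,0,6,3,3],
  [1,1,4,2,1,2],
  [1,3,3,8,8],
  [1,3,5,2,3,2],
  [1,2,6,2,3],
  [1,1,7,1,2],
  [1,8,8,8,8],
  [1,2,5,5,6,0],
  [1,1,7,5,3],
  [1,7,4,2],
  [1,0,8,8,2],
  [1,8,5,0],
  [1,0,7,7,5,0],
  [1,0,4,0,3],
  [1,4,8,4,4],
  [1,2,5,1,5],
  [1,1,5,1,2],
  [1,6,1,7,7],
  [1,6,5,6]]

/-- Words. -/
def wordsD26 : List (List Nat) := [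
  [1,4,2,1,7],
  [1,3,2,1,0],
  [1,0,8,6,2],
  [1,7,6,3,4],
  [1,4,8,5,1],
  [1,3,4,1,6,1],
  [1,1,8,6,7],
  [1,5,8,7,1],
  [1,8,7,6,1],
  [1,2,6,0],
  [1,8,6,3,2],
  [1,4,3,8,1],
  [1,8,4,0,4],
  [1,3,5,4],
  [1,1,2,4,3],
  [1,4,5,2,2],
  [1,0,7,6,1],
  [1,5,1,4,4,0],
  [1,2,5,7,1],
  [1,8,3,3,6],
  [1,0,3,6,6],
  [1,0,1,1],
  [1,1,7,5,5],
  [1,7,2,4],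
  [1,3,4,5,8,1],
  [1,5,1,6,6],
  [1,7,5,7],
  [1,7,7,0,1,0],
  [1,0,3,4,3],
  [1,0,0,8,0,1],
  [1,0,0,8],
  [1,7,6,8,6],
  [1,3,3,4,2],
  [1,5,5,8,5],
  [1,8,1,0,1],
  [1,5,6,4],
  [1,5,4,0,0],
  [1,8,8,0,4],
  [1,3,0,4,2],
  [1,6,2,6,0],
  [1,1,2,6,6],
  [1,0,0,5,3],
  [1,1,2,1,1,1],
  [1,5,8,1],
  [1,0,8,2,6],
  [1,3,4,1,4,0],
  [1,3,2,3,2],
  [1,6,1,6,6],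
  [1,4,8,1,0],
  [1,5,4,1,1],
  [1,1,0,4,3],
  [1,0,4,4,2],
  [1,2,5,1],
  [1,5,2,7],
  [1,3,7,1,2],
  [1,7,2,1,2],
  [1,8,2,5],
  [1,6,5,4],
  [1,2],
  [1,2,7,2,1],
  [1,4,6,7,2],
  [1,4,6,5],
  [1,3,3,7,1,0],
  [1,0,5,3],
  [1,4,1,8,6],
  [1,4,2,2],
  [1,5,0,6,5],
  [1,3,4,3],
  [1,1,8,6,5,0],
  [1,4,8,7,7],
  [1,1,6,2,8],
  [1,2,2,2,4],
  [1,1,5,6,6,0],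
  [1,2,2,4],
  [1,8,8,5,7],
  [1,6,0,4,2,1],
  [1,1,6,7,0],
  [1,5,1,2,6,1],
  [1,4,5,4,0],
  [1,6,0,3,0],
  [1,2,3,7,3],
  [1,5,5,1,4],
  [1,4,5,1,1],
  [1,7,5,3,0],
  [1,2,4,6,3,0],
  [1,2,8,8,4,0],
  [1,4,1,0,7,2],
  [1,8,7,8,2],
  [1,4,0,1],
  [1,7,1,2,1],
  [1,6,8,1,2],
  [1,4,5,6,4,0],
  [1,2,5,7,6],
  [1,0,4,5,8],
  [1,5,5,6],
  [1,1,4,3,0],
  [1,7,2,2,1,0],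
  [1,0,8,2],
  [1,5,3,8,4],
  [1,2,5,8,3,0]]

/-- Words. -/
def wordsD27 : List (List Nat) := [
  [1,1,0,8,4],
  [1,8,3,7,0],
  [1,0,4,2,2],
  [1,1,0,3],
  [1,4,2,6,3,0],
  [1,4,4,7,5],
  [1,2,8,7],
  [1,2,8,4,8],
  [1,5,4,0,4,1],
  [1,4,6,0],
  [1,4,8,4,5],
  [1,7,0,8,1,0],
  [1,7,8,1],
  [1,5,4,3,0],
  [1,6,0,3,2],
  [1,8,1,8,4,0],
  [1,2,2,8],
  [1,6,2,4,2],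
  [1,7,0,6,5],
  [1,7,2,3,5],
  [1,1,8,2,4],
  [1,3,4,1,1],
  [1,2,5,7,4,0],
  [1,3,2,7],
  [1,3,5,5,1,0],
  [1,5,6,0,8],
  [1,0,3,5,5],
  [1,6,6,1,0,0],
  [1,8,1,5],
  [1,2,5,7],
  [1,5,8,8,8],
  [1,8,4,2,1],
  [1,3,8,8,3],
  [1,1,6,0,3],
  [1,5,1,0,0,0],
  [1,0,4,2,1],
  [1,6,1,8,2],
  [1,4,1,2],
  [1,1,2,3,0],
  [1,5,4,4,5,0],
  [1,5,0,6,1],
  [1,4,3,5,2],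
  [1,3,7,4,0],
  [1,6,0,8,0],
  [1,6,7,3,8],
  [1,3,4,5,1],
  [1,1,7,1,1],
  [1,3,2,4,1,0],
  [1,5,4,4,7],
  [1,2,8,2,2],
  [1,7,4,4],
  [1,0,8,4,4],
  [1,8,7,4,4,0],
  [1,7,2,3],
  [1,8,3,4,5],
  [1,5,6,5,3,0],
  [1,6,8,4,4],
  [1,3,4,0,1,0],
  [1,7,7,7,5],
  [1,0,5,5],
  [1,3,6,4,2],
  [1,5,4,7,1],
  [1,8,2,4,4],
  [1,3,4],
  [1,0,6,6],
  [1,2,4,1,7],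
  [1,4,6,3,4,2],
  [1,3,5,4,5],
  [1,7,4,2,5,1],
  [1,5,4,8,8],
  [1,2,1,4,3],
  [1,4,1,6,1,0],
  [1,8,8,3,0],
  [1,1,5,2,6],
  [1,6,4,3],
  [1,5,5,0,4],
  [1,4,5,0,5],
  [1,0,5,8],
  [1,3,5,5,4,1],
  [1,2,8,4,5],
  [1,7,7,5,5],
  [1,4,0,7,0],
  [1,1,0,8,3],
  [1,8,6,0,1,0],
  [1,5,2,6,4],
  [1,0,5,2],
  [1,5,7,5,1],
  [1,2,7,0],
  [1,6,2,5,1],
  [1,2,7,6,1,0],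
  [1,2,2,2,2],
  [1,3,6,7,1,0],
  [1,8,1,2,6],
  [1,1,5,2,5],
  [1,0,6,7,2,1],
  [1,6,3,3,0],
  [1,4,6,8,5],
  [1,3,6,0,0],
  [1,4,1,0,3],
  [1,7,0,1,0]]

/-- Words. -/
def wordsD28 : List (List Nat) := [
  [1,8,0,4,1,1],
  [1,3,2,7,5],
  [1,7,7,4,8],
  [1,6,6,3,0,0],
  [1,1,7,6,5],
  [1,3,7,3],
  [1,2,1,2],
  [1,7,5,7,4],
  [1,1,0,6,7],
  [1,5,5,2,5],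
  [1,7,6,2],
  [1,5,0,6,7],
  [1,6,5,2,2],
  [1,2,5,1,5,0],
  [1,6,1,6,7],
  [1,2,7,3,0,3],
  [1,3,3,2,4],
  [1,4,4],
  [1,2,3],
  [1,1,7,3,0],
  [1,4,5,7,6,0],
  [1,0,8,1,4],
  [1,1,5,0,7],
  [1,1,2,5,3,0],
  [1,0,6,3,8],
  [1,0,7,5,1],
  [1,8,4,6,2],
  [1,6,7,1,1],
  [1,0,1,0,4,0],
  [1,2,7,4,0],
  [1,6,2,2,1,0],
  [1,8,0,5,7,0],
  [1,0,6,3,6,1],
  [1,0,8,8,0],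
  [1,3,8,3,5,0],
  [1,3,8,1,4],
  [1,8,7,4,4],
  [1,8,5,1,0,1],
  [1,2,2,8,1],
  [1,8,8,5,0],
  [1,2,8,1,0],
  [1,6,3,6,2],
  [1,7,0,5,6],
  [1,4,5,2],
  [1,7,5,2,4],
  [1,0,8,3,7,0],
  [1,2,7,4,5],
  [1,1,5,5,0],
  [1,0,0,8,2],
  [1,2,5,5,3,0],
  [1,7,7],
  [1,3,0,7,6],
  [1,6,6,3,2],
  [1,0,4,5],
  [1,8,6,1,2],
  [1,0,4,7,2],
  [1,1,0,1,5,0],
  [1,2,3,0,3,0],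
  [1,0,0,0,6,0],
  [1,2,5,7,0],
  [1,4,7,1,0],
  [1,1,4,4,1,0],
  [1,5,3,3,2],
  [1,4,1,1,2],
  [1,6,1,5,4,2],
  [1,5,5,1,6],
  [1,5,5,0,1,0],
  [1,4,6,0,3],
  [1,8,0,5,0],
  [1,8,2,4,5],
  [1,6,3,3,5],
  [1,8,8,4,0],
  [1,2,4,8,0],
  [1,6,6,1],
  [1,3,5,2,3],
  [1,7,0,5,8],
  [1,2,1,8,4],
  [1,7,3,7,6],
  [1,7,2,6,0],
  [1,1,5,1],
  [1,4,0,3,2],
  [1,2,5,1,1],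
  [1,6,6,1,5,1],
  [1,2,6,4,1],
  [1,1],
  [1,0,3,5,3,0],
  [1,3,7,8],
  [1,5,1,7,4,1],
  [1,0,0,1,6,0],
  [1,4,6,3,0],
  [1,1,2,7,7],
  [1,4,2,2,5],
  [1,2,7,2,1,0],
  [1,4,4,3,7],
  [1,0,4,6,4,1],
  [1,6,7,6,1],
  [1,0,7,5,3,0],
  [1,7,4,5,6,2],
  [1,6,3,8,0],
  [1,5,1,1,6]]

/-- Words. -/
def wordsD29 : List (List Nat) := [
  [1,2,4,5,5],
  [1,8,2,2,8],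
  [1,6,3,0,3],
  [1,1,1,6,8],
  [1,2,7,8,4],
  [1,6,4,8,7],
  [1,0,4,3,6,0],
  [1,0,5,0,3,0],
  [1,6,7,3,6],
  [1,0,0,0,0],
  [1,6,6,5,7],
  [1,1,4,0,4],
  [1,7,8,6,5],
  [1,0,5,8,3],
  [1,4,2,3,0],
  [1,7,1,2,4,0],
  [1,4,0,6,8],
  [1,4,7,5,3],
  [1,5,0,3,2],
  [1,5,2,4,2],
  [1,3,0,1,5,0],
  [1,5,3,6,6,0],
  [1,7,0,8,1],
  [1,5,7,7,3,0],
  [1,3,0,4,5],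
  [1,4,1,6,0],
  [1,0,1,5,0],
  [1,6,7,8,2],
  [1,4,1,0,1],
  [1,3,5,7,4],
  [1,6,8,3,0],
  [1,3,4,7,3],
  [1,2,4,5,1],
  [1,8,2,3,4],
  [1,5,4,0,4],
  [1,8,5,7,2],
  [1,7,0,6,4],
  [1,6,0,4],
  [1,0,8,3,2],
  [1,0,3,8,1],
  [1,6,0,6,7],
  [1,1,1,5,0],
  [1,0,5,5,0],
  [1,4,2,2,1],
  [1,3,0,0,5],
  [1,1,4,5],
  [1,3,0,8,4],
  [1,2,6,5],
  [1,4,0,1,1,0],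
  [1,7,1,2,2],
  [1,1,0,3,6],
  [1,3,3,0],
  [1,3,6,2,6],
  [1,5,8,1,5],
  [1,3,4,2,3],
  [1,6,5,4,3],
  [1,2,6,4,2],
  [1,3,6,5,2],
  [1,5,8,3,0],
  [1,5,1,8,3],
  [1,8,5,5],
  [1,2,4],
  [1,3,4,0,0],
  [1,3,6,4],
  [1,5,2,6,5,0],
  [1,8,0,1,2],
  [1,6,4,0,4],
  [1,2,6,1],
  [1,5,8,0,3],
  [1,2,2,1,0],
  [1,8,3,8,0,0],
  [1,4,2,7,7],
  [1,7,7,4,2],
  [1,3,3,0,3],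
  [1,0,7],
  [1,6,5,1,2],
  [1,7,8,7,4],
  [1,0,3,0],
  [1,8,1,5,4],
  [1,2,8,8,4],
  [1,3,5,5,0],
  [1,7,7,8,1,1],
  [1,4,7,4,5],
  [1,6,5,4,5],
  [1,2,8,7,0],
  [1,6,7,4,0],
  [1,8,5,4,6],
  [1,8,8,8,0],
  [1,4,3,8,5],
  [1,7,7,5],
  [1,4,0,0,1],
  [1,5,4,7,0],
  [1,7,3,2,2],
  [1,5,3,4,2],
  [1,2,8,0,5],
  [1,0,4,4,4],
  [1,3,4,8,7],
  [1,3,5,6,5],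
  [1,1,6,5],
  [1,6,6,2,4]]

/-- Words. -/
def wordsD30 : List (List Nat) := [
  [1,2,5,3,5],
  [1,1,2,8,1],
  [1,5,7,2,5],
  [1,4,5,4,6],
  [1,8,7,0,4],
  [1,8,2,6,2],
  [1,1,5,6,2],
  [1,3,7,5,5],
  [1,6,8,6,5],
  [1,1,7,6],
  [1,7,5,6],
  [1,6,3,4,5],
  [1,8,1,8,0],
  [1,4,2,5,2],
  [1,1,1,0,5,1],
  [1,5,7,6],
  [1,0,8,4,0,0],
  [1,2,8,4,1],
  [1,2,6,4,7],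
  [1,1,8,6,4],
  [1,2,4,7,0],
  [1,6,3,8,4],
  [1,7,1,6],
  [1,2,3,4,2],
  [1,1,6,3,4],
  [1,7,1],
  [1,6,4,5,2],
  [1,5,6,0,1],
  [1,1,0,4],
  [1,8,8],
  [1,7,8,3],
  [1,2,4,4,0],
  [1,3,4,6,6,1],
  [1,8,8,5,1],
  [1,2,4,3,3],
  [1,8,7,7,0],
  [1,5,2,1],
  [1,3,4,1],
  [1,4,7,5,1],
  [1,8,7,0,0,0],
  [1,5,4,6,0,0],
  [1,0,6],
  [1,5,0,4,6],
  [1,3,2,3,6,1],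
  [1,8,6,8,5],
  [1,4,8,5,8],
  [1,5,6,1,4],
  [1,6,3,0,5],
  [1,4,3,5,4],
  [1,5,7],
  [1,6,0,6,3,0],
  [1,6,2,5],
  [1,7,0,7],
  [1,1,5,2],
  [1,8,4,3,0],
  [1,7,6,7,1,1],
  [1,8,5,6,0],
  [1,5,2,5,6],
  [1,7,8,7,7,0],
  [1,8,0,7,0,0],
  [1,2,8,0,1],
  [1,2,5,0,5],
  [1,2,7,1,2],
  [1,6,5,0],
  [1,1,2,5,6],
  [1,8,3,0,8],
  [1,3,0,0],
  [1,0,5,5,6],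
  [1,0,1,0,0],
  [1,8,6,6,2],
  [1,6,2,2,3],
  [1,2,3,3,2],
  [1,3,5,8],
  [1,1,0,7],
  [1,6,4,4],
  [1,0,1,2,7],
  [1,4,3,3,0],
  [1,0,5,4,0],
  [1,0,3,8,7],
  [1,0,5,3,3],
  [1,5,7,1,0],
  [1,3,8,3,6],
  [1,7,2,3,2],
  [1,7,4,1,4,0],
  [1,3,7,7],
  [1,2,6,0,0],
  [1,3,3,5,3],
  [1,1,7,5,8,0],
  [1,8,6,6,1,0],
  [1,0,5,1,5],
  [1,7,3,7,4],
  [1,4,7,1,6],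
  [1,3,0,3],
  [1,8,5,2,3],
  [1,7,1,1,7],
  [1,5,7,1,6],
  [1,0,6,0,8,0],
  [1,1,4,8,7,0],
  [1,1,5,8,6],
  [1,6,8,1,0]]

/-- Words. -/
def wordsD31 : List (List Nat) := [
  [1,8,1,1],
  [1,1,4,2,3],
  [1,6,0,6,4],
  [1,5,1,0],
  [1,1,6,8,5],
  [1,6,5,8],
  [1,5,3,8,6,0],
  [1,4,2,1,0],
  [1,6,4,7,4],
  [1,1,1,6],
  [1,2,7,3],
  [1,8,0,8],
  [1,4,2,4],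
  [1,2,3,6,6],
  [1,0,7,4,4],
  [1,2,1,2,3],
  [1,7,1,1,0],
  [1,4,5,3,0],
  [1,6,4,0],
  [1,7,1,4],
  [1,2,3,7],
  [1,1,1,5,5],
  [1,6,3,3],
  [1,8,3,2,4],
  [1,6,8,0,0],
  [1,8,1,2,3],
  [1,2,7,8,1],
  [1,6,1,1,7],
  [1,7,8,6,0],
  [1,4,8,3],
  [1,8,3,0,0,0],
  [1,6,8,8,1],
  [1,8,5,4,0,0],
  [1,3,6,1,1],
  [1,5,1,4,1],
  [1,6,3,7,4,0],
  [1,2,7,8],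
  [1,1,5,4],
  [1,7,2,6,1,1],
  [1,2,1,1],
  [1,8,4,4,2],
  [1,6,4,8],
  [1,8,2,2],
  [1,1,4,4,3,0],
  [1,2,5,1,6],
  [1,0,6,4,3],
  [1,3,2,2,3],
  [1,8,5,1,5],
  [1,8,4,1,1,0],
  [1,2,5,3],
  [1,3,3,0,0,0],
  [1,1,5,2,4],
  [1,6,8,2,6],
  [1,7,7,1,1],
  [1,6,5,3],
  [1,2,3,6,5],
  [1,7,8,3,0,0],
  [1,6,6,2,4,4],
  [1,6,2,7,3],
  [1,7,5,6,1],
  [1,6,0,4,3],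
  [1,8,3,0],
  [1,6,6,2,2],
  [1,7,8,3,6,1],
  [1,1,7,6,0],
  [1,6,8,3,2],
  [1,0,8,0],
  [1,3,0,0,1],
  [1,7,1,2,7],
  [1,8,2,6,4,0],
  [1,1,7,8,0],
  [1,6,8,5,4],
  [1,5,5,8,1],
  [1,6,3,8,6,0],
  [1,6,1,0],
  [1,5,3,3,6,0],
  [1,2,4,4],
  [1,2,2,8,7,0],
  [1,8,5,2],
  [1,5,1,1,1],
  [1,7,2,4,1,0],
  [1,7,4,5,1],
  [1,4,6,0,5],
  [1,3,7,6,3,0],
  [1,0,3,4],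
  [1,7,8,1,0,1],
  [1,8,0,7,5],
  [1,5,4,6],
  [1,7,0,0,8],
  [1,1,5,0,5,1],
  [1,5,3,5,3],
  [1,0,8,4,0],
  [1,6,2,5,0],
  [1,8,5,0,0],
  [1,1,0,3,0],
  [1,8,4,0,1],
  [1,7,7,6,1,0],
  [1,3,4,5],
  [1,5,0,5,1],
  [1,5,1,4,0]]

/-- Words. -/
def wordsD32 : List (List Nat) := [
  [1,6,0,1,1,0],
  [1,8,2,6],
  [1,0,4,7,3,0],
  [1,5,2,3],
  [1,8,3,2,7],
  [1,4,2,3,6,0],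
  [1,6,5,8,1],
  [1,3,8,8,2],
  [1,7,3,5,2],
  [1,1,1],
  [1,7,1,5,0,0],
  [1,0,7,6,0,0],
  [1,3,3,3,4,0],
  [1,3,5,5],
  [1,2,4,6,0],
  [1,7,8],
  [1,0,1,5,4],
  [1,7,7,7,0],
  [1,8,3,8],
  [1,6,8,7,6,0],
  [1,6,7,0,0,1],
  [1,2,8,2],
  [1,7,4,4,0],
  [1,4,6,2,3],
  [1,6,1,4,5],
  [1,6,2,6,5],
  [1,7,4,3,3],
  [1,4,7,4,3],
  [1,7,0,6,2],
  [1,5,2,7,3],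
  [1,7,3,4,3,0],
  [1,3,0,8,4,0],
  [1,1,5,7,1,0],
  [1,1,0,5,3,3],
  [1,8,5,7,3],
  [1,8,7,0,3],
  [1,6,0,8,6,0],
  [1,5,3,5,1],
  [1,4,7,2],
  [1,6,8,1,7],
  [1,0,0,5,0],
  [1,1,5,0],
  [1,5,0,6,4],
  [1,5,0,4,0,0],
  [1,2,2,6,1],
  [1,2,3,6,4],
  [1,8,8,0],
  [1,4,0,0,4],
  [1,8,7,7,0,0],
  [1,5,0,5,6],
  [1,5,5,2,4],
  [1,1,1,5,3],
  [1,5,8,3,6],
  [1,4,5],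
  [1,8,7,3,2],
  [1,6,6,4,5],
  [1,7,7,5,2],
  [1,4,2,8,4],
  [1,6,5,1],
  [1,4,1,4,0,1],
  [1,3,6,8,4],
  [1,5,8,8,2],
  [1,8,7,6,5],
  [1,2,4,7],
  [1,8,2,3,3],
  [1,5,4,2,7],
  [1,3,8,3,2],
  [1,0,6,0],
  [1,4,5,5,5,0],
  [1,5,8,2],
  [1,5,0,5,3],
  [1,5,3,4,3],
  [1,0,5,6,0],
  [1,4,7,5,0],
  [1,3,0,7,0],
  [1,4,6,0,6],
  [1,0,3,8],
  [1,3,8,8,1],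
  [1,6,7,2,1],
  [1,2,2,3],
  [1,7,6,8,0],
  [1,0,1,0,1],
  [1,7,4,5,3],
  [1,8,1,8],
  [1,6,7,3,0],
  [1,1,7,0,1],
  [1,2,7,1],
  [1,5,0,0,4],
  [1,6,0,7,0],
  [1,5,2,2,1],
  [1,6,1,6,1,0],
  [1,2,1,6,8],
  [1,3,5,4,1],
  [1,1,0,1,6],
  [1,3,7,8,0],
  [1,8,8,1,4],
  [1,4,1,5,2],
  [1,3,0,8],
  [1,7,0,0,5],
  [1,5,6,0]]

/-- Words. -/
def wordsD33 : List (List Nat) := [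
  [1,0,6,1,2],
  [1,4,3,2,1],
  [1,2,2,1,1],
  [1,2,2,7,8],
  [1,7,4,6,0],
  [1,5,3,8,4,0],
  [1,3,7,2,7],
  [1,4,5,3,5],
  [1,1,4,7,4],
  [1,4,3,4,4],
  [1,8,4,3,0,0],
  [1,4,7,3,0],
  [1,7,0,1,1],
  [1,4,6,6,0],
  [1,8,6,1,0],
  [1,8,0,5,6,0],
  [1,7,5,1,2],
  [1,4,8,5],
  [1,4,0,3,5],
  [1,1,4,0,1,0],
  [1,7,2,6,6],
  [1,0,4,1,2],
  [1,8,4,5],
  [1,3,7,3,7,0],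
  [1,2,6,1,0],
  [1,3,5,0,5,0],
  [1,7,5,8,3],
  [1,1,6,8],
  [1,4,1,1,1,2],
  [1,4,4,1,0],
  [1,4,8,4,2],
  [1,1,8,3],
  [1,7,7,0,3],
  [1,4,8,0,5,0],
  [1,8,6,5,3],
  [1,7,2,6],
  [1,1,1,7,1],
  [1,0,7,3,7],
  [1,4,3,0,0],
  [1,7,6,7,3],
  [1,0,4,1,4],
  [1,3,8,1,0],
  [1,4,0,0,0,0],
  [1,2,7,3,6],
  [1,2,5,6,5],
  [1,5,4,2,1],
  [1,2,1,4,4],
  [1,5,0,4,3],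
  [1,0,3,7],
  [1,0,7,0,0],
  [1,8,2,8],
  [1,2,2,7,4],
  [1,1,5,8],
  [1,7,7,6,2],
  [1,3,3,5],
  [1,5,3,7,0],
  [1,3,2,8,5],
  [1,6,3,3,6,0],
  [1,1,1,6,6],
  [1,7,8,5],
  [1,4,0],
  [1,8,3,4],
  [1,4,0,5,1],
  [1,6,7,1,4],
  [1,2,7,7,3],
  [1,0,7,7,1],
  [1,4,4,6,2,1],
  [1,0,6,7,6,0],
  [1,4,6,8,6],
  [1,3,3,7,2],
  [1,3,5,8,6],
  [1,4,2,5,4],
  [1,6,0,4,1,0],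
  [1,4,1,2,1],
  [1,5,0,3,6,0],
  [1,3,2,2,1],
  [1,8,2,7,7,0],
  [1,5,8,1,7],
  [1,2,2,6],
  [1,7,3,7,3],
  [1,4,4,8,1],
  [1,4,8,0,3],
  [1,2,5,5,0],
  [1,8,5,6,4],
  [1,5,6,2,2],
  [1,5,7,1,5],
  [1,6,7,4,2],
  [1,4,7,6,2],
  [1,3,7,3,4,0],
  [1,6,2,7,1,0],
  [1,8,2,5,3],
  [1,1,8,8,3],
  [1,3,7,7,6],
  [1,7,6,0,0],
  [1,2,5,2,3],
  [1,2,1,0,7],
  [1,2,3,0,3],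
  [1,5,5,8],
  [1,8,0,8,5,1],
  [1,7,0,1,8]]

/-- Words. -/
def wordsD34 : List (List Nat) := [
  [1,6,1,7,2],
  [1,2,1,8,1],
  [1,4,7,4,2,1],
  [1,7,7,8,0],
  [1,5,4,0,6,0],
  [1,6,4,6],
  [1,0,1,6,8],
  [1,6,2,4,4],
  [1,7,5,4],
  [1,5,7,0,4],
  [1,4,8,8,3],
  [1,0,4,8],
  [1,4,1,7],
  [1,5,7,8,8,1],
  [1,6,3,7,0],
  [1,7,5,2,7],
  [1,2,3,0,1],
  [1,8,3,6,6],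
  [1,6,7,1,6],
  [1,0,6,4,8],
  [1,8,1,0,0],
  [1,5,6,7,2],
  [1,2,5,1,8],
  [1,4,1,6,5],
  [1,8,0,7,3],
  [1,2,8,4,4,0],
  [1,6,2,3],
  [1,0,3,6,1],
  [1,4,8,1],
  [1,5,2,2,3],
  [1,3,5,8,7,0],
  [1,3,8,5,0,0],
  [1,7,8,2,4,1],
  [1,8,7,0,1],
  [1,3,5,3],
  [1,8,3,7,4],
  [1,5,1,1,2],
  [1,8,3,6],
  [1,1,2,6,7],
  [1,2,1,6,1],
  [1,2,1,5,3,0],
  [1,0,0,7,6,0],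
  [1,0,4,5,3],
  [1,3,3,6,4],
  [1,7,3,2,4,1],
  [1,8,1,2,8],
  [1,0,1,1,2],
  [1,1,2,5],
  [1,1,6,1,1,0],
  [1,8,0,3],
  [1,1,2,6,5,0],
  [1,2,5,5,2],
  [1,5,8,1,0],
  [1,7,0,0,3],
  [1,8,1,7,3],
  [1,2,4,7,6],
  [1,0,8,2,2],
  [1,8,5,3,6,0],
  [1,5,7,2,1],
  [1,5,5,1],
  [1,6,1,2,1,1],
  [1,2,4,1],
  [1,4,6,1,5],
  [1,0,4,7,7,0],
  [1,3,0,0,6,0],
  [1,8,2,2,6],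
  [1,1,4,3],
  [1,7,2],
  [1,1,0,8,1],
  [1,4,5,6,4,2],
  [1,8,1,6,0],
  [1,1,6,5,0,0],
  [1,3,8,5,4],
  [1,5,8,8,1],
  [1,2,3,8,4,0],
  [1,0,1,8,3],
  [1,5,2,1,6],
  [1,1,6,1,4],
  [1,1,7],
  [1,1,8,1,6],
  [1,8,8,6],
  [1,4,3,2],
  [1,6,0,5,6],
  [1,1,0,1,0],
  [1,7,0,5,2],
  [1,3,2,1,6],
  [1,6,8,5,2],
  [1,0],
  [1,7,4,0],
  [1,1,5,6,4],
  [1,8,6,0,3],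
  [1,1,2,4,6,1],
  [1,3,6,6,0],
  [1,7,3,0,3],
  [1,8,7,7,1,2],
  [1,5,1,6,0],
  [1,1,7,8,3],
  [1,1,4,8,1,0],
  [1,1,7,2,3],
  [1,8,0,0,6]]

/-- Words. -/
def wordsD35 : List (List Nat) := [
  [1,1,7,8,5],
  [1,0,4,4],
  [1,3],
  [1,1,4,0],
  [1,5,5,1,1],
  [1,5,0,1],
  [1,0,8,5],
  [1,4,0,1,0],
  [1,8,1,8,4],
  [1,7,7,1,2],
  [1,0,7,5,6],
  [1,1,2,5,1],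
  [1,0,4,1,7],
  [1,0,5,7,6],
  [1,1,2,2,6],
  [1,2,1,1,4],
  [1,4,7,3,3,0],
  [1,1,1,0,4],
  [1,1,8,8],
  [1,1,4,3,4],
  [1,8,5,0,5],
  [1,1,8,0,0],
  [1,8,8,0,1],
  [1,8,1,2],
  [1,8,3,0,1],
  [1,5,6,3,0],
  [1,8,5,7,6,0],
  [1,2,8,3,0,0],
  [1,3,0,1],
  [1,8,4,5,1],
  [1,6,7,2,4,0],
  [1,2,4,2],
  [1,0,3,2],
  [1,1,8,6,1],
  [1,8,5,0,3],
  [1,8,0,7,2],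
  [1,6,5,6,0],
  [1,6,4,8,5,2],
  [1,4,3,0,3,0],
  [1,5,1,5,0],
  [1,8,4,2,6,0],
  [1,4,5,0,7],
  [1,7,3,0,0,1],
  [1,0,4,2,5,1],
  [1,2,7,1,1],
  [1,8,5,3,8],
  [1,8,2,3,0],
  [1,5,0,8,1],
  [1,6,1,5,1],
  [1,5,0,7,3],
  [1,2,7,6],
  [1,4,3,6,1],
  [1,4,2,1,0,0],
  [1,4,7,0],
  [1,4,8,8,8],
  [1,3,8,4,0],
  [1,0,6,2,3],
  [1,8,1,7,0],
  [1,2,6,1,1],
  [1,3,7,0,0],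
  [1,8,4,4,0],
  [1,5,6,2,3],
  [1,4,3,6,1,1],
  [1,3,0,5,0],
  [1,8,8,4,6],
  [1,7,2,2,3],
  [1,3,0,3,0],
  [1,4,3,4,0],
  [1,7,2,4,4],
  [1,5,5,6,4],
  [1,3,6,3,4],
  [1,3,3,7,1],
  [1,3,4,2],
  [1,7,3,6,0],
  [1,2,6,3,5],
  [1,8,4,6,6,1],
  [1,1,6,8,3],
  [1,1,5,8,0],
  [1,1,1,8,1],
  [1,7,4,6,1],
  [1,0,1,6],
  [1,0,4,8,1],
  [1,0,3,6,2],
  [1,3,6,8,4,0],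
  [1,3,5,6,2],
  [1,5,2,5,4],
  [1,5,6,8,6],
  [1,8,0,0],
  [1,0,4,1,0],
  [1,6,0,8,5],
  [1,3,6,2,4],
  [1,3,7,1,1],
  [1,5,1,8],
  [1,7,4,2,1,0],
  [1,7,8,3,5],
  [1,1,2,4,0],
  [1,4,3,7,0],
  [1,3,3,2,5],
  [1,3,0,6,2],
  [1,1,8,8,7]]

/-- Words. -/
def wordsD36 : List (List Nat) := [
  [1,6,8,6,1],
  [1,3,3,4,3,0],
  [1,3,5,8,4,1],
  [1,8,4,7,4],
  [1,1,4,0,6],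
  [1,2,5,2],
  [1,4,5,5],
  [1,0,1,7],
  [1,1,1,0,7,0],
  [1,7,2,6,0,0],
  [1,4,8,5,7],
  [1,8,2,8,1],
  [1,3,0,5,4],
  [1,4,8,0],
  [1,4,7,7,0,0],
  [1,7,7,3,3],
  [1,8,8,1,0],
  [1,5,4,4,2],
  [1,2,7,8,2],
  [1,5,0,7,5],
  [1,2,6,0,5],
  [1,3,6,0,6],
  [1,0,6,0,4],
  [1,0,8,8],
  [1,2,8,0,7],
  [1,5,8,8],
  [1,7,8,4],
  [1,8,0,3,2],
  [1,0,6,4],
  [1,0,4,0,0],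
  [1,2,6,0,1],
  [1,8,2,4,2],
  [1,5,7,0],
  [1,7,0,5],
  [1,7,5,0,3],
  [1,8,8,1,2],
  [1,5,5,2,1],
  [1,6,2,4,5],
  [1,0,3,5,3],
  [1,8,1,6,3,0],
  [1,4,1,7,0],
  [1,4,4,0],
  [1,7,5,8,2],
  [1,0,1,0,4],
  [1,7,0,6,0],
  [1,0,6,6,1],
  [1,0,1,5,1],
  [1,5,1,1],
  [1,1,0,6,6],
  [1,4,2,6,4],
  [1,5,7,2,1,0],
  [1,1,6,5,8],
  [1,8,7,8,4],
  [1,7,4,0,3,0],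
  [1,3,5,4,0],
  [1,1,5,4,2],
  [1,1,7,5,6],
  [1,8,0,1,7],
  [1,4,7,6],
  [1,7,4,5],
  [1,2,4,1,0],
  [1,6,4,2],
  [1,2,8,4,2],
  [1,2,7,1,5],
  [1,1,7,6,0,0],
  [1,5,8,6],
  [1,6,3,8,1,0],
  [1,2,8,7,2],
  [1,7,5,3,3],
  [1,2,1,4],
  [1,5,2,2,6],
  [1,6,7,0,6,0],
  [1,2,6,2,2],
  [1,4,6,3,5,1],
  [1,4,8,7,0],
  [1,8,8,5,4],
  [1,3,7,4,8],
  [1,7,7,7,4],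
  [1,1,0,6],
  [1,6,0,1,2],
  [1,1,0,7,4],
  [1,2,1,2,7],
  [1,2,3,6,1],
  [1,8,4,3],
  [1,6,0,6,5],
  [1,4,5,6,4],
  [1,7,8,7,0],
  [1,0,0],
  [1,0,0,5,1],
  [1,1,8,6,0],
  [1,5,3,4],
  [1,7,3,5,1],
  [1,6,7,8,0,0],
  [1,5,0,5,5],
  [1,0,7,5,4],
  [1,3,2,1,7],
  [1,5,6,6,4],
  [1,8,2,3,2],
  [1,2,6,8,0],
  [1,2,4,5,3]]

/-- Words. -/
def wordsD37 : List (List Nat) := [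
  [1,1,7,1],
  [1,4,5,3,0,0],
  [1,5,6,1,0],
  [1,8,1,1,7],
  [1,8,3,5,4,0],
  [1,1,4,7],
  [1,5,5,8,2],
  [1,7,5,6,0],
  [1,5,1,1,5],
  [1,1,5,8,1],
  [1,8,8,2,1,0],
  [1,3,2,4,1],
  [1,6,2,2,2],
  [1,5,7,3,0,0],
  [1,7,2,6,4],
  [1,7,7,6],
  [1,3,5],
  [1,3,7,2],
  [1,2,4,2,6],
  [1,0,8,1],
  [1,2,8,5],
  [1,4,2,6,0],
  [1,4,4,1,2],
  [1,8,4,1,1],
  [1,8,3,3,6,1],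
  [1,0,0,8,1,0],
  [1,4,0,7,3],
  [1,6,5],
  [1,6,1,0,8,1],
  [1,4,1,4,0],
  [1,2,3,2],
  [1,2,7,5,8],
  [1,5,0,4,2],
  [1,4,3],
  [1,7,8,2,2],
  [1,2,8,1],
  [1,8,1,0],
  [1,8,2,1,6],
  [1,7,0,8,4,0],
  [1,4,7,2,1],
  [1,3,8,7,2],
  [1,4],
  [1,3,8,0],
  [1,1,1,7,6],
  [1,4,6,6,5,0],
  [1,3,4,2,1,1],
  [1,1,5,1,0],
  [1,7,2,3,0],
  [1,0,4,6,7],
  [1,1,1,7],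
  [1,6,8,8,0],
  [1,3,4,6,0,0],
  [1,3,5,3,3],
  [1,8,5,7,0],
  [1,7,7,5,3],
  [1,5,4,8,0],
  [1,0,5,6,5],
  [1,1,7,6,4],
  [1,0,6,8,7],
  [1,2,3,7,0],
  [1,8,1,8,1],
  [1,2,8,5,7],
  [1,3,4,2,6],
  [1,7,0,0,5,0],
  [1,6,3,0,6],
  [1,4,5,1],
  [1,8,7,8,3,0],
  [1,5,7,6,0],
  [1,6,4,1],
  [1,0,5,2,1],
  [1,2,2,2],
  [1,2,5,5,3],
  [1,1,0,7,1],
  [1,8,2,2,1],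
  [1,8,7,0,0,1],
  [1,0,1],
  [1,6,8,3,3],
  [1,5,1,0,4],
  [1,7,4,1],
  [1,1,6,1],
  [1,5,6,7,5],
  [1,6,4,4,5,0],
  [1,1,8,4,6],
  [1,6,4,7,5],
  [1,0,0,7,6],
  [1,6,3,8,2],
  [1,4,6],
  [1,6,5,6,6,0],
  [1,4,6,5,1],
  [1,4,7,4],
  [1,6,2,7,6,0],
  [1,0,5,6],
  [1,2,5,6,4,0],
  [1,6,6,2,8],
  [1,8,3,6,0],
  [1,8,4,6,1],
  [1,1,4,6,6],
  [1,7,0,7,2],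
  [1,2,4,6,4],
  [1,4,2,8,2,3]]

/-- Words. -/
def wordsD38 : List (List Nat) := [
  [1,6,8,4,0],
  [1,5,6,2],
  [1,4,7,4,6,0],
  [1,6,0,5,0],
  [1,0,8,7,0,1],
  [1,7,6,7,1,0],
  [1,1,8,4],
  [1,4,0,6,2],
  [1,8,5,0,8],
  [1,4,6,4,0],
  [1,4,3,3],
  [1,1,7,0],
  [1,7,6,1,0],
  [1,4,6,3,3],
  [1,8,1,7,5],
  [1,7,4,7,1],
  [1,7,4,0,6],
  [1,6,3,3,2],
  [1,6,8,3],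
  [1,8,2,5,6],
  [1,3,8,4,1],
  [1,2,8,2,4],
  [1,8,6,5],
  [1,7,2,1,0],
  [1,7,5,4,5],
  [1,6,6,5,7,0],
  [1,2,6,6,2],
  [1,6,7,0,7],
  [1,1,6,7,6,0],
  [1,6,0,1,8],
  [1,6,8,5,0],
  [1,3,7,3,6,0],
  [1,1,8,1],
  [1,2,8,0,6],
  [1,2,8,6,4],
  [1,2,1,8],
  [1,4,6,6],
  [1,5,5,2,6],
  [1,7,0],
  [1,8,8,6,5],
  [1,5,0,4,1],
  [1,3,4,6,4,0],
  [1,0,7,1],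
  [1,6,4,5,0],
  [1,6,7,5],
  [1,0,0,6],
  [1,1,4,4,1],
  [1,4,6,6,6],
  [1,8,4,6],
  [1,0,4,2,3,0],
  [1,8,0,5,6],
  [1,1,1,5,6],
  [1,7,6,3,0,1],
  [1,4,5,7,2],
  [1,3,6,8,5,1],
  [1,8,7,1,1],
  [1,0,4,3,2],
  [1,2,5,0,4],
  [1,4,4,4,1],
  [1,8,1,6,7],
  [1,3,0,8,3],
  [1,6,0,5,2],
  [1,0,5,0,4],
  [1,4,0,7,5],
  [1,1,6,6,2],
  [1,1,6,5,2,1],
  [1,5,7,0,6],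
  [1,7,3,7,0,3],
  [1,8,4,7,6],
  [1,5,2,2],
  [1,6,1,1,8],
  [1,3,6,0,3],
  [1,4,2,3,2],
  [1,5,8,0],
  [1,8,2,6,4],
  [1,6,0,1,6],
  [1,6,0,0,1,0],
  [1,4,1,8,2],
  [1,0,8,0,3],
  [1,8,1,8,6,0],
  [1,5,5,3,0],
  [1,0,3,4,0,0],
  [1,4,1,5,0],
  [1,6,2,5,1,1],
  [1,4,2,7],
  [1,0,8,4,2],
  [1,6,5,0,1],
  [1,2,7,2,7,1],
  [1,8,4,1,6],
  [1,1,5,3,0],
  [1,8,3],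
  [1,2,2,4,2,1],
  [1,6,2,7,0],
  [1,6,4,7],
  [1,0,1,5,2],
  [1,6,8],
  [1,8,1,4,0],
  [1,8,0,4,4],
  [1,6,6,8,3],
  [1,3,5,2,5]]

/-- Words. -/
def wordsD39 : List (List Nat) := [
  [1,6,6,6,8],
  [1,8,4,7,5],
  [1,3,3,5,0],
  [1,8,4,5,0],
  [1,4,1,6,6],
  [1,6,4,3,0],
  [1,6,0,3,7],
  [1,5,7,4,3],
  [1,4,5,3,2],
  [1,6,6,1,6],
  [1,2,4,2,5,0],
  [1,5,5,5,2,1],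
  [1,0,1,2,5],
  [1,2,7,5,5,3],
  [1,6,5,3,4],
  [1,6,7,3],
  [1,2,7,2,2],
  [1,8,2,2,2],
  [1,3,7,7,3],
  [1,1,5,7],
  [1,5,1,2,5],
  [1,8,2,5,2],
  [1,6,1,8,0],
  [1,2,4,1,1],
  [1,8,2,1,8],
  [1,2,2,7],
  [1,4,8,6,2],
  [1,8,8,6,1],
  [1,5,7,4,8],
  [1,4,3,3,3],
  [1,7,8,5,2],
  [1,8,6,3,6],
  [1,2,5,1,0,0],
  [1,6,4,4,3],
  [1,0,5,7],
  [1,5,1,4,3,0],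
  [1,7,7,7,3,0],
  [1,1,4,0,1],
  [1,7,7,2,1,1],
  [1,6,8,5,1],
  [1,8,8,7,0],
  [1,3,8,2,7,1],
  [1,8,1,6,2],
  [1,0,8,4,3,0],
  [1,0,0,5,2],
  [1,4,6,8,0],
  [1,8,4,1],
  [1,2,2,3,0],
  [1,2,6,0,3],
  [1,3,6,3,2],
  [1,5,5,2],
  [1,0,7,2,5],
  [1,8,5,0,1],
  [1,8,7,3,5,1],
  [1,3,3,6,0],
  [1,8,5,3,4],
  [1,0,7,7],
  [1,8,6,8,3],
  [1,7,1,8,2,1],
  [1,6,2,6,4,1],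
  [1,3,7,4,1],
  [1,6,1],
  [1,3,8,8,0,1],
  [1,3,8,1,2],
  [1,7,2,3,6,0],
  [1,5,4,2,4,0],
  [1,2,1,2,6,0],
  [1,3,3,3,4],
  [1,8,5,2,6],
  [1,4,2,4,1],
  [1,8,0,8,1],
  [1,1,7,4,2],
  [1,8,3,5],
  [1,7,6,4,0],
  [1,2,5,1,2],
  [1,4,4,1,7],
  [1,0,4,2],
  [1,2,2,7,5],
  [1,0,0,7],
  [1,7,8,1,4],
  [1,1,7,5],
  [1,2,3,0,6],
  [1,0,5],
  [1,1,7,0,3,0],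
  [1,0,7,2],
  [1,4,2,2,1,0],
  [1,3,7,3,0],
  [1,0,0,4,3],
  [1,8,5,4,6,0],
  [1,1,7,7,2],
  [1,8,8,4],
  [1,0,0,3,0],
  [1,4,6,1],
  [1,6,2,1,8],
  [1,5,3,0,0,0],
  [1,1,8,7,3],
  [1,4,1],
  [1,2,2,1],
  [1,0,7,6,2],
  [1,3,6,1,2]]

/-- Words. -/
def wordsD40 : List (List Nat) := [
  [1,8,1,7,1],
  [1,7,8,8,0],
  [1,8,7,2,2],
  [1,1,1,4,1,0],
  [1,4,2,1,2],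
  [1,8,0,1],
  [1,7,1,2],
  [1,1,8,2,5],
  [1,8,5,6,2],
  [1,3,4,1,4],
  [1,3,8,6,1,0],
  [1,0,4,2,6],
  [1,1,4,0,5,1],
  [1,4,3,2,5,0],
  [1,6,1,4,0],
  [1,0,7,7,5],
  [1,5,7,6,4],
  [1,5,3,3,8,0],
  [1,2,6,6,1,0],
  [1,8,7,0],
  [1,7,6,3,5],
  [1,5,2,1,2],
  [1,4,8,8,1],
  [1,8,7,4,1],
  [1,5,5,7,8],
  [1,1,8,5,0],
  [1,5,1,0,7,2],
  [1,4,1,6],
  [1,1,2],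
  [1,7,5,0,5],
  [1,3,7,1,0],
  [1,7,8,0,1],
  [1,5,0,5],
  [1,0,6,5,0],
  [1,5,4,1,4],
  [1,1,5,2,1],
  [1,1,6,2],
  [1,7,0,0,1],
  [1,1,8,2,8],
  [1,8,1,4,7],
  [1,0,3,7,3],
  [1,1,1,1,5],
  [1,5,0,8],
  [1,4,6,6,1],
  [1,0,5,8,7],
  [1,4,1,5,1],
  [1,8,0,6,5,0],
  [1,3,6,0],
  [1,8,3,7,1,0],
  [1,8,7,1,2],
  [1,3,3,0,8],
  [1,7,2,1,1],
  [1,6,5,5],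
  [1,4,3,8,2],
  [1,3,4,7,4],
  [1,6,7,7,7,1],
  [1,5,7,3,2],
  [1,1,8,2,3],
  [1,8,4],
  [1,5,0,3],
  [1,0,8,7,8],
  [1,0,5,5,1],
  [1,2,2,6,6],
  [1,8,2,4,1,0],
  [1,6,6,1,2],
  [1,7,3,4,4],
  [1,7,6,6,0],
  [1,6,6,6,5,1],
  [1,1,5,1,4],
  [1,8,0,5],
  [1,4,2,6,5],
  [1,7,4,4,4],
  [1,5,3,7,2],
  [1,7,0,8,0],
  [1,1,5,5,6],
  [1,0,3,7,1],
  [1,8,2,1,4],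
  [1,3,5,7,3],
  [1,7,7,1,4],
  [1,2,1,0],
  [1,4,8,7,5],
  [1,5,4,5],
  [1,5,7,7],
  [1,2,1,6,7],
  [1,2,3,3,4],
  [1,7,4,2,3],
  [1,5,3,5],
  [1,1,2,4,2],
  [1,8,1,2,1],
  [1,1,8,8,1,0],
  [1,6,0,8,1],
  [1,2,7,7,2],
  [1,6,6,6,2],
  [1,3,7,0,6],
  [1,5,4,2,3],
  [1,4,3,4,5],
  [1,4,4,6,0],
  [1,5,1,2],
  [1,1,5,2,4,0],
  [1,6,2,7,8,0]]

/-- Words. -/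
def wordsD41 : List (List Nat) := [
  [1,3,8,6,0],
  [1,7,7,6,1],
  [1,8,6,7],
  [1,5,0,1,1],
  [1,4,7,4,1],
  [1,2,6,1,2],
  [1,6,6,0,0],
  [1,7,6,6,6],
  [1,7,8,2,6,1],
  [1,0,8,1,7,0],
  [1,6,1,1],
  [1,0,3,7,0,0],
  [1,4,4,5,0],
  [1,3,8,5,0],
  [1,6,4,8,0],
  [1,4,6,0,0,3],
  [1,0,7,4,0],
  [1,3,5,7,6],
  [1,1,7,5,4],
  [1,1,0,5,1],
  [1,8,8,7,3],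
  [1,0,3,8,4,0],
  [1,8,0,0,4],
  [1,1,4,5,6,0],
  [1,7,4,0,4],
  [1,8,6,6,0],
  [1,5,5,0,5],
  [1,5,8,0,1],
  [1,8,3,4,4],
  [1,7,6,3,2],
  [1,1,4,8,0],
  [1,0,5,4],
  [1,0,8,0,0],
  [1,5,0,3,5],
  [1,3,8,3,0,1],
  [1,3,6,5,5],
  [1,6,0,0,3],
  [1,5,5,7,1,1],
  [1,0,0,4,1,0],
  [1,3,6,8,3],
  [1,7,2,6,7],
  [1,1,8,2,2],
  [1,5,6,4,2],
  [1,0,3,6,7],
  [1,5,4,5,1],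
  [1,5,3,8,5],
  [1,0,3,4,2],
  [1,0,4,7,0],
  [1,1,0,8,5,0],
  [1,2,5,4],
  [1,5,6,5,0,0],
  [1,1,2,1],
  [1,2,7,5],
  [1,6,3,5],
  [1,6,6,6,1,0],
  [1,7,7,4],
  [1,7,6],
  [1,8,2,5,4],
  [1,5,7,8,0],
  [1,0,0,1,6],
  [1,2,7,1,0,0],
  [1,7,5,3],
  [1,8,3,8,6],
  [1,7,6,1,5],
  [1,8,7,5,0],
  [1,7,0,8,5],
  [1,6,0,8],
  [1,3,7,4,2],
  [1,0,6,8,3],
  [1,2,7,6,0],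
  [1,7,7,3,2,2],
  [1,4,4,7],
  [1,3,8,7,3],
  [1,4,8,4,4,0],
  [1,2,5,0],
  [1,8,6,3,8,0],
  [1,5,2,8,2],
  [1,6,2,6],
  [1,3,8,3,4],
  [1,8,0,7],
  [1,3,4,0,1],
  [1,1,7,2,6],
  [1,6,8,2,4],
  [1,0,5,1,1],
  [1,8,3,4,1],
  [1,8,7,8,3],
  [1,1,8,8,2],
  [1,4,2,7,5],
  [1,7,1,7,3],
  [1,8,4,2,6],
  [1,6,5,0,0],
  [1,3,0],
  [1,8,2,6,1],
  [1,4,4,3,4],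
  [1,4,6,2],
  [1,3,4,6,4],
  [1,3,2,6,2],
  [1,3,6,3,0],
  [1,1,8,6],
  [1,0,4,4,0]]

/-- Words. -/
def wordsD42 : List (List Nat) := [
  [1,1,5,7,7],
  [1,3,8,7],
  [1,6,0,1],
  [1,0,0,6,4],
  [1,5,6,3,3],
  [1,8,4,3,2],
  [1,7,0,1,2],
  [1,4,1,0,7],
  [1,0,5,7,0],
  [1,5,6,8,2,4],
  [1,8,0,0,0,0],
  [1,0,1,7,5],
  [1,1,4,0,0],
  [1,8,2,4,3],
  [1,8,7,5,5],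
  [1,1,4,6,2],
  [1,4,4,0,8],
  [1,8,6,5,0],
  [1,7,8,2,3],
  [1,1,2,2,3],
  [1,7,8,4,4],
  [1,8,2,4],
  [1,4,0,5,4,0],
  [1,6,2,8],
  [1,5,6,6,0],
  [1,1,0,5,4],
  [1,0,4,6,7,0],
  [1,1,7,8,3,0],
  [1,7,8,0,0],
  [1,1,0,7,3],
  [1,6,5,5,3],
  [1,4,4,6,5],
  [1,5,1,8,1],
  [1,5,6,5,1],
  [1,5,6,2,5],
  [1,7,5,6,4],
  [1,4,1,8,3],
  [1,0,4,1],
  [1,8,1,5,2],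
  [1,0,1,5,2,1],
  [1,0,1,6,2],
  [1,0,4],
  [1,1,6,5,1],
  [1,1,2,4,7],
  [1,0,1,0],
  [1,7,0,5,4],
  [1,3,8,8,5,1],
  [1,2,8,7,3],
  [1,5,1,8,2],
  [1,5,7,4],
  [1,1,4,1,0,1],
  [1,7,7,2,3],
  [1,4,7,3],
  [1,8,7,2],
  [1,3,0,7,4],
  [1,6,2,2],
  [1,5,5,4,6],
  [1,7,1,5],
  [1,5,0,3,4],
  [1,6,5,4,7,1],
  [1,4,6,5,4],
  [1,3,0,6],
  [1,8,5,5,1],
  [1,6,1,2,3],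
  [1,1,4],
  [1,7,3,3,0],
  [1,2,7,6,0,1],
  [1,8,6,6,1],
  [1,7,4,2,7],
  [1,6,5,4,6,0],
  [1,8,0,6],
  [1,8,7,1],
  [1,3,5,1,4],
  [1,4,3,3,4],
  [1,6,8,0],
  [1,4,3,7],
  [1,8,8,4,2],
  [1,7,8,7,1],
  [1,0,7,2,2],
  [1,6,2,4,4,0],
  [1,1,1,0,1],
  [1,6,4,3,4],
  [1,6,1,0,4],
  [1,6,8,8],
  [1,5,2,1,5],
  [1,6,2,5,1,2],
  [1,0,3,8,0],
  [1,3,3,4,4,0],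
  [1,4,7,8,8,0],
  [1,7,4,3,6,1],
  [1,8,4,4],
  [1,5,7,5,1,0],
  [1,5,4,0,3],
  [1,2,8,6,0,1],
  [1,6,8,1,4],
  [1,0,0,6,1],
  [1,7,1,4,1],
  [1,4,3,2,4],
  [1,2,1],
  [1,4,5,5,0]]

/-- Words. -/
def wordsD43 : List (List Nat) := [
  [1,0,1,7,1],
  [1,2,7,1,4],
  [1,2,4,0,5,1],
  [1,7,4,7],
  [1,7,5,5,4,0],
  [1,6,0,7,5],
  [1,4,5,3],
  [1,1,8,8,0,0],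
  [1,0,5,2,2],
  [1,7,7,0,0],
  [1,1,0,6,2],
  [1,8,5,8,7],
  [1,6,7,1,2],
  [1,4,4,2,8],
  [1,7,7,7,1],
  [1,8,5,5,7],
  [1,0,1,1,7],
  [1,2,1,1,5],
  [1,4,3,0],
  [1,5,7,6,2],
  [1,7,0,3,3],
  [1,0,6,3,6],
  [1,0,5,8,5],
  [1,6,4,6,0],
  [1,3,6,6,2],
  [1,1,5,7,8],
  [1,6,5,3,0],
  [1,2,5,6,6],
  [1,6,5,8,8],
  [1,0,7,0],
  [1,8,0,3,0],
  [1,5,7,8,4],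
  [1,7,0,8],
  [1,2,5,4,0,0],
  [1,0,1,2],
  [1,1,0,6,0],
  [1,4,3,6,0],
  [1,5,0,3,0],
  [1,6,7,4,1],
  [1,1,5,0,6],
  [1,8,0,4,3],
  [1,2,6,0,4],
  [1,6,5,1,5],
  [1,6,8,5],
  [1,8,2,4,6],
  [1,8,1,7,7],
  [1,1,8],
  [1,6,7,0,6],
  [1,3,0,1,8],
  [1,3,5,1,0],
  [1,0,8,8,0,0],
  [1,2,7,4,8],
  [1,6,3,2,1],
  [1,6,6,1,0],
  [1,2,7,0,1],
  [1,3,7,5,7],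
  [1,5,3,6,5],
  [1,7,6,4,8,0],
  [1,1,7,2],
  [1,4,1,8,5],
  [1,5,1,2,6],
  [1,6,5,1,0],
  [1,5,3,5,2],
  [1,3,2,2,4],
  [1,6,6,4,5,0],
  [1,8,3,0,0],
  [1,6,7,0],
  [1,6,6,7,5],
  [1,0,0,5],
  [1,2,5,7,2],
  [1,0,0,7,2],
  [1,4,0,7,2],
  [1,0,8,4],
  [1,0,5,0,3],
  [1,4,3,0,1],
  [1,6,3,4,4,0],
  [1,2,6,6],
  [1,2,1,1,1],
  [1,6,8,8,6],
  [1,0,7,5,1,0],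
  [1,7,4,3,0],
  [1,1,5],
  [1,4,2,1],
  [1,5,8],
  [1,0,1,6,3,0],
  [1,8,0,4,5],
  [1,2,4,1,2],
  [1,5,4,3,5],
  [1,0,1,4,0],
  [1,4,8,6],
  [1,7,2,6,3,0],
  [1,0,5,2,1,2],
  [1,4,8,7,4],
  [1,0,0,4,4],
  [1,0,3],
  [1,1,6,8,7],
  [1,4,3,2,2],
  [1,0,8,7,0],
  [1,1,7,0,0],
  [1,0,7,2,2,1]]

/-- Words. -/
def wordsD44 : List (List Nat) := [
  [1,8,1,6],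
  [1,3,8,8,6],
  [1,5,2],
  [1,7,2,8,1],
  [1,4,2,3,3],
  [1,4,2,4,0],
  [1,8,4,0,0],
  [1,1,1,2,6],
  [1,0,4,5,5],
  [1,8,6,4],
  [1,3,7,0,7],
  [1,2,8,4,3,0],
  [1,2,6,7,1,1],
  [1,6,1,4],
  [1,7],
  [1,1,0,4,0],
  [1,8,8,8,1],
  [1,0,4,1,1],
  [1,5,5,0,1],
  [1,2,7,8,0],
  [1,7,1,0,3],
  [1,5,3,5,0],
  [1,3,8,7,1],
  [1,2,6,4,1,0],
  [1,0,0,7,1],
  [1,0,6,7,5],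
  [1,5,7,0,5],
  [1,2,8,2,1],
  [1,0,7,1,2],
  [1,6,5,2],
  [1,1,6,2,1],
  [1,5,5,7,0],
  [1,4,1,5],
  [1,6,7,6,5],
  [1,6,8,4,0,0],
  [1,0,8,0,1],
  [1,2,4,5,2],
  [1,8,3,2],
  [1,6,4,1,1,0],
  [1,0,0,0],
  [1,1,2,7,7,0],
  [1,8,8,2,7,0],
  [1,6,5,6,2],
  [1,1,5,7,1],
  [1,1,2,8],
  [1,6,6,4,8],
  [1,3,0,8,1,0],
  [1,3,8,1],
  [1,6,6,8,6],
  [1,4,1,8,1],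
  [1,8,8,0,3],
  [1,6,2,5,4],
  [1,8,0],
  [1,5,6,8,7],
  [1,7,3,7],
  [1,0,5,1,4],
  [1,2,4,8,3],
  [1,1,4,4,0],
  [1,1,4,3,3],
  [1,1,1,7,0],
  [1,8,1,4,3],
  [1,3,3,3,5],
  [1,6,3,7,1,0],
  [1,5,4,4,0],
  [1,3,7,6,1],
  [1,8,6,3,7,0],
  [1,7,2,3,3],
  [1,7,7,4,7],
  [1,8,2,4,1],
  [1,7,2,4,0],
  [1,3,6,0,3,0],
  [1,5,8,6,0],
  [1,4,6,3,8],
  [1,4,6,2,6],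
  [1,4,4,2,3],
  [1,2,8,2,8],
  [1,4,2,1,1],
  [1,3,6,1,6],
  [1,0,7,7,2],
  [1,8,8,1,6,0],
  [1,7,7,7,3],
  [1,3,0,7,0,0],
  [1,2,8,5,2],
  [1,4,0,1,7],
  [1,7,8,2],
  [1,8,4,8,1],
  [1,1,5,1,1],
  [1,5,8,4,8],
  [1,5,4,8,2],
  [1,6,1,0,6],
  [1,7,0,6],
  [1,8,5,6,5],
  [1,5,0,0,5],
  [1,6,6,0,1,1],
  [1,7,7,7],
  [1,4,5,3,5,1],
  [1,3,4,8,4,0],
  [1,3,7,1,7],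
  [1,1,6,7,7],
  [1,4,8,5,3]]

/-- Words. -/
def wordsD45 : List (List Nat) := [
  [1,3,2,1,5],
  [1,3,5,3,0],
  [1,1,0,3,5],
  [1,1,4,2,6],
  [1,5,1,6,3,0],
  [1,3,0,7,1],
  [1,1,6,4,5],
  [1,3,7,0],
  [1,8,5,7],
  [1,3,2,4,2],
  [1,6,7,3,4],
  [1,4,4,8,6],
  [1,4,4,8],
  [1,6,6,2],
  [1,3,7,2,1,0],
  [1,6,5,2,1],
  [1,4,0,3,4,0],
  [1,0,4,8,0],
  [1,7,4,2,3,0],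
  [1,5,7,1,1],
  [1,2,8,7,0,0],
  [1,2,1,0,8],
  [1,7,6,4,7],
  [1,7,8,4,1],
  [1,1,4,1,5],
  [1,6,0,4,2],
  [1,8,2,4,7,0],
  [1,4,4,1],
  [1,4,3,3,2],
  [1,8,7,0,1,0],
  [1,4,6,7,1,0],
  [1,2,8,5,0],
  [1,7,7,5,0],
  [1,8,2,3],
  [1,1,1,4],
  [1,8,2,8,0,0],
  [1,8,5,4,3],
  [1,7,3,2],
  [1,2,2,5],
  [1,6,3,0],
  [1,4,0,4,0],
  [1,8,3,3,0],
  [1,8,4,5,2],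
  [1,8,3,6,2],
  [1,4,1,4,4],
  [1,6,7,4,8],
  [1,1,2,7],
  [1,0,1,4,7],
  [1,8,7,0,3,0],
  [1,6,1,7,1],
  [1,5,8,3,0,0],
  [1,3,5,2,2],
  [1,7,7,1],
  [1,0,0,8,5],
  [1,6,7,6,0],
  [1,4,5,8,7,0],
  [1,3,6,1],
  [1,1,1,4,6,0],
  [1,3,7,5],
  [1,7,0,4,1,0],
  [1,8,1,5,1],
  [1,3,3,6,8],
  [1,0,6,5],
  [1,5,5,4,3],
  [1,4,4,7,1],
  [1,7,6,4,1,0],
  [1,8,5],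
  [1,1,0,8,7],
  [1,7,4,2,1],
  [1,7,5,8],
  [1,5,8,8,0],
  [1,3,2],
  [1,4,2,5,1],
  [1,7,5,2,6,0],
  [1,6,6,6,4],
  [1,0,3,5],
  [1,5,3,6,8],
  [1,7,7,6,0],
  [1,8,8,8,4,0],
  [1,6,4],
  [1,2,4,7,4],
  [1,1,2,6,1],
  [1,5,2,3,2],
  [1,8,2,3,5],
  [1,1,2,7,1],
  [1,1,6],
  [1,4,4,7,5,0],
  [1,4,1,0],
  [1,6,7,5,0],
  [1,3,6,2],
  [1,8,7,0,7],
  [1,7,6,6],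
  [1,2,4,3],
  [1,3,4,6,0],
  [1,8,6,2,5],
  [1,3,0,1,1],
  [1,4,6,3,2],
  [1,3,7,2,4],
  [1,7,5,7,2],
  [1,7,5,5]]

/-- Words. -/
def wordsD46 : List (List Nat) := [
  [1,8,4,2],
  [1,3,8,8],
  [1,7,5,5,6],
  [1,2,8,3],
  [1,4,6,1,0],
  [1,8,8,1],
  [1,6,1,4,6],
  [1,6,4,7,3,0],
  [1,4,5,5,8,1],
  [1,7,8,2,1],
  [1,3,3,4,1],
  [1,3,5,2,1],
  [1,4,0,0],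
  [1,5,6],
  [1,6,3,3,2,1],
  [1,0,6,6,5,0],
  [1,2,8,2,4,2],
  [1,5,2,7,1],
  [1,0,3,7,2],
  [1,1,4,5,1],
  [1,5,0,1,7],
  [1,0,7,6,6,0],
  [1,4,2],
  [1,6,6,4,0,0],
  [1,0,4,3],
  [1,3,4,6,5],
  [1,5,4,8,0,0],
  [1,3,2,5,1],
  [1,8,8,3,6],
  [1,4,8,0,3,0],
  [1,6,3,4],
  [1,3,4,7,5,1],
  [1,3,7,1],
  [1,4,2,6],
  [1,0,0,8,1],
  [1,5,0,5,1,0],
  [1,1,0,0,0],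
  [1,5,8,4,2],
  [1,5,0,4],
  [1,0,7,7,6],
  [1,0,8,1,0],
  [1,5,6,8,0],
  [1,2,2,1,4],
  [1,1,8,3,2],
  [1,8,1],
  [1,3,5,8,5],
  [1,4,1,6,4],
  [1,8,2,7,0],
  [1,7,3,5,0],
  [1,0,7,4,1],
  [1,4,1,5,3,0],
  [1,6,8,4],
  [1,0,5,8,0],
  [1,7,4,0,3],
  [1,0,1,6,1],
  [1,8,2,1,2],
  [1,8,1,7,6],
  [1,3,8,4],
  [1,5,0,7,0],
  [1,3,5,0,3],
  [1,5,1,2,2,1],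
  [1,4,7,1],
  [1,6,7,3,2],
  [1,4,2,7,0],
  [1,1,1,7,7],
  [1,4,1,7,7],
  [1,4,4,0,0],
  [1,2,5,2,1],
  [1,0,3,6,0],
  [1,4,1,5,7],
  [1,0,4,6],
  [1,6,1,0,5],
  [1,7,3,8,3],
  [1,6,4,7,2],
  [1,8,6,1,5],
  [1,7,4,5,8],
  [1,2,6,5,4],
  [1,4,8,8],
  [1,7,5,7,0],
  [1,2,8,6,5,1],
  [1,7,3,2,5],
  [1,7,7,2,8],
  [1,2,2],
  [1,5,8,3,8],
  [1,0,4,0,3,0],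
  [1,3,2,7,3],
  [1,4,2,3],
  [1,8,3,2,1],
  [1,3,3,3],
  [1,3,4,0],
  [1,6,7,2,2],
  [1,1,6,6],
  [1,0,6,4,1],
  [1,1,0,8,0],
  [1,1,7,3,8],
  [1,0,0,1],
  [1,0,1,8,4],
  [1,5,8,4,6],
  [1,4,3,6,4],
  [1,7,0,6,0,0]]

/-- Words. -/
def wordsD47 : List (List Nat) := [
  [1,4,2,6,1],
  [1,0,6,3,3,2],
  [1,2,7,4,2],
  [1,0,6,2,4],
  [1,6,6,1,1],
  [1,0,7,1,1],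
  [1,8,8,8],
  [1,3,4,0,5,1],
  [1,6,5,7,3],
  [1,6,3,8],
  [1,4,7,7,5],
  [1,4,4,4],
  [1,0,0,6,8],
  [1,8,8,5],
  [1,3,7,3,2],
  [1,5,5,3],
  [1,6,7,7],
  [1,2,3,2,2],
  [1,1,8,3,7],
  [1,4,7,8,3],
  [1,6,5,7,5],
  [1,4,3,4,1],
  [1,0,8,2,1,0],
  [1,3,2,2,5],
  [1,8,7,7],
  [1,1,8,7,4],
  [1,8,1,7],
  [1,6,0,8,4,0],
  [1,5,8,0,5,0],
  [1,5,3,3],
  [1,5,7,8,5],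
  [1,5,6,4,0],
  [1,4,6,0,0],
  [1,3,7,1,6],
  [1,5,2,3,7],
  [1,6,4,5],
  [1,3,3,7,0],
  [1,4,5,6,5],
  [1,3,8,0,0],
  [1,2,1,4,1,0],
  [1,2,6,2],
  [1,3,2,1,8],
  [1,3,8,4,6],
  [1,1,5,6],
  [1,5,0,0,1],
  [1,1,5,7,4],
  [1,8,2,5,7,0],
  [1,4,7,8,5,0],
  [1,8,7,6,6],
  [1,4,6,4],
  [1,8,7,4,3],
  [1,8,1,2,5],
  [1,6,5,4,1],
  [1,7,8,3,7],
  [1,0,5,6,2],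
  [1,5,7,3,0],
  [1,6,0,5],
  [1,3,7,8,1],
  [1,5,5,8,3],
  [1,1,8,1,8],
  [1,4,5,5,2],
  [1,1,5,6,6],
  [1,2,2,3,6,1],
  [1,5,3,4,4],
  [1,2,1,0,6],
  [1,1,1,4,8,0],
  [1,2,8,1,2],
  [1,3,3,0,1],
  [1,1,6,2,5],
  [1,2,4,2,1],
  [1,0,8,1,4,0],
  [1,4,1,1,6],
  [1,4,8,6,6,2],
  [1,3,6,5,0],
  [1,2,5,6],
  [1,5,2,6],
  [1,0,8,3],
  [1,0,6,8],
  [1,2,5,8],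
  [1,1,6,3,0],
  [1,7,4,3,2],
  [1,6,1,6,0],
  [1,4,0,4,1],
  [1,5,4,6,4,1],
  [1,3,6,7],
  [1,5,1,0,0],
  [1,0,6,3,2,2],
  [1,0,6,8,6],
  [1,1,1,0,3],
  [1,8,6,8],
  [1,6,1,2,5],
  [1,3,7,7,1],
  [1,7,8,6,2],
  [1,7,4,8,1],
  [1,1,1,1,4],
  [1,4,8,3,3],
  [1,8,5,1,5,0],
  [1,7,8,1,1],
  [1,6,3,6],
  [1,7,6,8,1,0]]

/-- Words. -/
def wordsD48 : List (List Nat) := [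
  [1,8,5,5,3,0],
  [1,1,2,1,5],
  [1,8,2,1,0],
  [1,7,2,7,5],
  [1,0,4,8,2],
  [1,1,6,7],
  [1,5,3,7,1,0],
  [1,6,8,6,6],
  [1,7,3,5,5],
  [1,0,0,5,3,0],
  [1,5,8,3,7],
  [1,7,8,3,0],
  [1,4,1,1],
  [1,6,0,7,3],
  [1,5,5,1,0],
  [1,4,7,8],
  [1,1,4,2,4],
  [1,7,2,6,2],
  [1,1,0],
  [1,0,5,4,5],
  [1,6,7,2,1,0],
  [1,4,5,8,5],
  [1,1,2,2,8],
  [1,5,1,4,6],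
  [1,7,5,5,3],
  [1,7,2,2],
  [1,1,4,8,0,3],
  [1,1,5,3,2],
  [1,4,1,6,1],
  [1,7,6,5,5],
  [1,7,1,7,5],
  [1,3,5,1,5],
  [1,4,5,8,8],
  [1,5,4,6,0],
  [1,6,3,7,0,0],
  [1,2,7,2,4,0],
  [1,6,6,7,3],
  [1,2,5,4,4,0],
  [1,4,2,5,0],
  [1,3,4,1,2],
  [1,2,8,2,3],
  [1,5,8,0,6,2],
  [1,0,6,7,3],
  [1,5,6,0,0],
  [1,0,6,1],
  [1,3,7,2,3],
  [1,4,7,5],
  [1,4,6,3,6],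
  [1,5,2,5,3],
  [1,0,5,5,3,0],
  [1,1,2,7,3],
  [1,8,8,8,3],
  [1,6,0,8,3],
  [1,2,1,6],
  [1,8,0,5,3,0],
  [1,5,0,0,3],
  [1,3,3,6,1],
  [1,8,6,5,0,1],
  [1,2,7],
  [1,1,4,6,0],
  [1,2,3,5,1,0],
  [1,6,1,2,8],
  [1,3,3,0,5],
  [1,6,1,0,0],
  [1,6,2,5,1,0],
  [1,7,1,1],
  [1,8,5,3,5],
  [1,3,3,4],
  [1,1,0,4,8,1],
  [1,1,5,1,8],
  [1,6,6,2,1],
  [1,6,0,3,6],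
  [1,6,1,7,3],
  [1,0,3,2,1,1],
  [1,0,4,2,7],
  [1,4,7,2,4],
  [1,3,5,8,0],
  [1,5,8,5],
  [1,1,8,7,1],
  [1,3,8,0,5],
  [1,8,6,1],
  [1,5,8,7,2],
  [1,5,1,4],
  [1,5,6,6,2],
  [1,2,4,8,8],
  [1,4,0,1,1],
  [1,6,8,6],
  [1,1,1,8,7,2],
  [1,2,8,8,3],
  [1,6,6,2,3],
  [1,3,2,4,0],
  [1,7,1,5,5],
  [1,4,8,2],
  [1,0,5,3,0],
  [1,3,4,7,8,0],
  [1,1,2,5,7],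
  [1,8,8,3],
  [1,1,8,1,5],
  [1,6,2,6,0,0],
  [1,0,1,4,0,1]]

/-- Words. -/
def wordsD49 : List (List Nat) := [
  [1,6,8,0,0,0],
  [1,3,5,1,8],
  [1,2,8,6,8],
  [1,4,6,2,7],
  [1,7,1,8,5,0],
  [1,1,0,1,8],
  [1,0,5,3,5],
  [1,1,1,2,2],
  [1,7,0,1,0,0],
  [1,6,2,8,5],
  [1,5,7,0,3],
  [1,2,6,2,6],
  [1,2,3,0],
  [1,8,5,3,0],
  [1,1,2,6,0],
  [1,5,5,4,1],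
  [1,7,2,7,1],
  [1,1,0,5,8],
  [1,6,7,6,4],
  [1,2,4,2,3],
  [1,6,0,3],
  [1,8,7,0,8,0],
  [1,5,7,2,2],
  [1,5,8,6,7],
  [1,0,8,4,1],
  [1,0,8,2,3,0],
  [1,8,6,7,3],
  [1,7,0,1,4],
  [2,7,3,6,1],
  [2,7,7,4,0],
  [2,5,6,8,1],
  [2,0,3,3],
  [2,2,2,2],
  [2,8,7,2],
  [2,7,3,0],
  [2,8,4,0],
  [2,7,4,6],
  [2,4,5,6],
  [2,3,3,2],
  [2,7,0,4,0],
  [2,0,7,0],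
  [2,8,3,3],
  [2,3,7,4],
  [2,1,1,4],
  [2,0,4,0],
  [2,2,3,8],
  [2,8,5,6],
  [2,1,7,6],
  [2,1,6,0],
  [2,3,6],
  [2,0,8,2],
  [2,8,7],
  [2,8,0,4],
  [2,0,6,2],
  [2,7,8,6],
  [2,3,4,1],
  [2,7,8,8,1],
  [2,3,8,1],
  [2,3,8,7,0],
  [2,4,0,6,0],
  [2,7,2,4,2],
  [2,0,7,3],
  [2,0,7],
  [2,2,6,1],
  [2,5,1,1],
  [2,0,3],
  [2,4,5,1,0],
  [2,6,6,0],
  [2,2,3,5],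
  [2,6,7],
  [2,3,6,2],
  [2,1,7,7,3],
  [2,5,4,3],
  [2,4,0,0],
  [2,5,8,7,0],
  [2,4,1,4],
  [2,7,2,4],
  [2,4,8,2,5],
  [2,2],
  [2,6,4,2],
  [2,4,4,1],
  [2,2,7,7],
  [2,4,3,8,1],
  [2,3,6,3],
  [2,5,1],
  [2,6,6,6,0],
  [2,7,8],
  [2,0,5,5],
  [2,5,7],
  [2,1,4,5,1],
  [2,0,8,5],
  [2,4,2,2],
  [2,7,7,1],
  [2,8,5,4],
  [2,6,8,7,1],
  [2,4,5,4],
  [2,4,8,4],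
  [2,3,8],
  [2,4,7,8,4],
  [2,6,4,3]]

/-- Words. -/
def wordsD50 : List (List Nat) := [
  [2,3,7,0,0],
  [2,2,5,1],
  [2,8,0,4,1],
  [2,7,8,4],
  [2,7,3,3],
  [2,0,1,4],
  [2,7,3],
  [2,8,7,0],
  [2,5,8,2,2],
  [2,6,4,0],
  [2,2,6,4],
  [2,5,7,5],
  [2,5,4],
  [2,3,3,3],
  [2,5,4,0],
  [2,6,6,4],
  [2,8,1,8],
  [2,3,3,5,1],
  [2,1,4,2,1],
  [2,2,3,6],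
  [2,0,0,6],
  [2,6,5],
  [2,2,2],
  [2,6,2,1],
  [2,5,5,3],
  [2,7,6,7],
  [2,4,0],
  [2,1,1,6],
  [2,8,0,6],
  [2,5,8,2],
  [2,2,6,4,0],
  [2,2,4,0],
  [2,7,5,1],
  [2,1,2,1,0],
  [2,5,3,2,2],
  [2,2,7,3],
  [2,1,4,1],
  [2,4,0,3],
  [2,4,2,1,0],
  [2,1,5,5,1],
  [2,0,1,4,1],
  [2,0,1,6],
  [2,1,5,4],
  [2,7,5,0],
  [2,8,3],
  [2,1,6,6,0],
  [2,1,8,3],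
  [2,0,3,0],
  [2,7,0,0],
  [2,7,5,1,0],
  [2,0,7,2],
  [2,6,0,4],
  [2,3,7,3],
  [2,5,4,6,1],
  [2,6,3,3],
  [2,4,8,1],
  [2,3,8,3],
  [2,6,8,2,2],
  [2,3,0,7,2],
  [2,3,4,3,0],
  [2,4,4,2],
  [2,8,2,2],
  [2,2,2,7],
  [2,8,1,6],
  [2,8,5,5],
  [2,8,7,6,0],
  [2,8,1,6,0],
  [2,5,0,4],
  [2,8,3,0],
  [2,6,5,0],
  [2,2,8,6],
  [2,3,4,8],
  [2,2,2,3,3],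
  [2,5,7,8,1],
  [2,5,4,8],
  [2,6,7,1],
  [2,7,4,4,0],
  [2,3,2,1],
  [2,7,5],
  [2,1,1,4,0],
  [2,6,0,8,0],
  [2,6,8,2],
  [2,5,7,1],
  [2,6,4],
  [2,1,1],
  [2,3,2,5],
  [2,1,2,5],
  [2,4,6,0],
  [2,1,2,4,0],
  [2,7,1,5,0],
  [2,1,7,8],
  [2,6],
  [2,5,7,4],
  [2,1,5,7],
  [2,5,8,6],
  [2,1,0,1,1],
  [2,3,5,4],
  [2,3,8,5,5],
  [2,7,7],
  [2,4,5,0]]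

/-- Words. -/
def wordsD51 : List (List Nat) := [
  [2,5,5,7],
  [2,0,0,3,0],
  [2,1,8,4],
  [2,7,0,4],
  [2,2,3,2],
  [2,3,4,2],
  [2,5,6,8],
  [2,8,5,0],
  [2,2,3],
  [2,5,8],
  [2,7,8,0],
  [2,4,6,5,1],
  [2,2,3,3],
  [2,2,5,6,0],
  [2,5,1,0],
  [2,6,1],
  [2,1,7,0],
  [2,5,4,1],
  [2,6,2,1,0],
  [2,8,4],
  [2,2,7,2],
  [2,0,1,0,3],
  [2,3,4,3],
  [2,1,5,3],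
  [2,7,2,8],
  [2,5,0],
  [2,6,1,2],
  [2,8,2,7],
  [2,1,6,8],
  [2,4,6],
  [2,0,5,1],
  [2,1,4,2,2],
  [2,0,3,2],
  [2,4,6,1],
  [2,6,5,6,0],
  [2,5,6,1],
  [2,6,2,8],
  [2,7,4],
  [2,1,8,3,0],
  [2,7,6,5],
  [2,1,2],
  [2,2,6,8],
  [2,5,5,1,1],
  [2,0,8,3],
  [2,3,5,4,0],
  [2,2,3,7,1],
  [2,4,3,5,0],
  [2,2,2,2,1],
  [2,7,2,5],
  [2,6,3,2],
  [2,1,1,7],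
  [2,0,6,5,0],
  [2,1,8,0,0],
  [2,4,3],
  [2,7,0,1],
  [2,4,6,5],
  [2,6,2,3,0],
  [2,6,4,2,1],
  [2,1,7],
  [2,8,6],
  [2,5,8,8],
  [2,6,8,1],
  [2,2,3,3,0],
  [2],
  [2,2,6,0],
  [2,5,5,5],
  [2,1,6,0,1],
  [2,5,3,0],
  [2,6,6],
  [2,2,8,0],
  [2,2,8,0,1],
  [2,8,2,3,0],
  [2,0,0,3],
  [2,8,0,5],
  [2,0,0,7,2],
  [2,4,3,3],
  [2,2,7,0],
  [2,8,8,4],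
  [2,1,0,7,0],
  [2,3,6,7],
  [2,5,6,2,1],
  [2,5,2,3],
  [2,2,1,5,2],
  [2,8,5,8],
  [2,7,1,4],
  [2,4,8,0],
  [2,7,7,2],
  [2,5,3,4],
  [2,5,2,3,3],
  [2,0,5],
  [2,1,6,6],
  [2,8,0,0,1],
  [2,7,7,3],
  [2,1,2,7,2],
  [2,5,3,6],
  [2,4],
  [2,8,3,4],
  [2,2,7,6],
  [2,0,4,2],
  [2,0,7,5]]

/-- Words. -/
def wordsD52 : List (List Nat) := [
  [2,8,2,3,2],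
  [2,4,0,1],
  [2,8,0,0],
  [2,5,3,7,2],
  [2,8,0,8],
  [2,0,5,7],
  [2,2,3,0],
  [2,7,3,2],
  [2,5,7,6,0],
  [2,5,5,5,1],
  [2,3,7,7],
  [2,3,0,5],
  [2,6,0,7],
  [2,3,4],
  [2,7,6,4],
  [2,4,7,0,0],
  [2,8,2,5],
  [2,6,1,4,0],
  [2,2,7],
  [2,3,3,3,0],
  [2,6,7,3,0],
  [2,4,6,5,0],
  [2,3,6,4,0],
  [2,0,6,4],
  [2,1,1,1],
  [2,5,8,0,0],
  [2,3,4,0,0],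
  [2,1,8,7],
  [2,2,5,3],
  [2,4,3,5,1],
  [2,4,7,5],
  [2,1,8,0,4],
  [2,3,5],
  [2,2,8,8,1],
  [2,4,3,5],
  [2,2,7,2,2],
  [2,8,1,0,0],
  [2,6,4,8,1],
  [2,2,5,2],
  [2,0,7,1],
  [2,5,7,7],
  [2,6,7,3],
  [2,4,8,0,1],
  [2,8,4,5],
  [2,1,8,7,1],
  [2,3,4,5,0],
  [2,4,7,4],
  [2,2,6,1,0],
  [2,6,7,5],
  [2,4,6,8],
  [2,1,7,1],
  [2,8,6,1],
  [2,3,6,2,2],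
  [2,4,1,7],
  [2,7,4,2],
  [2,4,7,5,0],
  [2,7,3,4,0],
  [2,0,1,1],
  [2,1,5,0,0],
  [2,6,0,5],
  [2,5,2,5],
  [2,5,4,3,0],
  [2,8,2,7,0],
  [2,7,2,1],
  [2,8,6,0,0],
  [2,6,5,2],
  [2,8,5],
  [2,7,0,6],
  [2,3,3],
  [2,7,6,1],
  [2,0,4,1,1],
  [2,4,3,0],
  [2,3,5,8,2],
  [2,8,6,4],
  [2,3,8,3,0],
  [2,3,6,7,1],
  [2,6,1,8],
  [2,8,3,2,1],
  [2,7,2,3],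
  [2,7,3,6],
  [2,4,6,2],
  [2,5,6],
  [2,7,6,1,0],
  [2,0,6,3],
  [2,2,8,4,0],
  [2,7,0],
  [2,3],
  [2,1,0,5,0],
  [2,8,7,1],
  [2,2,8,7],
  [2,7,4,1,0],
  [2,3,8,0],
  [2,3,8,8],
  [2,5,4,2,1],
  [2,3,6,1],
  [2,7,5,7],
  [2,0,4,1],
  [2,5,6,0,0],
  [2,5,4,2],
  [2,7,5,3]]

/-- Words. -/
def wordsD53 : List (List Nat) := [
  [2,5,6,0],
  [2,2,5,4],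
  [2,0,6],
  [2,3,0],
  [2,1,5,2],
  [2,2,7,5],
  [2,6,2,6],
  [2,4,1,0],
  [2,5,1,2],
  [2,2,7,4],
  [2,7,8,7],
  [2,3,5,5],
  [2,8,4,0,0],
  [2,2,2,6,0],
  [2,5,3,2,1],
  [2,3,6,0,0],
  [2,6,6,8],
  [2,8,6,3,3],
  [2,0,7,7,2],
  [2,7,3,4,1],
  [2,1,4,8,0],
  [2,6,5,7],
  [2,7,4,7],
  [2,5],
  [2,8,7,0,0],
  [2,3,2,6],
  [2,0,1,4,0],
  [2,5,5,4],
  [2,0,4,8],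
  [2,2,5,8],
  [2,6,0,0],
  [2,5,3,2],
  [2,2,5,3,0],
  [2,0,6,1],
  [2,7,4,3],
  [2,2,6],
  [2,2,5,0],
  [2,3,6,1,0],
  [2,8,7,8],
  [2,4,4,0],
  [2,4,6,1,0],
  [2,1,4,3,0],
  [2,8,7,5],
  [2,5,7,2],
  [2,7,1],
  [2,2,7,4,2],
  [2,1,2,8],
  [2,3,5,7,0],
  [2,3,4,7],
  [2,2,4],
  [2,0,5,8],
  [2,5,5,0,0],
  [2,2,7,3,0],
  [2,3,2,2],
  [2,1,0,7],
  [2,5,7,8],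
  [2,6,2],
  [2,8,2],
  [2,1,8,4,0],
  [2,0,8,4],
  [2,4,4,0,0],
  [2,3,4,4,0],
  [2,1,4],
  [2,1,6],
  [2,0,0,8],
  [2,5,5,0],
  [2,8,5,2,1],
  [2,6,3,3,3],
  [2,1,6,3,2],
  [2,0,4,5,0],
  [2,2,5,4,0],
  [2,0,5,0],
  [2,0,4],
  [2,2,1,1],
  [2,3,5,8],
  [2,1,8,2],
  [2,3,5,1,0],
  [2,1,4,2],
  [2,5,5],
  [2,7],
  [2,0,3,5,0],
  [2,8,5,7],
  [2,8,3,8],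
  [2,7,6,0],
  [2,4,5,7],
  [2,8,5,1,2],
  [2,0,3,4],
  [2,5,3,3],
  [2,0,0,5],
  [2,0,1,0],
  [2,6,3,4],
  [2,4,1,2],
  [2,1,6,3],
  [2,8,8,3,0],
  [2,4,0,8,0],
  [2,1,8],
  [2,1,6,5,1],
  [2,7,2],
  [2,5,7,8,0],
  [2,3,4,0]]

/-- Words. -/
def wordsD54 : List (List Nat) := [
  [2,7,6],
  [2,3,5,1],
  [2,4,5,3],
  [2,3,2],
  [2,7,5,6],
  [2,3,7,0],
  [2,1,0,3],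
  [2,8,0,3],
  [2,3,7,8,1],
  [2,5,7,3,0],
  [2,4,8,6],
  [2,6,3,8],
  [2,4,2,1],
  [2,3,0,4,0],
  [2,5,7,3],
  [2,1,4,3],
  [2,1,1,2],
  [2,4,2],
  [2,1,7,7,2],
  [2,6,4,3,0],
  [2,7,8,5],
  [2,2,1,1,1],
  [2,1,5,6],
  [2,0,3,4,3],
  [2,3,8,0,0],
  [2,4,6,8,1],
  [2,5,2,1],
  [2,6,2,5],
  [2,4,1,1,2],
  [2,6,3,8,0],
  [2,4,4,6,1],
  [2,7,8,1],
  [2,6,1,1,1],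
  [2,1,8,1],
  [2,3,2,3],
  [2,6,0,8],
  [2,5,1,4,0],
  [2,4,2,6,1],
  [2,5,5,6],
  [2,3,8,8,1],
  [2,6,8,6],
  [2,7,0,5,0],
  [2,5,8,5,0],
  [2,1,4,0],
  [2,4,5,5],
  [2,6,3],
  [2,4,4,7],
  [2,3,7,2],
  [2,2,8,7,1],
  [2,0,8,6],
  [2,8,1,5,1],
  [2,8,5,3],
  [2,3,8,7],
  [2,0,8],
  [2,7,4,8],
  [2,6,7,4,0],
  [2,8,2,1],
  [2,7,2,7],
  [2,7,4,0],
  [2,2,4,2,1],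
  [2,3,2,4],
  [2,1,8,6],
  [2,1,5,6,0],
  [2,8,4,6,1],
  [2,0,5,2,2],
  [2,4,8,2],
  [2,6,1,0],
  [2,0,0],
  [2,6,5,5],
  [2,1,1,8],
  [2,3,5,0,0],
  [2,8,6,0],
  [2,4,7],
  [2,1,2,6],
  [2,5,2,6],
  [2,7,7,6],
  [2,2,1,6],
  [2,6,7,4],
  [2,6,0,1],
  [2,5,0,0],
  [2,0,7,4],
  [2,1,0],
  [2,0,7,4,2],
  [2,7,4,6,0],
  [2,1,1,0,0],
  [2,2,4,2],
  [2,4,2,7],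
  [2,8,1,2],
  [2,4,8,0,0],
  [2,3,4,6,0],
  [2,1,0,4,0],
  [2,8],
  [2,7,4,1],
  [2,0,8,0],
  [2,1,5,1],
  [2,6,1,5,0],
  [2,8,1],
  [2,6,3,0],
  [2,7,3,4],
  [2,0,1,2]]

/-- Words. -/
def wordsD55 : List (List Nat) := [
  [2,3,7,5,1],
  [2,6,0],
  [2,7,5,5],
  [2,1],
  [2,7,8,7,0],
  [2,3,3,0],
  [2,1,6,1],
  [2,2,4,1],
  [2,4,6,3],
  [2,8,2,1,0],
  [2,1,7,2],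
  [2,2,2,4,2],
  [2,6,8],
  [2,6,6,2],
  [2,0,8,8],
  [2,3,0,1,1],
  [2,0,3,5],
  [2,8,2,8,0],
  [2,0],
  [2,8,8,1],
  [2,5,6,3,0],
  [2,5,3],
  [2,2,2,1,0],
  [2,7,1,1],
  [2,5,0,1,0],
  [2,1,8,0],
  [2,1,8,8,1],
  [2,7,0,7,2],
  [2,4,7,8,1],
  [2,2,8,5],
  [2,4,1],
  [2,2,5],
  [2,6,3,6],
  [2,0,5,2],
  [2,4,8],
  [2,0,3,3,0],
  [2,6,5,1],
  [2,5,2,7,0],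
  [2,7,2,2],
  [2,0,0,1,1],
  [2,5,6,7],
  [2,5,8,4],
  [2,0,0,1],
  [2,1,5,0],
  [2,4,5],
  [2,4,5,1],
  [2,3,7,5],
  [2,2,8,2],
  [2,6,2,2],
  [2,8,3,5],
  [2,1,6,1,2],
  [2,5,1,4,1],
  [2,4,1,1],
  [2,3,8,4],
  [2,4,7,6],
  [2,0,5,3],
  [2,5,0,8],
  [2,8,3,3,0],
  [2,2,6,0,0],
  [2,5,7,4,1],
  [2,5,7,0],
  [2,6,5,1,0],
  [2,7,3,5],
  [2,0,6,0],
  [2,1,1,1,0],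
  [2,3,5,0],
  [2,5,1,4],
  [2,1,0,0],
  [2,3,6,0,1],
  [2,1,1,0],
  [2,5,5,1],
  [2,3,3,6],
  [2,2,1,0],
  [2,2,1],
  [2,6,0,1,2],
  [2,8,7,4],
  [2,5,3,5],
  [2,5,2,2],
  [2,2,8],
  [2,7,5,4],
  [2,6,2,3],
  [2,0,5,0,3],
  [2,7,6,2],
  [2,8,0,1],
  [2,2,2,1],
  [2,5,2],
  [2,5,0,3],
  [2,3,7,1],
  [2,1,4,4,0],
  [2,3,3,4],
  [2,2,6,3],
  [2,8,8],
  [2,4,4,4,1],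
  [2,2,4,7],
  [2,8,0],
  [2,3,5,3],
  [2,1,0,6,0],
  [2,4,5,2,1],
  [2,0,1],
  [2,0,4,3]]

/-- All words, each preceded by the number of its representative, sorted by the points reached. -/
def wordsD : List (List Nat) :=
  List.flatten [wordsD0,wordsD1,wordsD2,wordsD3,wordsD4,wordsD5,wordsD6,wordsD7,wordsD8,wordsD9,wordsD10,wordsD11,wordsD12,wordsD13,wordsD14,wordsD15,wordsD16,wordsD17,wordsD18,wordsD19,wordsD20,wordsD21,wordsD22,wordsD23,wordsD24,wordsD25,wordsD26,wordsD27,wordsD28,wordsD29,wordsD30,wordsD31,wordsD32,wordsD33,wordsD34,wordsD35,wordsD36,wordsD37,wordsD38,wordsD39,wordsD40,wordsD41,wordsD42,wordsD43,wordsD44,wordsD45,wordsD46,wordsD47,wordsD48,wordsD49,wordsD50,wordsD51,wordsD52,wordsD53,wordsD54,wordsD55]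

end Cfsg.Agent.Co3Rank
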