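import Mathlib.Data.List.Range

/-!
# Images of the eightfold unit vectors
-/

set_option autoImplicit false

namespace Cfsg.Agent.Co3Rank

/-- Images under one element of order 2. -/
def imgTable : List (List Int) := [
  [6,0,2,0,2,0,0,2,0,0,0,0,0,0,0,0,0,2,2,0,2,0,0,-2],
  [0,-2,0,2,0,-2,2,0,2,-2,2,-2,2,-2,2,2,2,0,0,2,0,-2,2,0],
  [2,0,-2,0,6,0,0,-2,0,0,0,0,0,0,0,0,0,-2,-2,0,-2,0,0,2],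
  [0,2,0,2,0,2,2,0,-2,-2,2,2,-2,-2,2,-2,-2,0,0,2,0,2,2,0],
  [2,0,6,0,-2,0,0,-2,0,0,0,0,0,0,0,0,0,-2,-2,0,-2,0,0,2],
  [0,-2,0,2,0,-2,2,0,2,2,-2,2,-2,2,2,2,-2,0,0,-2,0,2,2,0],
  [0,2,0,2,0,2,-2,0,2,2,2,-2,-2,-2,2,2,2,0,0,-2,0,2,-2,0],
  [2,0,-2,0,-2,0,0,-2,0,0,0,0,0,0,0,0,0,6,-2,0,-2,0,0,2],
  [0,2,0,-2,0,2,2,0,2,2,2,2,2,-2,-2,2,-2,0,0,-2,0,-2,2,0],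
  [0,-2,0,-2,0,2,2,0,2,2,2,2,-2,2,2,-2,2,0,0,2,0,-2,-2,0],
  [0,2,0,2,0,-2,2,0,2,2,-2,2,2,-2,-2,-2,2,0,0,2,0,2,-2,0],
  [0,-2,0,2,0,2,-2,0,2,2,2,-2,2,2,-2,-2,-2,0,0,2,0,2,2,0],
  [0,2,0,-2,0,-2,-2,0,2,-2,2,2,2,2,2,-2,2,0,0,-2,0,2,2,0],
  [0,-2,0,-2,0,2,-2,0,-2,2,-2,2,2,-2,2,2,2,0,0,2,0,2,2,0],
  [0,2,0,2,0,2,2,0,-2,2,-2,-2,2,2,2,-2,2,0,0,-2,0,-2,2,0],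
  [0,2,0,-2,0,2,2,0,2,-2,-2,-2,-2,2,-2,2,2,0,0,2,0,2,2,0],
  [0,2,0,-2,0,-2,2,0,-2,2,2,-2,2,2,2,2,-2,0,0,2,0,2,-2,0],
  [2,0,-2,0,-2,0,0,6,0,0,0,0,0,0,0,0,0,-2,-2,0,-2,0,0,2],
  [2,0,-2,0,-2,0,0,-2,0,0,0,0,0,0,0,0,0,-2,-2,0,6,0,0,2],
  [0,2,0,2,0,-2,-2,0,-2,2,2,2,-2,2,-2,2,2,0,0,2,0,-2,2,0],
  [2,0,-2,0,-2,0,0,-2,0,0,0,0,0,0,0,0,0,-2,6,0,-2,0,0,2],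
  [0,-2,0,2,0,2,2,0,-2,-2,2,2,2,2,-2,2,2,0,0,-2,0,2,-2,0],
  [0,2,0,2,0,2,-2,0,2,-2,-2,2,2,2,2,2,-2,0,0,2,0,-2,-2,0],
  [-2,0,2,0,2,0,0,2,0,0,0,0,0,0,0,0,0,2,2,0,2,0,0,6]]

end Cfsg.Agent.Co3Rank
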