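import Cfsg.Agent.HSGraph.Fpf
import Cfsg.Agent.McLSimple.RankFour
import Cfsg.Agent.Co3Rank.Img
import Cfsg.Agent.Co3Rank.DataA
import Cfsg.Agent.Co3Rank.DataB
import Cfsg.Agent.Co3Rank.DataC
import Cfsg.Agent.Co3Rank.DataD

/-!
# The suborbits of the group of degree 11178
-/

set_option autoImplicit false

namespace Cfsg.Agent.Co3Rank

open Cfsg CfsgLib CfsgLib.Golay MulAction
open Cfsg.Agent.McLSimple (toL enc incr incr_pairwise getD_toL exists_reach tripleStab act orbGens)
open Cfsg.Agent.HSGraph (Lat.tabVec Lat.tabPerm Lat.tabPts Lat.fpfPts_apply Lat.exists_fpf_act Lat.pairStab)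

attribute [local irreducible] CfsgLib.Leech.shortVecs CfsgLib.Leech.halfTable CfsgLib.Leech.quarterTable

/-- The index of the vector attached to a point. -/
def ptIdx (p : GolayPt) : Fin 100 := if p = none ∨ p = some 0 then 77 else Fin.ofNat 100 (77 + idx p)

/-- The combination giving eight times a unit vector. -/
def comb {A : Type*} [AddGroup A] (F : Fin 100 → A) (V U' : A) (p : GolayPt) : A :=
  if p = none then F 77 + U'
  else if p = some 0 then F 77 - U'
  else -(F (ptIdx p) + V + (F (ptIdx p) + V) + (F 77 + U'))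

lemma comb_eight : ∀ p q : GolayPt,
    comb Lat.tabVec Spor.vecV Spor.vecU' p q = if q = p then 8 else 0 := by decide +kernel

lemma comb_table : ∀ p q : GolayPt,
    comb (fun i => Lat.tabVec (Lat.tabPerm i)) Spor.vecV Spor.vecU' p q =
      (imgTable.getD (idx p) []).getD (idx q) 0 := by decide +kernel

lemma coe_comb (F : Fin 100 → leechLattice) (V U' : leechLattice) (p : GolayPt) :
    ((comb F V U' p : leechLattice) : GolayPt → ℤ) =
      comb (fun i => (F i : GolayPt → ℤ)) (V : GolayPt → ℤ) (U' : GolayPt → ℤ) p := by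
  unfold comb; split_ifs <;> rfl

lemma smul_comb (g : Co0) (F : Fin 100 → leechLattice) (V U' : leechLattice) (p : GolayPt) :
    g • comb F V U' p = comb (fun i => g • F i) (g • V) (g • U') p := by
  unfold comb; split_ifs <;> simp only [Leech.smul_add', Leech.smul_sub', Leech.smul_neg']

/-- The linear map in coordinates. -/
def matAct (x : List ℤ) : List ℤ :=
  (List.range 24).map fun k => ((List.range 24).map fun p => x.getD p 0 * (imgTable.getD p []).getD k 0).sum / 8

lemma sum_range_eq (f : GolayPt → ℤ) : ∑ p, f p = ((List.range 24).map fun i => f (pt i)).sum := by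
  have hnd : ((List.range 24).map pt).Nodup := by decide +kernel
  have huniv : ((List.range 24).map pt).toFinset = Finset.univ := by decide +kernel
  rw [← huniv, List.sum_toFinset _ hnd, List.map_map]
  rfl

/-- An element of the stabiliser acting as that map. -/
lemma exists_mat : ∃ g ∈ Lat.pairStab, ∀ y : leechLattice,
    toL ((g • y : leechLattice) : GolayPt → ℤ) = matAct (toL (y : GolayPt → ℤ)) := by
  obtain ⟨g, -, hg⟩ := Lat.exists_fpf_act
  refine ⟨g, g.2, fun y => ?_⟩
  have htab : ∀ i, (g : Co0) • (Lat.tabPts i).1 = (Lat.tabPts (Lat.tabPerm i)).1 := fun i => by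
    rw [← Lat.fpfPts_apply, ← (hg _).1]; rfl
  have h8 : ∀ p, Leech.eightAt p = comb (fun i => (Lat.tabPts i).1) Spor.leechV Spor.leechU' p := fun p => by
    refine Subtype.ext (funext fun q => ?_)
    rw [coe_comb, Leech.eightAt_apply]
    exact (comb_eight p q).symm
  have himg : ∀ p q, (((g : Co0) • Leech.eightAt p : leechLattice) : GolayPt → ℤ) q =
      (imgTable.getD (idx p) []).getD (idx q) 0 := fun p q => by
    rw [h8, smul_comb, coe_comb]
    simp only [htab]
    rw [show (g : Co0) • Spor.leechV = Spor.leechV from g.2.1,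
      show (g : Co0) • Spor.leechU' = Spor.leechU' from g.2.2]
    exact comb_table p q
  have hsum : (8 : ℤ) • y = ∑ p, (y : GolayPt → ℤ) p • Leech.eightAt p := by
    refine Subtype.ext (funext fun q => ?_)
    simp only [AddSubgroup.coe_zsmul, AddSubgroup.val_finsetSum, Finset.sum_apply, Pi.smul_apply,
      smul_eq_mul, Leech.eightAt_apply, mul_ite, mul_zero, Finset.sum_ite_eq, Finset.mem_univ, if_true]
    ring
  have hgy : ∀ q, 8 * (((g : Co0) • y : leechLattice) : GolayPt → ℤ) q =
      ∑ p, (y : GolayPt → ℤ) p * (imgTable.getD (idx p) []).getD (idx q) 0 := fun q => by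
    have h := congrArg (fun z : leechLattice => (((g : Co0) • z : leechLattice) : GolayPt → ℤ) q) hsum
    simp only [Leech.smul_zsmul', Leech.smul_sum', AddSubgroup.coe_zsmul, AddSubgroup.val_finsetSum,
      Finset.sum_apply, Pi.smul_apply, smul_eq_mul, himg] at h
    exact h
  refine List.ext_getElem (by simp [toL, matAct]) fun k h1 h2 => ?_
  have hk : k < 24 := by simpa [toL] using h1
  simp only [toL, matAct, List.getElem_map, List.getElem_range]
  have h := hgy (pt k)
  rw [sum_range_eq, idx_pt k hk] at h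
  rw [show (List.map (fun p => (List.map (fun i => (y : GolayPt → ℤ) (pt i)) (List.range 24)).getD p 0 *
      (imgTable.getD p []).getD k 0) (List.range 24)) = List.map (fun i => (y : GolayPt → ℤ) (pt i) *
      (imgTable.getD (idx (pt i)) []).getD k 0) (List.range 24) from List.map_congr_left fun i hi => by
    have hi' := List.mem_range.mp hi
    rw [show (List.map (fun i => (y : GolayPt → ℤ) (pt i)) (List.range 24)).getD i 0 = (y : GolayPt → ℤ) (pt i)
      from getD_toL _ hi', idx_pt i hi'], ← h]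
  omega

/-- Apply a word of permutations; the head names the representative. -/
def reachRep (reps : List (List ℤ)) : List ℕ → List ℤ
  | [] => []
  | j :: w => McLSimple.reach (reps.getD j []) w

/-- The representatives. -/
def repsOf (base : List ℤ) (links : List (List ℕ)) : List (List ℤ) :=
  base :: links.map fun w => matAct (McLSimple.reach base w)

/-- The check of a certificate. -/
def checkOK (base : List ℤ) (links words : List (List ℕ)) : Bool :=
  incr (words.map (enc ∘ reachRep (repsOf base links))) &&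
  (links.all fun w => w.all fun k => decide (k < orbGens.length)) &&
  words.all fun l => match l with
    | [] => false
    | j :: w => decide (j < (repsOf base links).length) && w.all fun k => decide (k < orbGens.length)

theorem checkA : checkOK baseA linkA wordsA = true ∧ wordsA.length = 352 := by decide +kernel

theorem checkB : checkOK baseB linkB wordsB = true ∧ wordsB.length = 1100 := by decide +kernel

theorem checkC : checkOK baseC linkC wordsC = true ∧ wordsC.length = 4125 := by decide +kernel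

theorem checkD : checkOK baseD linkD wordsD = true ∧ wordsD.length = 5600 := by decide +kernel

/-- A suborbit candidate: invariants with the two vectors. -/
def InS (e : ℤ) (x : GolayPt → ℤ) : Prop :=
  sqNorm x = 32 ∧ (∑ p, x p) + 4 * x none = 16 ∧ x none - x (some 0) = e

lemma inS_iff (e : ℤ) (x : GolayPt → ℤ) :
    InS e x ↔ sqNorm x = 32 ∧ dotInt Spor.vecV x = -16 ∧ dotInt Spor.vecU' x = 4 * e := by
  simp only [InS, HSGraph.Lat.dot_vecV, HSGraph.Lat.dot_vecU']
  constructor <;> rintro ⟨h1, h2, h3⟩ <;> exact ⟨h1, by omega, by omega⟩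

lemma inS_smul {e : ℤ} {g : Co0} (hg : g ∈ Lat.pairStab) {x : leechLattice} (hx : InS e x) :
    InS e (g • x : leechLattice) := by
  rw [inS_iff] at hx ⊢
  obtain ⟨h1, h2, h3⟩ := hx
  refine ⟨(Leech.sqNorm_smul g x).trans h1, ?_, ?_⟩
  · have := Leech.dot_smul' g Spor.leechV x
    rw [show g • Spor.leechV = Spor.leechV from hg.1] at this
    exact this.trans h2
  · have := Leech.dot_smul' g Spor.leechU' x
    rw [show g • Spor.leechU' = Spor.leechU' from hg.2] at this
    exact this.trans h3

/-- The count of candidates from the table. -/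
noncomputable def countS (e : ℤ) : ℕ :=
  ∑ a ∈ Finset.Icc (-4 : ℤ) 4, Leech.PinCount.countWith 2
    [1, 0, 0, 0, 330, 176, 176, 77, 616, 672, 672, 616, 77, 176, 176, 330, 0, 0, 0, 1]
    [a, a - e] (decide (a % 2 = 1)) [16 - 4 * a]

lemma ncard_inS (e : ℤ) : {x : GolayPt → ℤ | x ∈ leechLattice ∧ InS e x}.ncard = countS e := by
  have hset : {x : GolayPt → ℤ | x ∈ leechLattice ∧ InS e x} =
      ⋃ a ∈ Finset.Icc (-4 : ℤ) 4, Leech.PinCount.pinned [none, some 0] [a, a - e] [16 - 4 * a] := by
    ext w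
    simp only [Leech.PinCount.pinned, InS, Set.mem_ofPred_eq, Set.mem_iUnion, Finset.mem_Icc,
      List.zip_cons_cons, List.zip_nil_right, List.mem_cons, List.not_mem_nil, or_false,
      forall_eq_or_imp, forall_eq, exists_prop]
    constructor
    · rintro ⟨hw, hn, hs, h0⟩
      exact ⟨w none, Leech.PinCount.min_value_le hw hn none, hw, hn, ⟨rfl, by omega⟩, by omega⟩
    · rintro ⟨a, -, hw, hn, ⟨h1, h2⟩, hs⟩
      exact ⟨hw, hn, by omega, by omega⟩
  have hfin : {w : GolayPt → ℤ | w ∈ leechLattice ∧ sqNorm w = 32}.Finite :=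
    Set.finite_of_ncard_pos (by rw [Leech.ncard_norm_32]; norm_num)
  rw [hset, ← Finset.set_biUnion_coe,
    Set.Finite.ncard_biUnion (Finset.Icc (-4 : ℤ) 4).finite_toSet
      (fun a _ => hfin.subset fun w hw => ⟨hw.1, hw.2.1⟩) ?_, finsum_mem_coe_finset]
  · refine Finset.sum_congr rfl fun a ha => Leech.PinCount.ncard_pinned_pair a (a - e)
      (decide (a % 2 = 1)) (S := [16 - 4 * a]) (by simp) ?_
    intro s hs
    rw [Finset.mem_Icc] at ha
    rw [List.mem_singleton] at hs
    subst hs
    by_cases h : a % 2 = 1 <;> simp only [h, decide_true, decide_false, if_true, if_false,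
      Bool.false_eq_true] <;> omega
  · intro a _ b _ hab
    rw [Function.onFun, Set.disjoint_left]
    rintro w ⟨-, -, ha, -⟩ ⟨-, -, hb, -⟩
    exact hab ((ha (none, a) (by simp)).symm.trans (hb (none, b) (by simp)))

theorem count_values :
    countS (-2) = 352 ∧ countS 4 = 1100 ∧ countS 0 = 4125 ∧ countS 2 = 5600 ∧ countS 8 = 1 := by
  decide +kernel

/-- A candidate set in the lattice. -/
def sSet (e : ℤ) : Set leechLattice := {x | InS e (x : GolayPt → ℤ)}

lemma ncard_sSet (e : ℤ) : (sSet e).ncard = countS e := (Leech.ncard_coe (InS e)).trans (ncard_inS e)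

lemma sSet_finite (e : ℤ) : (sSet e).Finite := by
  refine (Set.Finite.preimage Subtype.val_injective.injOn
    (Set.finite_of_ncard_pos (s := {w : GolayPt → ℤ | w ∈ leechLattice ∧ sqNorm w = 32})
      (by rw [Leech.ncard_norm_32]; norm_num))).subset fun x hx => ⟨x.2, hx.1⟩

lemma exists_orbit {base : List ℤ} {links words : List (List ℕ)} {e : ℤ} {n : ℕ}
    (hcheck : checkOK base links words = true ∧ words.length = n) (hcount : countS e = n)
    (htest : Leech.LeechTest (fun p => base.getD (idx p) 0)) (hlen : base.length = 24)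
    (hz : InS e (fun p => base.getD (idx p) 0)) :
    ∃ y : leechLattice, y ∈ sSet e ∧ orbit Lat.pairStab y = sSet e := by
  refine ⟨⟨fun p => base.getD (idx p) 0, Leech.mem_of_test htest⟩, hz, ?_⟩
  set y : leechLattice := ⟨fun p => base.getD (idx p) 0, Leech.mem_of_test htest⟩ with hy
  have hyb : toL (y : GolayPt → ℤ) = base := by
    refine List.ext_getElem (by simp [toL, hlen]) fun i h1 h2 => ?_
    have hi : i < 24 := by simpa [toL] using h1
    simp only [toL, List.getElem_map, List.getElem_range, hy, idx_pt i hi]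
    exact List.getD_eq_getElem _ _ h2
  refine Set.eq_of_subset_of_ncard_le ?_ ?_ (sSet_finite e)
  · rintro _ ⟨g, rfl⟩
    exact inS_smul g.2 hz
  obtain ⟨hc, hn⟩ := hcheck
  simp only [checkOK, Bool.and_eq_true] at hc
  obtain ⟨⟨hincr, hlinks⟩, hwords⟩ := hc
  simp only [List.all_eq_true, decide_eq_true_eq] at hlinks
  rw [List.all_eq_true] at hwords
  have htriple : tripleStab ≤ Lat.pairStab := fun g hg => ⟨hg.1.1, hg.2⟩
  obtain ⟨m, hm, hmy⟩ := exists_mat
  have hrep : ∀ r ∈ repsOf base links, ∃ g ∈ Lat.pairStab, toL ((g • y : leechLattice) : GolayPt → ℤ) = r := by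
    intro r hr
    rcases List.mem_cons.mp hr with rfl | hr
    · exact ⟨1, one_mem _, by rw [one_smul]; exact hyb⟩
    · obtain ⟨w, hw, rfl⟩ := List.mem_map.mp hr
      obtain ⟨g, hg, he⟩ := exists_reach hyb w (hlinks w hw)
      exact ⟨m * g, mul_mem hm (htriple hg), by rw [mul_smul, hmy, he]⟩
  have hnd : (words.map (reachRep (repsOf base links))).Nodup := by
    refine List.Nodup.of_map enc ?_
    rw [List.map_map]
    exact (incr_pairwise _ hincr).imp ne_of_lt
  have hfin : (orbit Lat.pairStab y).Finite := (sSet_finite e).subset (by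
    rintro _ ⟨g, rfl⟩; exact inS_smul g.2 hz)
  have hlow : ((words.map (reachRep (repsOf base links))).toFinset : Set (List ℤ)) ⊆
      (fun x : leechLattice => toL (x : GolayPt → ℤ)) '' orbit Lat.pairStab y := by
    intro l hl
    rw [List.coe_toFinset, Set.mem_ofPred_eq, List.mem_map] at hl
    obtain ⟨jw, hjw, rfl⟩ := hl
    have h := hwords jw hjw
    rcases jw with _ | ⟨j, w⟩
    · simp at h
    simp only [Bool.and_eq_true, decide_eq_true_eq, List.all_eq_true] at h
    obtain ⟨g, hg, he⟩ := hrep ((repsOf base links).getD j []) (by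
      rw [List.getD_eq_getElem _ _ h.1]; exact List.getElem_mem h.1)
    obtain ⟨g', hg', he'⟩ := exists_reach he w h.2
    exact ⟨g' • g • y, ⟨⟨g' * g, mul_mem (htriple hg') hg⟩, mul_smul g' g y⟩, he'⟩
  have h1 := Set.ncard_le_ncard hlow (hfin.image _)
  rw [Set.ncard_coe_finset, List.toFinset_card_of_nodup hnd, List.length_map, hn] at h1
  rw [ncard_sSet, hcount]
  exact h1.trans (Set.ncard_image_le hfin)

/-- The two conditions. -/
def UCond (u x : leechLattice) : Prop :=
  sqNorm (x : GolayPt → ℤ) = 32 ∧ dotInt (u : GolayPt → ℤ) (x : GolayPt → ℤ) = -16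

lemma std_union : {x | UCond Spor.leechV x} =
    {Spor.leechU'} ∪ sSet (-2) ∪ sSet 4 ∪ sSet 0 ∪ sSet 2 := by
  obtain ⟨c1, c2, c3, c4, c5⟩ := count_values
  have hV : sqNorm (Spor.leechV : GolayPt → ℤ) = 48 := by show sqNorm Spor.vecV = 48; decide +kernel
  have h0 : sSet 8 = {Spor.leechU'} := by
    have hmem : Spor.leechU' ∈ sSet 8 := by
      show InS 8 Spor.vecU'
      unfold InS; decide +kernel
    obtain ⟨x, hx⟩ := Set.ncard_eq_one.mp ((ncard_sSet 8).trans c5)
    rw [hx] at hmem ⊢
    rw [hmem]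
  rw [← h0]
  have hfin : {x | UCond Spor.leechV x}.Finite :=
    Set.finite_of_ncard_pos (by
      show 0 < ({x : leechLattice | sqNorm (x : GolayPt → ℤ) = 32 ∧
        dotInt (Spor.leechV : GolayPt → ℤ) (x : GolayPt → ℤ) = -16}).ncard
      rw [Leech.ncard_middle_sixteen hV]; norm_num)
  have hd : ∀ a b : ℤ, a ≠ b → Disjoint (sSet a) (sSet b) := fun a b h =>
    Set.disjoint_left.mpr fun x hx hy => h (hx.2.2.symm.trans hy.2.2)
  symm
  refine Set.eq_of_subset_of_ncard_le ?_ ?_ hfin
  · intro x hx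
    have : ∀ e, x ∈ sSet e → UCond Spor.leechV x := fun e h => ⟨h.1, ((inS_iff e _).mp h).2.1⟩
    rcases hx with (((h | h) | h) | h) | h <;> exact this _ h
  · rw [Set.ncard_union_eq ?_ ((((sSet_finite _).union (sSet_finite _)).union (sSet_finite _)).union (sSet_finite _))
        (sSet_finite _),
      Set.ncard_union_eq ?_ (((sSet_finite _).union (sSet_finite _)).union (sSet_finite _)) (sSet_finite _),
      Set.ncard_union_eq ?_ ((sSet_finite _).union (sSet_finite _)) (sSet_finite _),
      Set.ncard_union_eq ?_ (sSet_finite _) (sSet_finite _), ncard_sSet, ncard_sSet, ncard_sSet, ncard_sSet,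
      ncard_sSet, c1, c2, c3, c4, c5]
    · exact (Leech.ncard_middle_sixteen hV).le
    all_goals try simp only [Set.disjoint_union_left]
    all_goals repeat' constructor
    all_goals exact hd _ _ (by norm_num)

theorem rank_five {u x : leechLattice} (hu : sqNorm (u : GolayPt → ℤ) = 48) (hx : x ∈ {z | UCond u z}) :
    ∃ y₁ ∈ {z | UCond u z}, ∃ y₂ ∈ {z | UCond u z}, ∃ y₃ ∈ {z | UCond u z}, ∃ y₄ ∈ {z | UCond u z},
      (orbit ↥(stabilizer Co0 u ⊓ stabilizer Co0 x) y₁).ncard = 352 ∧
      (orbit ↥(stabilizer Co0 u ⊓ stabilizer Co0 x) y₂).ncard = 1100 ∧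
      (orbit ↥(stabilizer Co0 u ⊓ stabilizer Co0 x) y₃).ncard = 4125 ∧
      (orbit ↥(stabilizer Co0 u ⊓ stabilizer Co0 x) y₄).ncard = 5600 ∧
      {z | UCond u z} = {x} ∪ orbit ↥(stabilizer Co0 u ⊓ stabilizer Co0 x) y₁ ∪
        orbit ↥(stabilizer Co0 u ⊓ stabilizer Co0 x) y₂ ∪ orbit ↥(stabilizer Co0 u ⊓ stabilizer Co0 x) y₃ ∪
        orbit ↥(stabilizer Co0 u ⊓ stabilizer Co0 x) y₄ := by
  have hV : sqNorm (Spor.leechV : GolayPt → ℤ) = 48 := by show sqNorm Spor.vecV = 48; decide +kernel
  obtain ⟨g₀, hg₀⟩ := Leech.middle_transitive hu hV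
  have hd := Leech.dot_smul' g₀ u x
  rw [hg₀, hx.2] at hd
  obtain ⟨g₁, hg₁, hg₁'⟩ := Leech.exists_fix_middle_sixteen (x' := Spor.leechU') hV
    ((Leech.sqNorm_smul g₀ x).trans hx.1) (by show sqNorm Spor.vecU' = 32; decide +kernel) hd
    (by show dotInt Spor.vecV Spor.vecU' = -16; decide +kernel)
  set g := g₁ * g₀ with hg
  have hgu : g • u = Spor.leechV := by rw [hg, mul_smul, hg₀, hg₁]
  have hgx : g • x = Spor.leechU' := by rw [hg, mul_smul, hg₁']
  have hcond : ∀ z : leechLattice, UCond u z ↔ g • z ∈ ({z : leechLattice | UCond Spor.leechV z} : Set leechLattice) := fun z => by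
    have e := Leech.dot_smul' g u z
    rw [hgu] at e
    simp only [UCond, Set.mem_ofPred_eq, Leech.sqNorm_smul, e]
  have hconj : ∀ k : Co0, k ∈ stabilizer Co0 u ⊓ stabilizer Co0 x ↔ g * k * g⁻¹ ∈ Lat.pairStab := fun k => by
    simp only [HSGraph.Lat.pairStab, Subgroup.mem_inf, mem_stabilizer_iff, ← hgu, ← hgx, mul_smul,
      inv_smul_smul, smul_left_cancel_iff]
  have himg : ∀ z : leechLattice, orbit ↥(stabilizer Co0 u ⊓ stabilizer Co0 x) (g⁻¹ • z) =
      (fun t : leechLattice => g • t) ⁻¹' orbit Lat.pairStab z := by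
    intro z
    ext t
    constructor
    · rintro ⟨⟨m, hm⟩, rfl⟩
      exact ⟨⟨g * m * g⁻¹, (hconj m).mp hm⟩, by
        show (g * m * g⁻¹) • z = g • m • g⁻¹ • z
        rw [mul_smul, mul_smul]⟩
    · rintro ⟨⟨m, hm⟩, e⟩
      refine ⟨⟨g⁻¹ * m * g, (hconj _).mpr (by simpa [mul_assoc] using hm)⟩, ?_⟩
      show (g⁻¹ * m * g) • g⁻¹ • z = t
      rw [mul_smul, mul_smul, smul_inv_smul, inv_smul_eq_iff]
      exact e
  have hn : ∀ S : Set leechLattice, ((fun t : leechLattice => g • t) ⁻¹' S).ncard = S.ncard := fun S =>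
    Set.ncard_preimage_of_injective_subset_range (MulAction.injective g)
      (fun z _ => ⟨g⁻¹ • z, smul_inv_smul g z⟩)
  obtain ⟨c1, c2, c3, c4, -⟩ := count_values
  obtain ⟨z₁, hz₁, o₁⟩ := exists_orbit (e := -2) checkA c1 (by decide +kernel) (by decide +kernel)
    (by unfold InS; decide +kernel)
  obtain ⟨z₂, hz₂, o₂⟩ := exists_orbit (e := 4) checkB c2 (by decide +kernel) (by decide +kernel)
    (by unfold InS; decide +kernel)
  obtain ⟨z₃, hz₃, o₃⟩ := exists_orbit (e := 0) checkC c3 (by decide +kernel) (by decide +kernel)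
    (by unfold InS; decide +kernel)
  obtain ⟨z₄, hz₄, o₄⟩ := exists_orbit (e := 2) checkD c4 (by decide +kernel) (by decide +kernel)
    (by unfold InS; decide +kernel)
  have hback : ∀ (e : ℤ) z, z ∈ sSet e → g⁻¹ • z ∈ {t | UCond u t} := fun e z hz => by
    rw [Set.mem_ofPred_eq, hcond, smul_inv_smul]
    exact ⟨hz.1, ((inS_iff e _).mp hz).2.1⟩
  refine ⟨g⁻¹ • z₁, hback _ _ hz₁, g⁻¹ • z₂, hback _ _ hz₂, g⁻¹ • z₃, hback _ _ hz₃, g⁻¹ • z₄, hback _ _ hz₄,
    ?_, ?_, ?_, ?_, ?_⟩
  · rw [himg, hn, o₁, ncard_sSet, c1]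
  · rw [himg, hn, o₂, ncard_sSet, c2]
  · rw [himg, hn, o₃, ncard_sSet, c3]
  · rw [himg, hn, o₄, ncard_sSet, c4]
  · rw [himg, himg, himg, himg, o₁, o₂, o₃, o₄,
      show ({x} : Set leechLattice) = (fun t : leechLattice => g • t) ⁻¹' {Spor.leechU'} by
        ext t; simp [← hgx],
      ← Set.preimage_union, ← Set.preimage_union, ← Set.preimage_union, ← Set.preimage_union, ← std_union]
    exact Set.ext hcond

end Cfsg.Agent.Co3Rank
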